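import Cfsg.Agent.Mrg.Omega.IId.Triangle
import Cfsg.Agent.Mrg.Omega.IITwo.Count
import Cfsg.Agent.Omega.IId.Big.TL
import Mathlib
import Cfsg.Agent.Mrg.Omega.BTwo.Conj

section


/-!
# II.d, THEOREM A (bb OMEGA 16750, helper309; 17530): the frame

`V i` (`i ∈ ι`) commuting four-groups; for `v ∈ V i`, `v ≠ 1`: `C_v = cz v`, `Q_v = qz v = O₂(C_v)`,
`W_v = KK v = {g ∈ C_v : [Q_v, g] ≤ ⟨v⟩}`, `U_v = UU V i v = ⟨(V^i)^{C_v}⟩` with `V^i = Vo V i = ∏_{j ≠ i} V j`,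
`X^i = XX V i = ⟨W_v : v ∈ V i, v ≠ 1⟩`, `D_i = DD V i = ⋂ U_p` (`p ∈ V j`, `p ≠ 1`, `j ≠ i`).

* `Fr S V` : the frame;
* `Fr.U_le_q`, `Fr.U_cent`, `Fr.U_sq` : `U_v ≤ Ω₁ Z(Q_v)`;
* `Fr.zero` : (0) of 16750.
-/

set_option autoImplicit false
set_option linter.unusedSectionVars false

namespace Cfsg.Agent.Omega.IId.Big

open Subgroup Cfsg
open Cfsg.Agent.ZN (o2 zc)
open Cfsg.Agent.MinSimple.VModule (le_o2 le_normalizer_o2 mem_zc o2_isPGroup o2_le)
open Triangle (KK KK_conj KK_le_o2 mem_cent mem_KK mem_zpowers_iff_of_sq cent_conj o2_cent_conj)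

universe u

variable {G : Type u} [Group G]

/-! ### Tools -/

section tools

theorem conj_mem {A B : Subgroup G} (h : A ≤ normalizer (B : Set G)) {a b : G} (ha : a ∈ A) (hb : b ∈ B) :
    a * b * a⁻¹ ∈ B := (mem_normalizer_iff.1 (h ha) b).1 hb

theorem norm_of {A B : Subgroup G} (h : ∀ a ∈ A, ∀ b ∈ B, a * b * a⁻¹ ∈ B) : A ≤ normalizer (B : Set G) :=
  Two.le_normalizer_of h

theorem conj_inv' {A : Subgroup G} {a x : G} (h : a ∈ A) : (∀ c ∈ A, c * x * c⁻¹ ∈ A) → a⁻¹ * x * a ∈ A := by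
  intro h1
  have := h1 a⁻¹ (inv_mem h)
  rwa [inv_inv] at this

/-- `O₂` of a normal subgroup is normal. -/
theorem norm_o2 {K H : Subgroup G} (hn : H ≤ normalizer (K : Set G)) :
    H ≤ normalizer (o2 K : Set G) := by
  apply norm_of
  intro h hh x hx
  have hc : (o2 K).map (MulAut.conj h).toMonoidHom ≤ o2 K := by
    apply le_o2
    · rintro _ ⟨y, hy, rfl⟩
      exact conj_mem hn hh (o2_le K hy)
    · exact (o2_isPGroup K).map _
    · apply norm_of
      intro y hy z hz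
      obtain ⟨w, hw, rfl⟩ := hz
      have h1 : h⁻¹ * y * h ∈ K := by
        have := conj_mem hn (inv_mem hh) hy
        rwa [inv_inv] at this
      refine ⟨(h⁻¹ * y * h) * w * (h⁻¹ * y * h)⁻¹, conj_mem (le_normalizer_o2 K) h1 hw, ?_⟩
      change h * ((h⁻¹ * y * h) * w * (h⁻¹ * y * h)⁻¹) * h⁻¹ = y * (h * w * h⁻¹) * y⁻¹
      group
  exact hc ⟨x, hx, rfl⟩

theorem o2_le_o2_of {K H : Subgroup G} (hK : K ≤ H) (hn : H ≤ normalizer (K : Set G)) : o2 K ≤ o2 H :=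
  le_o2 ((o2_le K).trans hK) (o2_isPGroup K) (norm_o2 hn)

/-- A 2-group normal in a normal subgroup. -/
theorem le_o2_of {A C H : Subgroup G} (hA : IsPGroup 2 A) (hAC : A ≤ C) (hCA : C ≤ normalizer (A : Set G))
    (hCH : C ≤ H) (hHC : H ≤ normalizer (C : Set G)) : A ≤ o2 H :=
  (le_o2 hAC hA hCA).trans (o2_le_o2_of hCH hHC)

/-- `⟨A^C⟩` -/
def cl (A C : Subgroup G) : Subgroup G := closure {x | ∃ c ∈ C, ∃ a ∈ A, x = c * a * c⁻¹}

theorem conj_mem_cl {A C : Subgroup G} {c a : G} (hc : c ∈ C) (ha : a ∈ A) : c * a * c⁻¹ ∈ cl A C :=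
  subset_closure ⟨c, hc, a, ha, rfl⟩

theorem le_cl {A C : Subgroup G} : A ≤ cl A C := by
  intro a ha
  have := conj_mem_cl (A := A) (C := C) C.one_mem ha
  simpa using this

theorem cl_le {A C B : Subgroup G} (h : ∀ c ∈ C, ∀ a ∈ A, c * a * c⁻¹ ∈ B) : cl A C ≤ B := by
  rw [cl, closure_le]
  rintro _ ⟨c, hc, a, ha, rfl⟩
  exact h c hc a ha

/-- conjugation of a closure -/
theorem cl_conj {A C A' C' : Subgroup G} {g : G} (hA : ∀ a ∈ A, g * a * g⁻¹ ∈ A')
    (hC : ∀ c ∈ C, g * c * g⁻¹ ∈ C') {x : G} (hx : x ∈ cl A C) : g * x * g⁻¹ ∈ cl A' C' := by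
  have h1 : cl A C ≤ (cl A' C').comap (MulAut.conj g).toMonoidHom := by
    refine cl_le fun c hc a ha => ?_
    show g * (c * a * c⁻¹) * g⁻¹ ∈ cl A' C'
    have e : g * (c * a * c⁻¹) * g⁻¹ = (g * c * g⁻¹) * (g * a * g⁻¹) * (g * c * g⁻¹)⁻¹ := by group
    rw [e]
    exact conj_mem_cl (hC c hc) (hA a ha)
  exact h1 hx

theorem cl_norm {A C : Subgroup G} : C ≤ normalizer (cl A C : Set G) := by
  apply norm_of
  intro c hc x hx
  have h1 : cl A C ≤ (cl A C).comap (MulAut.conj c).toMonoidHom := by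
    refine cl_le fun d hd a ha => ?_
    show c * (d * a * d⁻¹) * c⁻¹ ∈ cl A C
    have e : c * (d * a * d⁻¹) * c⁻¹ = (c * d) * a * (c * d)⁻¹ := by group
    rw [e]
    exact conj_mem_cl (mul_mem hc hd) ha
  exact h1 hx

theorem cent_of_closure {s : Set G} {x : G} (h : ∀ y ∈ s, x * y = y * x) {y : G} (hy : y ∈ closure s) :
    x * y = y * x := by
  have h1 : closure s ≤ centralizer ({x} : Set G) := by
    rw [closure_le]
    intro z hz
    exact mem_cent.2 (h z hz).symm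
  exact (mem_cent.1 (h1 hy)).symm

theorem cent_of_cl {A C : Subgroup G} {x : G} (h : ∀ c ∈ C, ∀ a ∈ A, x * (c * a * c⁻¹) = c * a * c⁻¹ * x) {y : G}
    (hy : y ∈ cl A C) : x * y = y * x := by
  refine cent_of_closure ?_ hy
  rintro _ ⟨c, hc, a, ha, rfl⟩
  exact h c hc a ha

theorem sq_of_closure {s : Set G} (hs : ∀ x ∈ s, x * x = 1)
    (hc : ∀ x ∈ closure s, ∀ y ∈ closure s, x * y = y * x) {x : G} (hx : x ∈ closure s) : x * x = 1 := by
  induction hx using closure_induction with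
  | mem x hx => exact hs x hx
  | one => simp
  | mul x y hx hy h1 h2 =>
    calc x * y * (x * y) = x * (y * x) * y := by group
      _ = x * (x * y) * y := by rw [hc y hy x hx]
      _ = (x * x) * (y * y) := by group
      _ = 1 := by rw [h1, h2, one_mul]
  | inv x hx h1 => rw [← mul_inv_rev, h1, inv_one]

theorem comm_of_conj {g x : G} (h : g * x * g⁻¹ = x) : g * x = x * g := mul_inv_eq_iff_eq_mul.1 h

theorem conj_of_comm {g x : G} (h : g * x = x * g) : g * x * g⁻¹ = x := mul_inv_eq_iff_eq_mul.2 h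

theorem isPGroup_of_sq {A : Subgroup G} (h : ∀ x ∈ A, x * x = 1) : IsPGroup 2 A := by
  rintro ⟨x, hx⟩
  exact ⟨1, Subtype.ext (by simpa [pow_two] using h x hx)⟩

end tools

/-! ### Definitions -/

section defs

variable {ι : Type} (V : ι → Subgroup G)

/-- `C_G(v)` -/
abbrev cz (v : G) : Subgroup G := centralizer ({v} : Set G)

/-- `Q_v = O₂(C_G(v))` -/
abbrev qz (v : G) : Subgroup G := ZN.o2 (centralizer ({v} : Set G))

/-- `V^i = ∏_{j ≠ i} V j` -/
def Vo (i : ι) : Subgroup G := closure {x | ∃ j, j ≠ i ∧ x ∈ V j}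

/-- `U_v = ⟨(V^i)^{C_v}⟩` -/
def UU (i : ι) (v : G) : Subgroup G := cl (Vo V i) (cz v)

/-- `X^i = ⟨W_v : v ∈ V i, v ≠ 1⟩` -/
def XX (i : ι) : Subgroup G := closure {x | ∃ v ∈ V i, v ≠ 1 ∧ x ∈ KK v}

/-- `D_i = ⋂ U_p`, `p ∈ V j`, `p ≠ 1`, `j ≠ i` -/
def DD (i : ι) : Subgroup G where
  carrier := {x | ∀ j, j ≠ i → ∀ p ∈ V j, p ≠ 1 → x ∈ UU V j p}
  one_mem' := fun _ _ _ _ _ => one_mem _
  mul_mem' := fun ha hb j hj p hp hp1 => mul_mem (ha j hj p hp hp1) (hb j hj p hp hp1)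
  inv_mem' := fun ha j hj p hp hp1 => inv_mem (ha j hj p hp hp1)

variable {V}

theorem mem_DD {i : ι} {x : G} : x ∈ DD V i ↔ ∀ j, j ≠ i → ∀ p ∈ V j, p ≠ 1 → x ∈ UU V j p := Iff.rfl

theorem le_Vo {i j : ι} (h : j ≠ i) : V j ≤ Vo V i := fun _ hx => subset_closure ⟨j, h, hx⟩

theorem Vo_le {i : ι} {B : Subgroup G} (h : ∀ j, j ≠ i → V j ≤ B) : Vo V i ≤ B := by
  rw [Vo, closure_le]
  rintro x ⟨j, hj, hx⟩
  exact h j hj hx

theorem Vo_le_UU {i : ι} {v : G} : Vo V i ≤ UU V i v := le_cl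

theorem V_le_UU {i j : ι} (h : j ≠ i) {v : G} : V j ≤ UU V i v := (le_Vo h).trans Vo_le_UU

theorem cz_norm_UU {i : ι} {v : G} : cz v ≤ normalizer (UU V i v : Set G) := cl_norm

theorem KK_le_XX {i : ι} {v : G} (hv : v ∈ V i) (hv1 : v ≠ 1) : KK v ≤ XX V i :=
  fun _ hx => subset_closure ⟨v, hv, hv1, hx⟩

theorem XX_le {i : ι} {B : Subgroup G} (h : ∀ v ∈ V i, v ≠ 1 → KK v ≤ B) : XX V i ≤ B := by
  rw [XX, closure_le]
  rintro x ⟨v, hv, hv1, hx⟩
  exact h v hv hv1 hx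

theorem cent_of_XX {i : ι} {y : G} (h : ∀ v ∈ V i, v ≠ 1 → ∀ g ∈ KK v, g * y = y * g) :
    ∀ g ∈ XX V i, g * y = y * g := by
  intro g hg
  have h1 : XX V i ≤ centralizer ({y} : Set G) := XX_le fun v hv hv1 k hk => mem_cent.2 (h v hv hv1 k hk)
  exact mem_cent.1 (h1 hg)

/-- the frame -/
structure Fr (S : Subgroup G) (V : ι → Subgroup G) : Prop where
  S2 : IsPGroup 2 S
  sq : ∀ i, ∀ x ∈ V i, x * x = 1
  comm : ∀ i j, ∀ x ∈ V i, ∀ y ∈ V j, x * y = y * x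
  four : ∀ i, Nat.card (V i) = 4
  Qc : ∀ i j, j ≠ i → ∀ v ∈ V i, v ≠ 1 → ∀ q ∈ qz v, ∀ x ∈ V j, q * x = x * q
  VQ : ∀ i j, ∀ v ∈ V i, v ≠ 1 → V j ≤ qz v
  WV : ∀ i, ∀ v ∈ V i, v ≠ 1 → ∃ g ∈ KK v, ∃ x ∈ V i, g * x ≠ x * g
  c2 : ∀ i, ∀ v ∈ V i, v ≠ 1 → cz v ⊓ centralizer (qz v : Set G) ≤ qz v
  perm : ∀ s ∈ S, ∀ i, ∃ j, ∀ x, x ∈ V i ↔ s * x * s⁻¹ ∈ V j
  zS : zc S ≤ ⨆ i, V i

/-- (H2) -/
def H2 (V : ι → Subgroup G) : Prop :=
  ∀ i j, i ≠ j → ∀ v ∈ V i, v ≠ 1 → ∀ p ∈ V j, p ≠ 1 → UU V i v ≤ qz p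

end defs

namespace Fr

variable {ι : Type} {S : Subgroup G} {V : ι → Subgroup G} [Finite G] (h : Fr S V)
include h

theorem KK_le_q {i : ι} {v : G} (hv : v ∈ V i) (hv1 : v ≠ 1) : KK v ≤ qz v :=
  KK_le_o2 (h.sq i v hv) (h.c2 i v hv hv1)

omit [Finite G] in
theorem KK_act {i : ι} {v : G} (hv : v ∈ V i) {g x : G} (hg : g ∈ KK v) (hx : x ∈ qz v) :
    g * x * g⁻¹ = x ∨ g * x * g⁻¹ = v * x := by
  rcases (mem_zpowers_iff_of_sq (h.sq i v hv)).1 ((mem_KK.1 hg).2 x hx) with h1 | h1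
  · left; exact mul_inv_eq_one.1 h1
  · right; exact mul_inv_eq_iff_eq_mul.1 h1

omit [Finite G] h in
theorem KK_comm {v g : G} (hg : g ∈ KK v) : g * v = v * g := (mem_KK.1 hg).1

theorem disj {i j : ι} (hij : i ≠ j) {x : G} (hi : x ∈ V i) (hj : x ∈ V j) : x = 1 := by
  by_contra hx
  obtain ⟨g, hg, y, hy, hgy⟩ := h.WV i x hi hx
  exact hgy (h.Qc j i hij x hj hx g (h.KK_le_q hi hx hg) y hy)

omit [Finite G] in
/-- the elements of `V i` -/
theorem cases4 [Finite G] {i : ι} {a b : G} (ha : a ∈ V i) (hb : b ∈ V i) (ha1 : a ≠ 1) (hb1 : b ≠ 1)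
    (hab : a ≠ b) {x : G} (hx : x ∈ V i) : x = 1 ∨ x = a ∨ x = b ∨ x = a * b :=
  IITwo.Three.four_all (h.four i) (h.sq i) ha hb ha1 hb1 hab x hx

/-- `W_a` moves `b` -/
theorem move {i : ι} {a b : G} (ha : a ∈ V i) (hb : b ∈ V i) (ha1 : a ≠ 1) (hb1 : b ≠ 1)
    (hab : a ≠ b) : ∃ g ∈ KK a, g * b * g⁻¹ = a * b := by
  obtain ⟨g, hg, x, hx, hgx⟩ := h.WV i a ha ha1
  refine ⟨g, hg, ?_⟩
  rcases h.KK_act ha hg (h.VQ i i a ha ha1 hb) with h1 | h1
  · exfalso
    apply hgx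
    have h2 := comm_of_conj h1
    have h3 := KK_comm hg
    rcases h.cases4 ha hb ha1 hb1 hab hx with rfl | rfl | rfl | rfl
    · simp
    · exact h3
    · exact h2
    · calc g * (a * b) = (g * a) * b := by group
        _ = a * (g * b) := by rw [h3]; group
        _ = a * b * g := by rw [h2]; group
  · exact h1

omit [Finite G] in
theorem exists_two (i : ι) : ∃ a ∈ V i, ∃ b ∈ V i, a ≠ 1 ∧ b ≠ 1 ∧ a ≠ b := by
  have h4 := h.four i
  have hfin : Finite (V i) := Nat.finite_of_card_ne_zero (by omega)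
  obtain ⟨a, ha⟩ : ∃ a : V i, a ≠ 1 := by
    by_contra hcon
    push Not at hcon
    have : Nat.card (V i) ≤ 1 := by
      have hs : Subsingleton (V i) := ⟨fun x y => by rw [hcon x, hcon y]⟩
      exact Finite.card_le_one_iff_subsingleton.2 hs
    omega
  obtain ⟨b, hb1, hb2⟩ : ∃ b : V i, b ≠ 1 ∧ b ≠ a := by
    by_contra hcon
    push Not at hcon
    have : Nat.card (V i) ≤ 2 := by
      have hsub : (Set.univ : Set (V i)) ⊆ {1, a} := by
        intro x _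
        by_cases hx : x = 1
        · exact Or.inl hx
        · exact Or.inr (hcon x hx)
      have h1 := Set.ncard_le_ncard hsub
      rw [Set.ncard_univ] at h1
      exact h1.trans (Set.ncard_insert_le _ _ |>.trans (by rw [Set.ncard_singleton]))
    omega
  refine ⟨a, a.2, b, b.2, fun h1 => ha (Subtype.ext h1), fun h1 => hb1 (Subtype.ext h1), fun h1 =>
    hb2 (Subtype.ext h1.symm)⟩

omit [Finite G] in
/-- another element of `V i` -/
theorem exists_other {i : ι} (a : G) : ∃ b ∈ V i, b ≠ 1 ∧ a ≠ b := by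
  obtain ⟨x, hx, y, hy, hx1, hy1, hxy⟩ := h.exists_two i
  by_cases hax : a = x
  · exact ⟨y, hy, hy1, fun h1 => hxy (hax.symm.trans h1)⟩
  · exact ⟨x, hx, hx1, hax⟩

omit [Finite G] in
theorem q_le {i j : ι} (hij : j ≠ i) {v p : G} (hv : v ∈ V i) (hv1 : v ≠ 1) (hp : p ∈ V j) :
    qz v ≤ cz p := fun _ hq => mem_cent.2 (h.Qc i j hij v hv hv1 _ hq p hp)

theorem KK_le {i j : ι} (hij : j ≠ i) {v p : G} (hv : v ∈ V i) (hv1 : v ≠ 1) (hp : p ∈ V j) :
    KK v ≤ cz p := (h.KK_le_q hv hv1).trans (h.q_le hij hv hv1 hp)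

theorem X_le {i j : ι} (hij : j ≠ i) {p : G} (hp : p ∈ V j) : XX V i ≤ cz p :=
  XX_le fun _ hv hv1 => h.KK_le hij hv hv1 hp

omit [Finite G] in
theorem Vo_le_q {i : ι} {v : G} (hv : v ∈ V i) (hv1 : v ≠ 1) : Vo V i ≤ qz v :=
  Vo_le fun j _ => h.VQ i j v hv hv1

omit [Finite G] in
theorem Vo_cent {i : ι} {v : G} (hv : v ∈ V i) (hv1 : v ≠ 1) {x q : G} (hx : x ∈ Vo V i) (hq : q ∈ qz v) :
    q * x = x * q := by
  refine cent_of_closure ?_ hx
  rintro y ⟨j, hj, hy⟩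
  exact h.Qc i j hj v hv hv1 q hq y hy

omit [Finite G] in
theorem U_le_q {i : ι} {v : G} (hv : v ∈ V i) (hv1 : v ≠ 1) : UU V i v ≤ qz v :=
  cl_le fun _ hc _ ha => conj_mem (le_normalizer_o2 _) hc (h.Vo_le_q hv hv1 ha)

omit [Finite G] in
theorem U_cent {i : ι} {v : G} (hv : v ∈ V i) (hv1 : v ≠ 1) {x q : G} (hx : x ∈ UU V i v) (hq : q ∈ qz v) :
    q * x = x * q := by
  refine cent_of_cl ?_ hx
  intro c hc a ha
  have h1 : c⁻¹ * q * c ∈ qz v := by
    have := conj_mem (le_normalizer_o2 (cz v)) (inv_mem hc) hq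
    rwa [inv_inv] at this
  have h2 := h.Vo_cent hv hv1 ha h1
  calc q * (c * a * c⁻¹) = c * ((c⁻¹ * q * c) * a) * c⁻¹ := by group
    _ = c * a * c⁻¹ * q := by rw [h2]; group

omit [Finite G] in
theorem U_comm {i : ι} {v : G} (hv : v ∈ V i) (hv1 : v ≠ 1) {x y : G} (hx : x ∈ UU V i v)
    (hy : y ∈ UU V i v) : x * y = y * x := h.U_cent hv hv1 hy (h.U_le_q hv hv1 hx)

omit [Finite G] in
theorem Vo_sq {i : ι} {x : G} (hx : x ∈ Vo V i) : x * x = 1 := by
  have hcomm : ∀ y ∈ Vo V i, ∀ z ∈ Vo V i, y * z = z * y := by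
    intro y hy z hz
    refine cent_of_closure ?_ hz
    rintro w ⟨j, hj, hw⟩
    refine (cent_of_closure ?_ hy).symm
    rintro w' ⟨j', hj', hw'⟩
    exact h.comm j j' w hw w' hw'
  refine sq_of_closure ?_ hcomm hx
  rintro y ⟨j, _, hy⟩
  exact h.sq j y hy

omit [Finite G] in
theorem U_sq {i : ι} {v : G} (hv : v ∈ V i) (hv1 : v ≠ 1) {x : G} (hx : x ∈ UU V i v) : x * x = 1 := by
  refine sq_of_closure ?_ (fun a ha b hb => h.U_comm hv hv1 ha hb) hx
  rintro _ ⟨c, hc, a, ha, rfl⟩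
  calc c * a * c⁻¹ * (c * a * c⁻¹) = c * (a * a) * c⁻¹ := by group
    _ = 1 := by rw [h.Vo_sq ha]; group

omit [Finite G] in
theorem U_two {i : ι} {v : G} (hv : v ∈ V i) (hv1 : v ≠ 1) : IsPGroup 2 (UU V i v) :=
  isPGroup_of_sq fun _ hx => h.U_sq hv hv1 hx

theorem KK_two {i : ι} {v : G} (hv : v ∈ V i) (hv1 : v ≠ 1) : IsPGroup 2 (KK v) :=
  (o2_isPGroup _).to_le (h.KK_le_q hv hv1)

omit [Finite G] h in
/-- the functor `v ↦ W_v` -/
theorem norm_KK {A : Subgroup G} {v : G} (hA : A ≤ cz v) : A ≤ normalizer (KK v : Set G) := by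
  apply norm_of
  intro a ha g hg
  have h1 := KK_conj (h := a) hg
  rwa [conj_of_comm (mem_cent.1 (hA ha))] at h1

/-- (0) of 16750: `N ⊴ C_v`, `w ∈ N` a conjugate of `a ∈ V i` under `x ∈ C_v`, `v ∈ V j`. -/
theorem zero {i j : ι} (hij : j ≠ i) {v a x : G} (hv : v ∈ V j) (ha : a ∈ V i) (ha1 : a ≠ 1)
    (hx : x ∈ cz v) {N : Subgroup G} (hN : cz v ≤ normalizer (N : Set G)) (hw : x * a * x⁻¹ ∈ N) :
    KK (x * a * x⁻¹) ⊓ centralizer (N : Set G) ≤ qz v := by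
  have hKv : KK (x * a * x⁻¹) ≤ cz v := by
    intro g hg
    have h1 : x⁻¹ * g * x ∈ KK a := by
      have h2 := KK_conj (h := x⁻¹) hg
      have e : x⁻¹ * (x * a * x⁻¹) * x⁻¹⁻¹ = a := by group
      rw [e, inv_inv] at h2
      exact h2
    have h2 := h.KK_le hij ha ha1 hv h1
    have h3 := mul_mem (mul_mem hx h2) (inv_mem hx)
    have e : x * (x⁻¹ * g * x) * x⁻¹ = g := by group
    rwa [e] at h3
  set C := cz v ⊓ centralizer (N : Set G) with hC
  have hCn : cz v ≤ normalizer (C : Set G) := by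
    apply norm_of
    rintro c hc b ⟨hb1, hb2⟩
    refine ⟨mul_mem (mul_mem hc hb1) ((cz v).inv_mem hc), mem_centralizer_iff.2 fun n hn => ?_⟩
    have hn' : c⁻¹ * n * c ∈ N := by
      have := conj_mem hN (inv_mem hc) hn
      rwa [inv_inv] at this
    have h1 := mem_centralizer_iff.1 hb2 _ hn'
    calc n * (c * b * c⁻¹) = c * ((c⁻¹ * n * c) * b) * c⁻¹ := by group
      _ = c * b * c⁻¹ * n := by rw [h1]; group
  have hCw : C ≤ cz (x * a * x⁻¹) := fun c hc =>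
    mem_cent.2 (mem_centralizer_iff.1 hc.2 _ hw).symm
  refine (le_inf (le_inf (inf_le_left.trans hKv) inf_le_right) inf_le_left :
    KK (x * a * x⁻¹) ⊓ centralizer (N : Set G) ≤ C ⊓ KK (x * a * x⁻¹)).trans ?_
  have h2 : IsPGroup 2 (KK (x * a * x⁻¹)) := by
    have h3 : KK (x * a * x⁻¹) ≤ (KK a).map (MulAut.conj x).toMonoidHom := by
      intro g hg
      refine ⟨x⁻¹ * g * x, ?_, by simp [mul_assoc]⟩
      have h2 := KK_conj (h := x⁻¹) hg
      have e : x⁻¹ * (x * a * x⁻¹) * x⁻¹⁻¹ = a := by group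
      rw [e, inv_inv] at h2
      exact h2
    exact ((h.KK_two ha ha1).map _).to_le h3
  refine le_o2_of (h2.to_le inf_le_right) inf_le_left ?_ inf_le_left hCn
  apply norm_of
  rintro c hc b ⟨hb1, hb2⟩
  exact ⟨mul_mem (mul_mem hc hb1) (C.inv_mem hc), conj_mem (norm_KK hCw) hc hb2⟩

end Fr

end Cfsg.Agent.Omega.IId.Big

end

section


/-!
# WrBig, `q = 2`, CASE 2 is impossible (bb OMEGA 18977, helper245), I: the frame and `Ω₁Z(O₂(P)) = V`

`V i` (`i ∈ ι`) the natural four-groups, `v i ∈ V i` the fixed point of `N_S(V i)`, `Q = O₂(P) = C_S(V)`.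

* `YY p` : the stabiliser of the chain `Q_p ≥ Z(Q_p) ≥ 1` in `C_G(p)`, a subgroup of `Q_p = O₂(C_G(p))`;
* `Sc S Q V v` : the frame;
* `Sc.zv` : **(ZV)** : an involution centralising `Q` lies in `V = ⨆ V i`;
* `Sc.one` : **LEMMA 1** : `y ∈ Ω₁Z(Q_{v i})`, `[y, Q] = ⟨a⟩` of order 2 ⇒ `a = v i`.
-/

set_option autoImplicit false
set_option linter.unusedSectionVars false

namespace Cfsg.Agent.Omega.IId.Big.Syl

open Subgroup Cfsg
open Cfsg.Agent.ZN (o2 zc)
open Cfsg.Agent.MinSimple.VModule (le_o2 le_normalizer_o2 mem_zc o2_isPGroup o2_le)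
open Triangle (KK KK_conj KK_le_o2 mem_cent mem_KK mem_zpowers_iff_of_sq cent_conj o2_cent_conj)

universe u

variable {G : Type u} [Group G]

/-! ### The chain stabiliser -/

/-- the stabiliser of the chain `Q_p ≥ Z(Q_p) ≥ 1` in `C_G(p)` -/
def YY (p : G) : Subgroup G where
  carrier := {g | g ∈ cz p ∧ (∀ r ∈ qz p, g * r * g⁻¹ * r⁻¹ ∈ centralizer (qz p : Set G)) ∧
    ∀ r ∈ qz p, r ∈ centralizer (qz p : Set G) → g * r * g⁻¹ = r}
  one_mem' := ⟨one_mem _, fun r _ => by simp [one_mem], fun r _ _ => by simp⟩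
  mul_mem' := by
    rintro g k ⟨hg, hg1, hg2⟩ ⟨hk, hk1, hk2⟩
    refine ⟨mul_mem hg hk, fun r hr => ?_, fun r hr hr2 => ?_⟩
    · have h0 : k * r * k⁻¹ * r⁻¹ ∈ qz p := mul_mem (conj_mem (le_normalizer_o2 _) hk hr) (inv_mem hr)
      have e : g * k * r * (g * k)⁻¹ * r⁻¹ = (g * (k * r * k⁻¹ * r⁻¹) * g⁻¹) * (g * r * g⁻¹ * r⁻¹) := by
        group
      rw [e, hg2 _ h0 (hk1 r hr)]
      exact mul_mem (hk1 r hr) (hg1 r hr)
    · have e : g * k * r * (g * k)⁻¹ = g * (k * r * k⁻¹) * g⁻¹ := by group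
      rw [e, hk2 r hr hr2, hg2 r hr hr2]
  inv_mem' := by
    rintro g ⟨hg, hg1, hg2⟩
    have h0 : ∀ r ∈ qz p, r ∈ centralizer (qz p : Set G) → g⁻¹ * r * g = r := fun r hr hr2 => by
      calc g⁻¹ * r * g = g⁻¹ * (g * r * g⁻¹) * g := by rw [hg2 r hr hr2]
        _ = r := by group
    refine ⟨inv_mem hg, fun r hr => ?_, fun r hr hr2 => ?_⟩
    · have h1 : g * r * g⁻¹ * r⁻¹ ∈ qz p := mul_mem (conj_mem (le_normalizer_o2 _) hg hr) (inv_mem hr)
      have e : g⁻¹ * r * g⁻¹⁻¹ * r⁻¹ = g⁻¹ * (g * r * g⁻¹ * r⁻¹)⁻¹ * g := by group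
      rw [e, h0 _ (inv_mem h1) (inv_mem (hg1 r hr))]
      exact inv_mem (hg1 r hr)
    · rw [inv_inv]
      exact h0 r hr hr2

theorem mem_YY {p g : G} : g ∈ YY p ↔ g ∈ cz p ∧
    (∀ r ∈ qz p, g * r * g⁻¹ * r⁻¹ ∈ centralizer (qz p : Set G)) ∧
    ∀ r ∈ qz p, r ∈ centralizer (qz p : Set G) → g * r * g⁻¹ = r := Iff.rfl

theorem cz_cent {p c x : G} (hc : c ∈ cz p) (hx : x ∈ centralizer (qz p : Set G)) :
    c * x * c⁻¹ ∈ centralizer (qz p : Set G) := by
  refine mem_centralizer_iff.2 fun r hr => ?_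
  have hr' : c⁻¹ * r * c ∈ qz p := by
    have := conj_mem (le_normalizer_o2 (cz p)) (inv_mem hc) hr
    rwa [inv_inv] at this
  have h1 := mem_centralizer_iff.1 hx _ hr'
  calc r * (c * x * c⁻¹) = c * ((c⁻¹ * r * c) * x) * c⁻¹ := by group
    _ = c * x * c⁻¹ * r := by rw [h1]; group

theorem cz_norm_YY {p : G} : cz p ≤ normalizer (YY p : Set G) := by
  apply norm_of
  rintro c hc g ⟨hg, hg1, hg2⟩
  have hci : ∀ r ∈ qz p, c⁻¹ * r * c ∈ qz p := fun r hr => by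
    have := conj_mem (le_normalizer_o2 (cz p)) (inv_mem hc) hr
    rwa [inv_inv] at this
  refine ⟨mul_mem (mul_mem hc hg) (inv_mem hc), fun r hr => ?_, fun r hr hr2 => ?_⟩
  · have e : c * g * c⁻¹ * r * (c * g * c⁻¹)⁻¹ * r⁻¹ =
        c * (g * (c⁻¹ * r * c) * g⁻¹ * (c⁻¹ * r * c)⁻¹) * c⁻¹ := by group
    rw [e]
    exact cz_cent hc (hg1 _ (hci r hr))
  · have h1 : c⁻¹ * r * c ∈ centralizer (qz p : Set G) := by
      have := cz_cent ((cz p).inv_mem hc) hr2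
      rwa [inv_inv] at this
    calc c * g * c⁻¹ * r * (c * g * c⁻¹)⁻¹ = c * (g * (c⁻¹ * r * c) * g⁻¹) * c⁻¹ := by group
      _ = c * (c⁻¹ * r * c) * c⁻¹ := by rw [hg2 _ (hci r hr) h1]
      _ = r := by group

/-- **`YY p ≤ O₂(C_G(p))`** -/
theorem YY_le [Finite G] {p : G} (hc : cz p ⊓ centralizer (qz p : Set G) ≤ qz p) : YY p ≤ qz p := by
  have hf : Fact (Nat.Prime 2) := ⟨Nat.prime_two⟩
  refine le_o2 (fun g hg => hg.1) ?_ cz_norm_YY
  obtain ⟨n, hn⟩ := IsPGroup.iff_card.1 (o2_isPGroup (cz p))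
  have hpow : ∀ r ∈ qz p, r ^ 2 ^ n = 1 := by
    intro r hr
    have h1 : (⟨r, hr⟩ : qz p) ^ Nat.card (qz p) = 1 := pow_card_eq_one'
    rw [hn] at h1
    simpa using congrArg Subtype.val h1
  rintro ⟨g, hg⟩
  have key : ∀ r ∈ qz p, ∀ m : ℕ, g ^ m * r * (g ^ m)⁻¹ = (g * r * g⁻¹ * r⁻¹) ^ m * r := by
    intro r hr m
    have h0 : g * r * g⁻¹ * r⁻¹ ∈ qz p := mul_mem (conj_mem (le_normalizer_o2 _) hg.1 hr) (inv_mem hr)
    have hfix : ∀ m : ℕ, g * (g * r * g⁻¹ * r⁻¹) ^ m * g⁻¹ = (g * r * g⁻¹ * r⁻¹) ^ m := fun m =>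
      hg.2.2 _ (pow_mem h0 _) (pow_mem (hg.2.1 r hr) _)
    induction m with
    | zero => simp
    | succ m ih =>
      calc g ^ (m + 1) * r * (g ^ (m + 1))⁻¹ = g * (g ^ m * r * (g ^ m)⁻¹) * g⁻¹ := by
            rw [pow_succ']; group
        _ = (g * (g * r * g⁻¹ * r⁻¹) ^ m * g⁻¹) * (g * r * g⁻¹ * r⁻¹) * r := by rw [ih]; group
        _ = (g * r * g⁻¹ * r⁻¹) ^ (m + 1) * r := by rw [hfix, pow_succ]
  have h1 : g ^ 2 ^ n ∈ qz p := by
    refine hc ⟨pow_mem hg.1 _, mem_centralizer_iff.2 fun r hr => ?_⟩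
    have h0 : g * r * g⁻¹ * r⁻¹ ∈ qz p := mul_mem (conj_mem (le_normalizer_o2 _) hg.1 hr) (inv_mem hr)
    have h2 := key r hr (2 ^ n)
    rw [hpow _ h0, one_mul] at h2
    exact (comm_of_conj h2).symm
  refine ⟨n + n, Subtype.ext ?_⟩
  show g ^ 2 ^ (n + n) = 1
  rw [pow_add, pow_mul]
  exact hpow _ h1

/-- A nontrivial normal subgroup of a 2-group meets `Ω₁Z`. -/
theorem exists_mem_zc [Finite G] {S X : Subgroup G} (hS : IsPGroup 2 S) (hX : X ≤ S) (hn : S ≤ normalizer (X : Set G))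
    (hX1 : X ≠ ⊥) : ∃ z ∈ X, z ∈ zc S ∧ z ≠ 1 := by
  have hX2 : IsPGroup 2 X := hS.to_le hX
  obtain ⟨z, hz, hz1, hzS⟩ := Half.exists_fixed (V := zc X) (hX2.to_le (MinSimple.VModule.zc_le X))
    (MinSimple.Basic.zc_ne_bot hX2 hX1) hS (hn.trans (MinSimple.VModule.normalizer_le_normalizer_zc X))
  have hz' := mem_zc.1 hz
  exact ⟨z, hz'.1, mem_zc.2 ⟨hX hz'.1, fun y hy => mul_inv_eq_iff_eq_mul.1 (hzS y hy), hz'.2.2⟩, hz1⟩

/-! ### The frame -/

/-- The frame. -/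
structure Sc {ι : Type} (S Q : Subgroup G) (V : ι → Subgroup G) (v : ι → G) : Prop where
  fr : Fr S V
  vV : ∀ i, v i ∈ V i
  v1 : ∀ i, v i ≠ 1
  perm : ∀ s ∈ S, ∀ i, ∃ j, (∀ x ∈ V i, s * x * s⁻¹ ∈ V j) ∧ s * v i * s⁻¹ = v j
  tr : ∀ i j, ∃ s ∈ S, s * v i * s⁻¹ = v j
  VK : ∀ i j, ∀ p ∈ V i, p ≠ 1 → V j ≤ KK p
  KS : ∀ i, KK (v i) ≤ S
  QS : Q ≤ S
  QV : ∀ i, ∀ x ∈ V i, ∀ q ∈ Q, q * x = x * q
  QQ : centralizer (Q : Set G) ≤ Q
  NQ : ∀ N : Subgroup G, IsPGroup 2 N → (∀ i, ∀ x ∈ V i, ∀ n ∈ N, n * x = x * n) →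
    (∀ c : G, (∀ i, ∀ x ∈ V i, c * x = x * c) → ∀ n ∈ N, c * n * c⁻¹ ∈ N) → N ≤ Q
  KQ : ∀ i, ∀ p ∈ V i, p ≠ 1 → KK p ≤ normalizer (Q : Set G)
  SQ : S ≤ normalizer (Q : Set G)

namespace Sc

variable {ι : Type} {S Q : Subgroup G} {V : ι → Subgroup G} {v : ι → G} (h : Sc S Q V v)
include h

/-! #### The sum of the factors -/

theorem comm_Vo {j : ι} {a b : G} (ha : a ∈ V j) (hb : b ∈ Vo V j) : a * b = b * a := by
  refine cent_of_closure ?_ hb
  rintro y ⟨l, -, hy⟩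
  exact h.fr.comm j l a ha y hy

theorem decomp (j : ι) {x : G} (hx : x ∈ ⨆ i, V i) : ∃ a ∈ V j, ∃ b ∈ Vo V j, x = a * b := by
  let D : Subgroup G :=
    { carrier := {x | ∃ a ∈ V j, ∃ b ∈ Vo V j, x = a * b}
      one_mem' := ⟨1, one_mem _, 1, one_mem _, by simp⟩
      mul_mem' := by
        rintro _ _ ⟨a, ha, b, hb, rfl⟩ ⟨a', ha', b', hb', rfl⟩
        refine ⟨a * a', mul_mem ha ha', b * b', mul_mem hb hb', ?_⟩
        calc a * b * (a' * b') = a * (b * a') * b' := by group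
          _ = a * (a' * b) * b' := by rw [h.comm_Vo ha' hb]
          _ = a * a' * (b * b') := by group
      inv_mem' := by
        rintro _ ⟨a, ha, b, hb, rfl⟩
        refine ⟨a⁻¹, inv_mem ha, b⁻¹, inv_mem hb, ?_⟩
        rw [← mul_inv_rev, h.comm_Vo ha hb] }
  have h1 : (⨆ i, V i) ≤ D := by
    refine iSup_le fun i y hy => ?_
    by_cases hij : i = j
    · subst hij
      exact ⟨y, hy, 1, one_mem _, by simp⟩
    · exact ⟨1, one_mem _, y, le_Vo hij hy, by simp⟩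
  exact h1 hx

theorem cent_sup {g x : G} (hg : ∀ i, ∀ x ∈ V i, g * x = x * g) (hx : x ∈ ⨆ i, V i) : g * x = x * g := by
  have h1 : (⨆ i, V i) ≤ centralizer ({g} : Set G) := iSup_le fun i x hx => mem_cent.2 (hg i x hx).symm
  exact (mem_cent.1 (h1 hx)).symm

theorem sup_comm {x y : G} (hx : x ∈ ⨆ i, V i) (hy : y ∈ ⨆ i, V i) : x * y = y * x := by
  refine h.cent_sup (fun i z hz => ?_) hy
  exact (h.cent_sup (g := z) (fun j w hw => h.fr.comm i j z hz w hw) hx).symm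

theorem sup_sq {x : G} (hx : x ∈ ⨆ i, V i) : x * x = 1 := by
  rw [iSup_eq_closure] at hx
  refine sq_of_closure ?_ ?_ hx
  · intro y hy
    obtain ⟨i, hi⟩ := Set.mem_iUnion.1 hy
    exact h.fr.sq i y hi
  · intro a ha b hb
    rw [← iSup_eq_closure] at ha hb
    exact h.sup_comm ha hb

theorem Q_sup {q x : G} (hq : q ∈ Q) (hx : x ∈ ⨆ i, V i) : q * x = x * q :=
  h.cent_sup (fun i x hx => h.QV i x hx q hq) hx

variable [Finite G]

theorem KK_Vo {j : ι} {p g b : G} (hp : p ∈ V j) (hp1 : p ≠ 1) (hg : g ∈ KK p) (hb : b ∈ Vo V j) :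
    g * b = b * g := h.fr.Vo_cent hp hp1 hb (h.fr.KK_le_q hp hp1 hg)

/-- an element of `⨆ V i` centralised by all `W_p` is trivial -/
theorem tot [Finite ι] {x : G} (hx : x ∈ ⨆ i, V i) (hK : ∀ j, ∀ p ∈ V j, p ≠ 1 → ∀ g ∈ KK p, g * x = x * g) :
    x = 1 := by
  classical
  have := Fintype.ofFinite ι
  have key : ∀ s : Finset ι, ∀ x : G, x ∈ closure {x | ∃ j ∈ s, x ∈ V j} →
      (∀ j, ∀ p ∈ V j, p ≠ 1 → ∀ g ∈ KK p, g * x = x * g) → x = 1 := by
    intro s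
    induction s using Finset.induction_on with
    | empty =>
      intro x hx _
      have : ({x | ∃ j ∈ (∅ : Finset ι), x ∈ V j} : Set G) = ∅ := by
        ext y
        simp
      rw [this, Subgroup.closure_empty, mem_bot] at hx
      exact hx
    | insert i s his ih =>
      intro x hx hK
      let D : Subgroup G :=
        { carrier := {x | ∃ a ∈ V i, ∃ b ∈ closure {x | ∃ j ∈ s, x ∈ V j}, x = a * b}
          one_mem' := ⟨1, one_mem _, 1, one_mem _, by simp⟩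
          mul_mem' := by
            rintro _ _ ⟨a, ha, b, hb, rfl⟩ ⟨a', ha', b', hb', rfl⟩
            refine ⟨a * a', mul_mem ha ha', b * b', mul_mem hb hb', ?_⟩
            have h1 : a' * b = b * a' := by
              refine cent_of_closure ?_ hb
              rintro y ⟨l, -, hy⟩
              exact h.fr.comm i l a' ha' y hy
            calc a * b * (a' * b') = a * (b * a') * b' := by group
              _ = a * (a' * b) * b' := by rw [h1]
              _ = a * a' * (b * b') := by group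
          inv_mem' := by
            rintro _ ⟨a, ha, b, hb, rfl⟩
            refine ⟨a⁻¹, inv_mem ha, b⁻¹, inv_mem hb, ?_⟩
            have h1 : a * b = b * a := by
              refine cent_of_closure ?_ hb
              rintro y ⟨l, -, hy⟩
              exact h.fr.comm i l a ha y hy
            rw [← mul_inv_rev, h1] }
      have hD : closure {x | ∃ j ∈ insert i s, x ∈ V j} ≤ D := by
        rw [closure_le]
        rintro y ⟨j, hj, hy⟩
        rcases Finset.mem_insert.1 hj with rfl | hj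
        · exact ⟨y, hy, 1, one_mem _, by simp⟩
        · exact ⟨1, one_mem _, y, subset_closure ⟨j, hj, hy⟩, by simp⟩
      obtain ⟨a, ha, b, hb, rfl⟩ := hD hx
      have hbVo : b ∈ Vo V i := by
        have h2 : closure {x | ∃ j ∈ s, x ∈ V j} ≤ Vo V i := by
          rw [closure_le]
          rintro y ⟨j, hj, hy⟩
          exact le_Vo (by rintro rfl; exact his hj) hy
        exact h2 hb
      have ha1 : a = 1 := by
        by_contra ha1
        obtain ⟨p, hp, hp1, hap⟩ := h.fr.exists_other (i := i) a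
        obtain ⟨g, hg, hgp⟩ := h.fr.move hp ha hp1 ha1 (Ne.symm hap)
        have h2 := hK i p hp hp1 g hg
        have h3 := h.KK_Vo hp hp1 hg hbVo
        have h4 : g * a = a * g := by
          have h5 : g * a * b = a * g * b := by
            calc g * a * b = g * (a * b) := by group
              _ = a * b * g := h2
              _ = a * (b * g) := by group
              _ = a * g * b := by rw [← h3]; group
          exact mul_right_cancel h5
        rw [conj_of_comm h4] at hgp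
        exact hp1 (by
          have := hgp.symm
          rwa [mul_eq_right] at this)
      subst ha1
      rw [one_mul]
      refine ih b hb fun j p hp hp1 g hg => ?_
      have := hK j p hp hp1 g hg
      rwa [one_mul] at this
  refine key Finset.univ x ?_ hK
  have h1 : (⨆ i, V i) ≤ closure {x | ∃ j ∈ (Finset.univ : Finset ι), x ∈ V j} :=
    iSup_le fun i y hy => subset_closure ⟨i, Finset.mem_univ _, hy⟩
  exact h1 hx

/-! #### (F) -/

theorem V_le_Q (i : ι) : V i ≤ Q := by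
  refine h.NQ _ (isPGroup_of_sq fun x hx => h.fr.sq i x hx) (fun j x hx n hn => h.fr.comm i j n hn x hx)
    fun c hc n hn => ?_
  rw [conj_of_comm (hc i n hn)]
  exact hn

theorem sup_le_Q : (⨆ i, V i) ≤ Q := iSup_le h.V_le_Q

omit [Finite G] in
theorem V_le_zc {i j : ι} (hij : j ≠ i) {p : G} (hp : p ∈ V i) (hp1 : p ≠ 1) : V j ≤ zc (qz p) := fun x hx =>
  mem_zc.2 ⟨h.fr.VQ i j p hp hp1 hx, fun q hq => h.fr.Qc i j hij p hp hp1 q hq x hx, by
    rw [pow_two]; exact h.fr.sq j x hx⟩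

/-- an element of `C_G(p)` normalises `Ω₁Z(Q_p)` -/
theorem zc_conj {p c x : G} (hc : c * p = p * c) (hx : x ∈ zc (qz p)) : c * x * c⁻¹ ∈ zc (qz p) :=
  conj_mem ((le_normalizer_o2 (cz p)).trans (MinSimple.VModule.normalizer_le_normalizer_zc _)) (mem_cent.2 hc) hx

omit [Finite G] in
theorem zc_V {i : ι} {p : G} (hp : p ∈ V i) (hp1 : p ≠ 1) {y : G} (hy : y ∈ zc (qz p)) (j : ι) {x : G}
    (hx : x ∈ V j) : y * x = x * y := ((mem_zc.1 hy).2.1 x (h.fr.VQ i j p hp hp1 hx)).symm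

theorem zc_le_Q {i : ι} {p : G} (hp : p ∈ V i) (hp1 : p ≠ 1) : zc (qz p) ≤ Q := by
  refine h.NQ _ ((o2_isPGroup _).to_le (MinSimple.VModule.zc_le _)) (fun j x hx n hn => h.zc_V hp hp1 hn j hx)
    fun c hc n hn => h.zc_conj (hc i p hp) hn

theorem qz_inf_le {i : ι} {p : G} (hp : p ∈ V i) {r : G} (hr : r ∈ qz p)
    (hrV : ∀ j, ∀ x ∈ V j, r * x = x * r) : r ∈ Q := by
  have h1 : qz p ⊓ centralizer ((⨆ i, V i : Subgroup G) : Set G) ≤ Q := by
    refine h.NQ _ ((o2_isPGroup _).to_le inf_le_left) (fun j x hx n hn => ?_) fun c hc n hn => ?_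
    · exact (mem_centralizer_iff.1 hn.2 x ((le_iSup V j) hx)).symm
    · refine ⟨conj_mem (le_normalizer_o2 _) (mem_cent.2 (hc i p hp)) hn.1, mem_centralizer_iff.2 fun x hx => ?_⟩
      have h2 := mem_centralizer_iff.1 hn.2 x hx
      have h3 : c * x = x * c := h.cent_sup hc hx
      have h4 : c⁻¹ * x = x * c⁻¹ := ((show Commute c x from h3).inv_left).eq
      calc x * (c * n * c⁻¹) = (x * c) * n * c⁻¹ := by group
        _ = c * (x * n) * c⁻¹ := by rw [← h3]; group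
        _ = c * n * (x * c⁻¹) := by rw [h2]; group
        _ = c * n * c⁻¹ * x := by rw [← h4]; group
  exact h1 ⟨hr, mem_centralizer_iff.2 fun x hx => (h.cent_sup hrV hx).symm⟩

/-- `U_r ∩ C(U_p) ≤ Q_p`, `p ∈ V j`, `r ∈ V i`, `i ≠ j` -/
theorem mem_qz_of {i j : ι} (hij : i ≠ j) {r p y : G} (hr : r ∈ V i) (hr1 : r ≠ 1) (hp : p ∈ V j)
    (hp1 : p ≠ 1) (hy : y ∈ zc (qz r)) (hyp : ∀ c ∈ zc (qz p), y * c = c * y) : y ∈ qz p := by
  set N : Subgroup G := cz p ⊓ centralizer (zc (qz p) : Set G) with hN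
  set A : Subgroup G := zc (qz r) ⊓ centralizer (zc (qz p) : Set G) with hA
  have hrp : r ∈ zc (qz p) := h.V_le_zc hij hp hp1 hr
  have hAN : A ≤ N := fun a ha => ⟨mem_cent.2 (h.zc_V hr hr1 ha.1 j hp), ha.2⟩
  have key : A ≤ qz p := by
    refine le_o2_of ((o2_isPGroup _).to_le (inf_le_left.trans (MinSimple.VModule.zc_le _))) hAN ?_ inf_le_left ?_
    · apply norm_of
      rintro n ⟨-, hn2⟩ a ⟨ha1, ha2⟩
      refine ⟨h.zc_conj (mem_centralizer_iff.1 hn2 r hrp).symm ha1, ?_⟩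
      exact (centralizer (zc (qz p) : Set G)).mul_mem (mul_mem hn2 ha2)
        ((centralizer (zc (qz p) : Set G)).inv_mem hn2)
    · apply norm_of
      rintro c hc n ⟨hn1, hn2⟩
      refine ⟨mul_mem (mul_mem hc hn1) ((cz p).inv_mem hc), mem_centralizer_iff.2 fun x hx => ?_⟩
      have hx' : c⁻¹ * x * c ∈ zc (qz p) := by
        have := h.zc_conj (c := c⁻¹) (mem_cent.1 ((cz p).inv_mem hc)) hx
        rwa [inv_inv] at this
      have h1 := mem_centralizer_iff.1 hn2 _ hx'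
      calc x * (c * n * c⁻¹) = c * ((c⁻¹ * x * c) * n) * c⁻¹ := by group
        _ = c * n * c⁻¹ * x := by rw [h1]; group
  exact key ⟨hy, mem_centralizer_iff.2 fun c hc => (hyp c hc).symm⟩

/-! #### (ZV) -/

omit [Finite G] in
theorem fixV [Finite G] {i : ι} {p b r : G} (hp : p ∈ V i) (hp1 : p ≠ 1) (hb : b ∈ V i) (hb1 : b ≠ 1) (hpb : p ≠ b)
    (hrp : r * p = p * r) (hrb : r * b = b * r) {x : G} (hx : x ∈ V i) : r * x = x * r := by
  rcases h.fr.cases4 hp hb hp1 hb1 hpb hx with rfl | rfl | rfl | rfl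
  · simp
  · exact hrp
  · exact hrb
  · calc r * (p * b) = (r * p) * b := by group
      _ = p * (r * b) := by rw [hrp]; group
      _ = p * b * r := by rw [hrb]; group

theorem mem_Q_of {i : ι} {p b r : G} (hp : p ∈ V i) (hp1 : p ≠ 1) (hb : b ∈ V i) (hb1 : b ≠ 1) (hpb : p ≠ b)
    (hr : r ∈ qz p) (hrb : r * b = b * r) : r ∈ Q := by
  refine h.qz_inf_le hp hr fun j x hx => ?_
  by_cases hj : j = i
  · subst hj
    exact h.fixV hp hp1 hb hb1 hpb (mem_cent.1 (o2_le _ hr)) hrb hx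
  · exact h.fr.Qc i j hj p hp hp1 r hr x hx

/-- `w ∈ W_p` moves `b ∈ V i`: `Q_p ⊆ Q ∪ w Q`. -/
theorem split {i : ι} {p b w : G} (hp : p ∈ V i) (hp1 : p ≠ 1) (hb : b ∈ V i) (hb1 : b ≠ 1) (hpb : p ≠ b)
    (hw : w ∈ KK p) (hwb : w * b * w⁻¹ = p * b) {r : G} (hr : r ∈ qz p) : r ∈ Q ∨ w⁻¹ * r ∈ Q := by
  have hwq := h.fr.KK_le_q hp hp1 hw
  have hpp := h.fr.sq i p hp
  have hpi : p⁻¹ = p := inv_eq_of_mul_eq_one_left hpp
  have h2 := (mem_KK.1 (h.VK i i p hp hp1 hb)).2 r hr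
  rcases (mem_zpowers_iff_of_sq hpp).1 h2 with h3 | h3
  · left
    refine h.mem_Q_of hp hp1 hb hb1 hpb hr ?_
    calc r * b = (b * r * b⁻¹ * r⁻¹)⁻¹ * (b * r) := by group
      _ = b * r := by rw [h3]; group
  · right
    refine h.mem_Q_of hp hp1 hb hb1 hpb (mul_mem (inv_mem hwq) hr) ?_
    have h4 : r * b * r⁻¹ = p * b := by
      calc r * b * r⁻¹ = (b * r * b⁻¹ * r⁻¹)⁻¹ * b := by group
        _ = p * b := by rw [h3, hpi]
    apply comm_of_conj
    calc w⁻¹ * r * b * (w⁻¹ * r)⁻¹ = w⁻¹ * (r * b * r⁻¹) * w := by group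
      _ = w⁻¹ * (w * b * w⁻¹) * w := by rw [h4, hwb]
      _ = b := by group

/-- `Ω₁Z(Q) ≤ Q_p` -/
theorem zz_mem_qz {i : ι} {p : G} (hp : p ∈ V i) (hp1 : p ≠ 1) {z : G} (hzz : z * z = 1)
    (hz : ∀ q ∈ Q, q * z = z * q) : z ∈ qz p := by
  obtain ⟨b, hb, hb1, hpb⟩ := h.fr.exists_other (i := i) p
  obtain ⟨w, hw, hwb⟩ := h.fr.move hp hb hp1 hb1 hpb
  have hzQ : z ∈ Q := h.QQ (mem_centralizer_iff.2 hz)
  have hwq := h.fr.KK_le_q hp hp1 hw
  have hwn := h.KQ i p hp hp1 hw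
  have hpp := h.fr.sq i p hp
  obtain ⟨z', hz'⟩ : ∃ z', z' = w * z * w⁻¹ := ⟨_, rfl⟩
  have hz'Q : z' ∈ Q := by rw [hz']; exact (mem_normalizer_iff.1 hwn z).1 hzQ
  have hz'c : ∀ q ∈ Q, q * z' = z' * q := by
    intro q hq
    have h1 : w⁻¹ * q * w ∈ Q := by
      have := (mem_normalizer_iff.1 (inv_mem hwn) q).1 hq
      rwa [inv_inv] at this
    have h2 := hz _ h1
    calc q * z' = w * ((w⁻¹ * q * w) * z) * w⁻¹ := by rw [hz']; group
      _ = z' * q := by rw [h2, hz']; group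
  have hzz' : z' * z' = 1 := by
    calc z' * z' = w * (z * z) * w⁻¹ := by rw [hz']; group
      _ = 1 := by rw [hzz]; group
  have hwp : w * p * w⁻¹ = p := conj_of_comm (Fr.KK_comm hw)
  have hww : w * w ∈ Q := by
    refine h.mem_Q_of hp hp1 hb hb1 hpb (mul_mem hwq hwq) (comm_of_conj ?_)
    calc w * w * b * (w * w)⁻¹ = w * (w * b * w⁻¹) * w⁻¹ := by group
      _ = w * (p * b) * w⁻¹ := by rw [hwb]
      _ = (w * p * w⁻¹) * (w * b * w⁻¹) := by group
      _ = (p * p) * b := by rw [hwp, hwb]; group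
      _ = b := by rw [hpp, one_mul]
  have hcz : z' * z = z * z' := hz z' hz'Q
  have hcQ : ∀ q ∈ Q, q * (z' * z) = z' * z * q := by
    intro q hq
    calc q * (z' * z) = (q * z') * z := by group
      _ = z' * (q * z) := by rw [hz'c q hq]; group
      _ = z' * z * q := by rw [hz q hq]; group
  have hwc : w * (z' * z) = z' * z * w := by
    apply comm_of_conj
    have h1 : w * w * z * (w * w)⁻¹ = z := conj_of_comm (hz _ hww)
    calc w * (z' * z) * w⁻¹ = (w * w * z * (w * w)⁻¹) * (w * z * w⁻¹) := by rw [hz']; group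
      _ = z * z' := by rw [h1, hz']
      _ = z' * z := hcz.symm
  have hcR : ∀ r ∈ qz p, r * (z' * z) = z' * z * r := by
    intro r hr
    rcases h.split hp hp1 hb hb1 hpb hw hwb hr with h1 | h1
    · exact hcQ r h1
    · calc r * (z' * z) = w * ((w⁻¹ * r) * (z' * z)) := by group
        _ = w * (z' * z) * (w⁻¹ * r) := by rw [hcQ _ h1]; group
        _ = z' * z * r := by rw [hwc]; group
  apply YY_le (h.fr.c2 i p hp hp1)
  refine mem_YY.2 ⟨mem_cent.2 (h.QV i p hp z hzQ), fun r hr => ?_, fun r hr hr2 => ?_⟩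
  · rcases h.split hp hp1 hb hb1 hpb hw hwb hr with h1 | h1
    · have h2 : z * r * z⁻¹ * r⁻¹ = 1 := by rw [← hz r h1]; group
      rw [h2]
      exact one_mem _
    · have h2 : z * r * z⁻¹ * r⁻¹ = z' * z := by
        have h3 := hz _ (inv_mem h1)
        have hzi : z⁻¹ = z := inv_eq_of_mul_eq_one_left hzz
        calc z * r * z⁻¹ * r⁻¹ = z * w * (w⁻¹ * r) * (z⁻¹ * (w⁻¹ * r)⁻¹) * w⁻¹ := by group
          _ = z * w * (w⁻¹ * r) * ((w⁻¹ * r)⁻¹ * z) * w⁻¹ := by rw [hzi, ← h3]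
          _ = z * (w * z * w⁻¹) := by group
          _ = z' * z := by rw [← hz', hcz]
      rw [h2]
      exact mem_centralizer_iff.2 hcR
  · refine conj_of_comm (hz r ?_).symm
    exact h.qz_inf_le hp hr fun j x hx => (mem_centralizer_iff.1 hr2 x (h.fr.VQ i j p hp hp1 hx)).symm

/-- an involution `z` centralising `Q` is centralised by all `W_p`, `p ∈ V j`, modulo `V j` -/
theorem exists_mod {j : ι} {z : G} (hzz : z * z = 1) (hz : ∀ q ∈ Q, q * z = z * q) :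
    ∃ e ∈ V j, ∀ p ∈ V j, p ≠ 1 → ∀ g ∈ KK p, g * (e * z) = e * z * g := by
  obtain ⟨a, ha, b, hb, ha1, hb1, hab⟩ := h.fr.exists_two j
  obtain ⟨wa, hwa, hwab⟩ := h.fr.move ha hb ha1 hb1 hab
  obtain ⟨wb, hwb, hwba⟩ := h.fr.move hb ha hb1 ha1 hab.symm
  have haz := h.fr.KK_act ha hwa (h.zz_mem_qz ha ha1 hzz hz)
  have hbz := h.fr.KK_act hb hwb (h.zz_mem_qz hb hb1 hzz hz)
  have haa := h.fr.sq j a ha
  have hbb := h.fr.sq j b hb
  have hcab := h.fr.comm j j a ha b hb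
  have h1 : wa * a * wa⁻¹ = a := conj_of_comm (Fr.KK_comm hwa)
  have h2 : wb * b * wb⁻¹ = b := conj_of_comm (Fr.KK_comm hwb)
  have key : ∃ e ∈ V j, wa * (e * z) * wa⁻¹ = e * z ∧ wb * (e * z) * wb⁻¹ = e * z := by
    rcases haz with haz | haz <;> rcases hbz with hbz | hbz
    · exact ⟨1, one_mem _, by rw [one_mul]; exact haz, by rw [one_mul]; exact hbz⟩
    · refine ⟨a, ha, ?_, ?_⟩
      · calc wa * (a * z) * wa⁻¹ = (wa * a * wa⁻¹) * (wa * z * wa⁻¹) := by group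
          _ = a * z := by rw [h1, haz]
      · calc wb * (a * z) * wb⁻¹ = (wb * a * wb⁻¹) * (wb * z * wb⁻¹) := by group
          _ = a * (b * b) * z := by rw [hwba, hbz, ← hcab]; group
          _ = a * z := by rw [hbb, mul_one]
    · refine ⟨b, hb, ?_, ?_⟩
      · calc wa * (b * z) * wa⁻¹ = (wa * b * wa⁻¹) * (wa * z * wa⁻¹) := by group
          _ = b * (a * a) * z := by rw [hwab, haz, hcab]; group
          _ = b * z := by rw [haa, mul_one]
      · calc wb * (b * z) * wb⁻¹ = (wb * b * wb⁻¹) * (wb * z * wb⁻¹) := by group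
          _ = b * z := by rw [h2, hbz]
    · refine ⟨a * b, mul_mem ha hb, ?_, ?_⟩
      · calc wa * (a * b * z) * wa⁻¹ = (wa * a * wa⁻¹) * (wa * b * wa⁻¹) * (wa * z * wa⁻¹) := by group
          _ = (a * a) * (b * a) * z := by rw [h1, hwab, haz]; group
          _ = a * b * z := by rw [haa, one_mul, hcab]
      · calc wb * (a * b * z) * wb⁻¹ = (wb * a * wb⁻¹) * (wb * b * wb⁻¹) * (wb * z * wb⁻¹) := by group
          _ = (b * a) * (b * b) * z := by rw [h2, hwba, hbz]; group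
          _ = a * b * z := by rw [hbb, mul_one, hcab]
  obtain ⟨e, he, h3, h4⟩ := key
  have hQz : ∀ q ∈ Q, q * (e * z) = e * z * q := by
    intro q hq
    calc q * (e * z) = (q * e) * z := by group
      _ = e * (q * z) := by rw [h.QV j e he q hq]; group
      _ = e * z * q := by rw [hz q hq]; group
  have h3' := comm_of_conj h3
  have h4' := comm_of_conj h4
  have key2 : ∀ p ∈ V j, p ≠ 1 → ∀ c ∈ V j, c ≠ 1 → p ≠ c → ∀ w ∈ KK p, w * c * w⁻¹ = p * c →
      w * (e * z) = e * z * w → ∀ g ∈ KK p, g * (e * z) = e * z * g := by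
    intro p hp hp1 c hc hc1 hpc w hw hwc hwz g hg
    rcases h.split hp hp1 hc hc1 hpc hw hwc (h.fr.KK_le_q hp hp1 hg) with h5 | h5
    · exact hQz g h5
    · calc g * (e * z) = w * ((w⁻¹ * g) * (e * z)) := by group
        _ = (w * (e * z)) * (w⁻¹ * g) := by rw [hQz _ h5]; group
        _ = e * z * g := by rw [hwz]; group
  have hA := key2 a ha ha1 b hb hb1 hab wa hwa hwab h3'
  have hB := key2 b hb hb1 a ha ha1 hab.symm wb hwb hwba h4'
  refine ⟨e, he, fun p hp hp1 g hg => ?_⟩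
  rcases h.fr.cases4 ha hb ha1 hb1 hab hp with h5 | rfl | rfl | rfl
  · exact absurd h5 hp1
  · exact hA g hg
  · exact hB g hg
  · have h6 : wb⁻¹ * (a * b) * wb⁻¹⁻¹ = a := by
      calc wb⁻¹ * (a * b) * wb⁻¹⁻¹ = wb⁻¹ * (wb * a * wb⁻¹) * wb := by rw [hwba, hcab]; group
        _ = a := by group
    have h7 := KK_conj (h := wb⁻¹) hg
    rw [h6] at h7
    have h8 := hA _ h7
    calc g * (e * z) = wb * ((wb⁻¹ * g * wb⁻¹⁻¹) * (wb⁻¹ * (e * z) * wb)) * wb⁻¹ := by group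
      _ = wb * ((wb⁻¹ * g * wb⁻¹⁻¹) * (wb⁻¹ * (wb * (e * z) * wb⁻¹) * wb)) * wb⁻¹ := by rw [h4]
      _ = wb * ((wb⁻¹ * g * wb⁻¹⁻¹) * (e * z)) * wb⁻¹ := by group
      _ = wb * (e * z * (wb⁻¹ * g * wb⁻¹⁻¹)) * wb⁻¹ := by rw [h8]
      _ = (wb * (e * z) * wb⁻¹) * g := by group
      _ = e * z * g := by rw [h4]

theorem exists_mod_all [Finite ι] {z : G} (hzz : z * z = 1) (hz : ∀ q ∈ Q, q * z = z * q) :
    ∃ e ∈ ⨆ i, V i, ∀ j, ∀ p ∈ V j, p ≠ 1 → ∀ g ∈ KK p, g * (e * z) = e * z * g := by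
  classical
  have := Fintype.ofFinite ι
  have key : ∀ s : Finset ι, ∃ e ∈ ⨆ i, V i, ∀ j ∈ s, ∀ p ∈ V j, p ≠ 1 → ∀ g ∈ KK p,
      g * (e * z) = e * z * g := by
    intro s
    induction s using Finset.induction_on with
    | empty => exact ⟨1, one_mem _, fun j hj => absurd hj (Finset.notMem_empty j)⟩
    | insert i s his ih =>
      obtain ⟨e, he, h1⟩ := ih
      have hzQ : z ∈ Q := h.QQ (mem_centralizer_iff.2 hz)
      have hez : e * z = z * e := hz e (h.sup_le_Q he)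
      have h2 : e * z * (e * z) = 1 := by
        calc e * z * (e * z) = (e * z) * (z * e) := by rw [hez]
          _ = e * (z * z) * e := by group
          _ = 1 := by rw [hzz, mul_one, h.sup_sq he]
      have h3 : ∀ q ∈ Q, q * (e * z) = e * z * q := by
        intro q hq
        calc q * (e * z) = (q * e) * z := by group
          _ = e * (q * z) := by rw [h.Q_sup hq he]; group
          _ = e * z * q := by rw [hz q hq]; group
      obtain ⟨f, hf, h4⟩ := h.exists_mod (j := i) h2 h3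
      refine ⟨f * e, mul_mem ((le_iSup V i) hf) he, fun j hj p hp hp1 g hg => ?_⟩
      rw [mul_assoc]
      rcases Finset.mem_insert.1 hj with rfl | hj
      · exact h4 p hp hp1 g hg
      · have hji : i ≠ j := fun e' => his (e' ▸ hj)
        have h5 : g * f = f * g := h.KK_Vo hp hp1 hg (le_Vo hji hf)
        calc g * (f * (e * z)) = (g * f) * (e * z) := by group
          _ = f * (g * (e * z)) := by rw [h5]; group
          _ = f * (e * z) * g := by rw [h1 j hj p hp hp1 g hg]; group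
  obtain ⟨e, he, h1⟩ := key Finset.univ
  exact ⟨e, he, fun j => h1 j (Finset.mem_univ j)⟩

/-- **(ZV)**: `Ω₁Z(Q) = V`. -/
theorem zv [Finite ι] {z : G} (hzz : z * z = 1) (hz : ∀ q ∈ Q, q * z = z * q) : z ∈ ⨆ i, V i := by
  obtain ⟨e, he, h1⟩ := h.exists_mod_all hzz hz
  set Y : Subgroup G := centralizer ((Q : Set G) ∪ {g | ∃ j, ∃ p ∈ V j, p ≠ 1 ∧ g ∈ KK p}) with hY
  have hYQ : Y ≤ Q := (centralizer_le Set.subset_union_left).trans h.QQ
  have hSY : S ≤ normalizer (Y : Set G) := by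
    apply norm_of
    intro s hs y hy
    refine mem_centralizer_iff.2 fun t ht => ?_
    have h2 : s⁻¹ * t * s ∈ ((Q : Set G) ∪ {g | ∃ j, ∃ p ∈ V j, p ≠ 1 ∧ g ∈ KK p}) := by
      rcases ht with ht | ⟨j, p, hp, hp1, ht⟩
      · left
        have := (mem_normalizer_iff.1 (h.SQ (inv_mem hs)) t).1 ht
        rwa [inv_inv] at this
      · right
        obtain ⟨l, hl, -⟩ := h.perm s⁻¹ (inv_mem hs) j
        refine ⟨l, s⁻¹ * p * s⁻¹⁻¹, hl p hp, fun h0 => hp1 ?_, ?_⟩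
        · calc p = s * (s⁻¹ * p * s⁻¹⁻¹) * s⁻¹ := by group
            _ = 1 := by rw [h0]; group
        · have := KK_conj (h := s⁻¹) ht
          rwa [inv_inv] at this ⊢
    have h3 := mem_centralizer_iff.1 hy _ h2
    calc t * (s * y * s⁻¹) = s * ((s⁻¹ * t * s) * y) * s⁻¹ := by group
      _ = s * y * s⁻¹ * t := by rw [h3]; group
  have hYb : Y = ⊥ := by
    by_contra hYb
    obtain ⟨c, hc, hcS, hc1⟩ := exists_mem_zc h.fr.S2 (hYQ.trans h.QS) hSY hYb
    apply hc1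
    exact h.tot (h.fr.zS hcS) fun j p hp hp1 g hg =>
      mem_centralizer_iff.1 hc g (Or.inr ⟨j, p, hp, hp1, hg⟩)
  have hez : e * z ∈ Y := by
    refine mem_centralizer_iff.2 fun t ht => ?_
    rcases ht with ht | ⟨j, p, hp, hp1, ht⟩
    · calc t * (e * z) = (t * e) * z := by group
        _ = e * (t * z) := by rw [h.Q_sup ht he]; group
        _ = e * z * t := by rw [hz t ht]; group
    · exact h1 j p hp hp1 t ht
  rw [hYb, mem_bot] at hez
  have h2 : z = e⁻¹ := eq_inv_of_mul_eq_one_right hez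
  rw [h2]
  exact inv_mem he

/-! #### LEMMA 1 -/

/-- **LEMMA 1.** -/
theorem one [Finite ι] {i : ι} {y a : G} (hy : y ∈ zc (qz (v i))) (ha1 : a ≠ 1)
    (hQ : ∀ q ∈ Q, q * y * q⁻¹ = y ∨ q * y * q⁻¹ = a * y) (hex : ∃ q ∈ Q, q * y * q⁻¹ = a * y) :
    a = v i := by
  obtain ⟨q₀, hq₀, hq₀y⟩ := hex
  have hvi := h.vV i
  have hvi1 := h.v1 i
  have hQv : ∀ q ∈ Q, q * v i = v i * q := fun q hq => h.QV i _ hvi q hq
  have haU : a ∈ zc (qz (v i)) := by
    have h1 : a = (q₀ * y * q₀⁻¹) * y⁻¹ := by rw [hq₀y]; group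
    rw [h1]
    exact mul_mem (h.zc_conj (hQv q₀ hq₀) hy) (inv_mem hy)
  have haa : a * a = 1 := by
    have := (mem_zc.1 haU).2.2
    rwa [pow_two] at this
  have hai : a⁻¹ = a := inv_eq_of_mul_eq_one_left haa
  have haQ : ∀ r ∈ Q, r * a = a * r := by
    intro r hr
    apply comm_of_conj
    have e1 : r * q₀ * y * (r * q₀)⁻¹ = (r * a * r⁻¹) * (r * y * r⁻¹) := by
      calc r * q₀ * y * (r * q₀)⁻¹ = r * (q₀ * y * q₀⁻¹) * r⁻¹ := by group
        _ = (r * a * r⁻¹) * (r * y * r⁻¹) := by rw [hq₀y]; group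
    have hne : r * a * r⁻¹ ≠ 1 := fun h0 => ha1 (by
      calc a = r⁻¹ * (r * a * r⁻¹) * r := by group
        _ = 1 := by rw [h0]; group)
    rcases hQ r hr with h1 | h1 <;> rcases hQ (r * q₀) (mul_mem hr hq₀) with h2 | h2
    · exfalso
      rw [e1, h1] at h2
      exact hne (mul_eq_right.1 h2)
    · rw [e1, h1] at h2
      exact mul_right_cancel h2
    · rw [e1, h1, ← mul_assoc] at h2
      have h3 := mul_eq_right.1 h2
      exact (eq_inv_of_mul_eq_one_left h3).trans hai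
    · exfalso
      rw [e1, h1] at h2
      exact hne (mul_eq_right.1 h2)
  have haV := h.zv haa haQ
  have hyV : ∀ j, ∀ x ∈ V j, y * x = x * y := fun j x hx => h.zc_V hvi hvi1 hy j hx
  -- the projections to `V j`, `j ≠ i`
  have claim : ∀ j, j ≠ i → a ∈ Vo V j := by
    intro j hj
    obtain ⟨a', ha', b, hb, hab⟩ := h.decomp j haV
    by_cases ha'1 : a' = 1
    · rw [hab, ha'1, one_mul]
      exact hb
    exfalso
    obtain ⟨p, hp, hp1, hap⟩ := h.fr.exists_other (i := j) a'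
    obtain ⟨w, hw, hwa⟩ := h.fr.move hp ha' hp1 ha'1 (Ne.symm hap)
    have hwq := h.fr.KK_le_q hp hp1 hw
    have hwp : w * p * w⁻¹ = p := conj_of_comm (Fr.KK_comm hw)
    have hpp := h.fr.sq j p hp
    have hwb : w * b * w⁻¹ = b := conj_of_comm (h.KK_Vo hp hp1 hw hb)
    have hwaa : w * a * w⁻¹ = p * a := by
      calc w * a * w⁻¹ = (w * a' * w⁻¹) * (w * b * w⁻¹) := by rw [hab]; group
        _ = p * a := by rw [hwa, hwb, hab]; group
    have hpa : p ≠ a := by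
      intro h0
      rw [← h0, hwp, hpp] at hwaa
      exact hp1 hwaa
    have hyp : y * p = p * y := hyV j p hp
    -- (1)
    have s1 : ∀ c ∈ zc (qz p), y * c = c * y := by
      intro c hc
      have hcQ := h.zc_le_Q hp hp1 hc
      rcases hQ c hcQ with h1 | h1
      · exact (comm_of_conj h1).symm
      · exfalso
        have h2 : a ∈ zc (qz p) := by
          have h3 : a = c * (y * c⁻¹ * y⁻¹) := by
            calc a = (a * y) * y⁻¹ := by group
              _ = c * (y * c⁻¹ * y⁻¹) := by rw [← h1]; group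
          rw [h3]
          exact mul_mem hc (h.zc_conj hyp (inv_mem hc))
        have h3 : w * a * w⁻¹ = a := conj_of_comm ((mem_zc.1 h2).2.1 w hwq)
        rw [h3] at hwaa
        exact hp1 (mul_eq_right.1 hwaa.symm)
    -- (2)
    have hyq : y ∈ qz p := h.mem_qz_of hj.symm hvi hvi1 hp hp1 hy s1
    -- (3), (4)
    have hea : ∀ e ∈ V j, e * a = a * e := fun e he => h.sup_comm ((le_iSup V j) he) haV
    obtain ⟨e, he, hwz⟩ : ∃ e ∈ V j, w * (e * y) * w⁻¹ = e * y := by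
      rcases h.fr.KK_act hp hw hyq with h1 | h1
      · exact ⟨1, one_mem _, by rw [one_mul]; exact h1⟩
      · refine ⟨a', ha', ?_⟩
        have h2 : p * a' = a' * p := h.fr.comm j j p hp a' ha'
        calc w * (a' * y) * w⁻¹ = (w * a' * w⁻¹) * (w * y * w⁻¹) := by group
          _ = a' * (p * p) * y := by rw [hwa, h1, h2]; group
          _ = a' * y := by rw [hpp, mul_one]
    have hwn := h.KQ j p hp hp1 hw
    have hq₁ : w * q₀ * w⁻¹ ∈ Q := (mem_normalizer_iff.1 hwn q₀).1 hq₀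
    have hwz' : w⁻¹ * (e * y) * w = e * y := by
      calc w⁻¹ * (e * y) * w = w⁻¹ * (w * (e * y) * w⁻¹) * w := by rw [hwz]
        _ = e * y := by group
    have orb : ∀ q ∈ Q, ∀ b : G, q * y * q⁻¹ = b * y → e * b = b * e → q * (e * y) * q⁻¹ = b * (e * y) := by
      intro q hq b h1 h2
      have h3 : q * e * q⁻¹ = e := conj_of_comm (h.QV j e he q hq)
      calc q * (e * y) * q⁻¹ = (q * e * q⁻¹) * (q * y * q⁻¹) := by group
        _ = (e * b) * y := by rw [h3, h1]; group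
        _ = b * (e * y) := by rw [h2]; group
    have h5 : (w * q₀ * w⁻¹) * (e * y) * (w * q₀ * w⁻¹)⁻¹ = p * a * (e * y) := by
      calc (w * q₀ * w⁻¹) * (e * y) * (w * q₀ * w⁻¹)⁻¹
          = w * (q₀ * (w⁻¹ * (e * y) * w) * q₀⁻¹) * w⁻¹ := by group
        _ = w * (a * (e * y)) * w⁻¹ := by rw [hwz', orb q₀ hq₀ a hq₀y (hea e he)]
        _ = (w * a * w⁻¹) * (w * (e * y) * w⁻¹) := by group
        _ = p * a * (e * y) := by rw [hwaa, hwz]
    rcases hQ _ hq₁ with h6 | h6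
    · have h7 := orb _ hq₁ 1 (by rw [one_mul]; exact h6) (by simp)
      rw [h5] at h7
      have h8 := mul_right_cancel h7
      exact hpa ((eq_inv_of_mul_eq_one_left h8).trans hai)
    · have h7 := orb _ hq₁ a h6 (hea e he)
      rw [h5] at h7
      have h8 := mul_right_cancel h7
      exact hp1 (mul_eq_right.1 h8)
  -- the projection to `V i`
  obtain ⟨a', ha', b, hb, hab⟩ := h.decomp i haV
  have hb1 : b = 1 := by
    have hbV : b ∈ ⨆ i, V i := (Vo_le (V := V) fun j _ => le_iSup V j) hb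
    refine h.tot hbV fun j p hp hp1 g hg => ?_
    by_cases hji : j = i
    · subst hji
      exact h.KK_Vo hp hp1 hg hb
    · have h1 : g * a = a * g := h.KK_Vo hp hp1 hg (claim j hji)
      have h2 : g * a' = a' * g := h.KK_Vo hp hp1 hg (le_Vo (Ne.symm hji) ha')
      have h3 : a' * (g * b) = a' * (b * g) := by
        calc a' * (g * b) = (a' * g) * b := by group
          _ = g * a := by rw [← h2, hab]; group
          _ = a' * (b * g) := by rw [h1, hab]; group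
      exact mul_left_cancel h3
  rw [hb1, mul_one] at hab
  by_contra hne
  obtain ⟨w, hw, hwa⟩ := h.fr.move hvi (hab ▸ ha') hvi1 ha1 (Ne.symm hne)
  have h1 : w * a * w⁻¹ = a := conj_of_comm ((mem_zc.1 haU).2.1 w (h.fr.KK_le_q hvi hvi1 hw))
  rw [h1] at hwa
  exact hvi1 (mul_eq_right.1 hwa.symm)

end Sc

end Cfsg.Agent.Omega.IId.Big.Syl

end

section


/-!
# A permutation of a 2-group on an elementary abelian group: an orbit of length two (bb OMEGA 18977, LEMMA 2)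

* `exists_half` : a proper subgroup of a 2-group lies in a subgroup of index 2;
* `block` : the product over half of an orbit.
-/

set_option autoImplicit false

namespace Cfsg.Agent.Omega.IId.Big.Syl

open Subgroup

universe u

variable {G : Type u} [Group G]

/-- A proper subgroup of a finite 2-group lies in a subgroup of index 2. -/
theorem exists_half [Finite G] {Q H : Subgroup G} (hQ : IsPGroup 2 Q) (hHQ : H ≤ Q) (hne : H ≠ Q) :
    ∃ R : Subgroup G, H ≤ R ∧ R ≤ Q ∧ R ≠ Q ∧ ∀ a ∈ Q, ∀ b ∈ Q, a ∉ R → b ∉ R → a * b ∈ R := by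
  have hf : Fact (Nat.Prime 2) := ⟨Nat.prime_two⟩
  obtain ⟨n, hn⟩ := IsPGroup.iff_card.1 hQ
  obtain ⟨m, hm⟩ := IsPGroup.iff_card.1 (hQ.to_subgroup (H.subgroupOf Q))
  have hlt : m < n := by
    by_contra hcon
    have h1 : Nat.card Q ≤ Nat.card (H.subgroupOf Q) := by
      rw [hn, hm]
      exact Nat.pow_le_pow_right (by norm_num) (not_lt.1 hcon)
    have h2 : H.subgroupOf Q = ⊤ := eq_top_of_le_card _ h1
    exact hne (le_antisymm hHQ (subgroupOf_eq_top.1 h2))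
  obtain ⟨K, hK, hHK⟩ := Sylow.exists_subgroup_card_pow_prime_le (p := 2) (m := n - 1)
    (by rw [hn]; exact pow_dvd_pow 2 (Nat.sub_le n 1)) (H.subgroupOf Q) hm (by omega)
  have hidx : K.index = 2 := by
    have h1 := K.card_mul_index
    rw [hK, hn] at h1
    have h2 : 2 ^ n = 2 ^ (n - 1) * 2 := by
      rw [← pow_succ]
      congr 1
      omega
    rw [h2] at h1
    exact Nat.eq_of_mul_eq_mul_left (pow_pos (by norm_num) _) h1
  refine ⟨K.map Q.subtype, ?_, ?_, ?_, ?_⟩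
  · intro x hx
    exact ⟨⟨x, hHQ hx⟩, hHK (mem_subgroupOf.2 hx), rfl⟩
  · rintro _ ⟨x, -, rfl⟩
    exact x.2
  · intro h0
    have h1 : K = ⊤ := by
      rw [eq_top_iff]
      rintro x -
      have h2 : (x : G) ∈ K.map Q.subtype := by rw [h0]; exact x.2
      obtain ⟨y, hy, hyx⟩ := h2
      have : y = x := Subtype.ext hyx
      exact this ▸ hy
    rw [h1, index_top] at hidx
    omega
  · intro a ha b hb haK hbK
    have h1 : (⟨a, ha⟩ : Q) ∉ K := fun h0 => haK ⟨_, h0, rfl⟩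
    have h2 : (⟨b, hb⟩ : Q) ∉ K := fun h0 => hbK ⟨_, h0, rfl⟩
    have h3 : (⟨a, ha⟩ * ⟨b, hb⟩ : Q) ∈ K := by
      rw [mul_mem_iff_of_index_two hidx]
      exact iff_of_false h1 h2
    exact ⟨_, h3, rfl⟩

/-- **The product over half of an orbit.** -/
theorem block [Finite G] {A Q N : Subgroup G} (hA : ∀ x ∈ A, ∀ y ∈ A, x * y = y * x) (hQ : IsPGroup 2 Q)
    (hn : ∀ q ∈ Q, ∀ x ∈ A, q * x * q⁻¹ ∈ A) {x : G} (hx : x ∈ A) (hmv : ∃ q ∈ Q, q * x * q⁻¹ ≠ x)
    (hN : x ∉ N) (hN' : ∀ q ∈ Q, q * x * q⁻¹ ≠ x → q * x * q⁻¹ ∈ N) :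
    ∃ ν ∈ A, ∃ b ∈ A, b ≠ 1 ∧ (∀ q ∈ Q, q * ν * q⁻¹ = ν ∨ q * ν * q⁻¹ = b * ν) ∧
      ∃ q ∈ Q, q * ν * q⁻¹ = b * ν := by
  classical
  letI : CommGroup A := { (inferInstance : Group A) with
    mul_comm := fun x y => Subtype.ext (hA x x.2 y y.2) }
  have hfin : Fintype A := Fintype.ofFinite A
  obtain ⟨q₀, hq₀, hq₀x⟩ := hmv
  have hcx : ∀ r : G, r ∈ centralizer ({x} : Set G) ↔ r * x * r⁻¹ = x := by
    intro r
    rw [mem_centralizer_iff]
    constructor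
    · intro h1
      have h2 := h1 x rfl
      rw [← h2]
      group
    · intro h1 y hy
      rw [Set.mem_singleton_iff.1 hy]
      exact (mul_inv_eq_iff_eq_mul.1 h1).symm
  have hH : Q ⊓ centralizer ({x} : Set G) ≠ Q := by
    intro h0
    have h1 : q₀ ∈ Q ⊓ centralizer ({x} : Set G) := by rw [h0]; exact hq₀
    exact hq₀x ((hcx q₀).1 h1.2)
  obtain ⟨R, hHR, hRQ, hRne, hR2⟩ := exists_half hQ inf_le_left hH
  have hR : ∀ r ∈ Q, r * x * r⁻¹ = x → r ∈ R := fun r hr h1 => hHR ⟨hr, (hcx r).2 h1⟩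
  let φ : Q → A →* A := fun q =>
    { toFun := fun y => ⟨q * y * (q : G)⁻¹, hn q q.2 y y.2⟩
      map_one' := Subtype.ext (by simp)
      map_mul' := fun y z => Subtype.ext (by
        show (q : G) * (y * z) * (q : G)⁻¹ = q * y * (q : G)⁻¹ * (q * z * (q : G)⁻¹)
        group) }
  have hφ : ∀ (q : Q) (y : A), ((φ q y : A) : G) = q * y * (q : G)⁻¹ := fun _ _ => rfl
  let B : Finset A := Finset.univ.filter (fun y => ∃ r ∈ R, (y : G) = r * x * r⁻¹)
  let B' : Finset A := Finset.univ.filter (fun y => ∃ r ∈ Q, r ∉ R ∧ (y : G) = r * x * r⁻¹)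
  have mB : ∀ y : A, y ∈ B ↔ ∃ r ∈ R, (y : G) = r * x * r⁻¹ := fun y => by simp [B]
  have mB' : ∀ y : A, y ∈ B' ↔ ∃ r ∈ Q, r ∉ R ∧ (y : G) = r * x * r⁻¹ := fun y => by simp [B']
  have key : ∀ (q : Q) (C D : Finset A), (∀ y ∈ C, φ q y ∈ D) → (∀ y ∈ D, ∃ z ∈ C, φ q z = y) →
      φ q (∏ y ∈ C, y) = ∏ y ∈ D, y := by
    intro q C D h1 h2
    rw [map_prod]
    refine Finset.prod_bij (fun y _ => φ q y) h1 ?_ (fun y hy => ?_) (fun _ _ => rfl)
    · intro y _ z _ h3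
      have h4 : (q : G) * y * (q : G)⁻¹ = q * z * (q : G)⁻¹ := congrArg Subtype.val h3
      exact Subtype.ext (mul_left_cancel (mul_right_cancel h4))
    · obtain ⟨z, hz, hzy⟩ := h2 y hy
      exact ⟨z, hz, hzy⟩
  obtain ⟨ν, hν⟩ : ∃ ν : A, ν = ∏ y ∈ B, y := ⟨_, rfl⟩
  obtain ⟨ν', hν'⟩ : ∃ ν' : A, ν' = ∏ y ∈ B', y := ⟨_, rfl⟩
  have k1 : ∀ q : Q, (q : G) ∈ R → φ q ν = ν := by
    intro q hq
    rw [hν]
    refine key q B B (fun y hy => ?_) fun y hy => ?_
    · obtain ⟨r, hr, hyr⟩ := (mB y).1 hy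
      refine (mB _).2 ⟨q * r, mul_mem hq hr, ?_⟩
      rw [hφ, hyr]
      group
    · obtain ⟨r, hr, hyr⟩ := (mB y).1 hy
      refine ⟨φ q⁻¹ y, (mB _).2 ⟨(q : G)⁻¹ * r, mul_mem (inv_mem hq) hr, ?_⟩, Subtype.ext ?_⟩
      · rw [hφ, hyr]
        simp [mul_assoc]
      · rw [hφ, hφ]
        simp [mul_assoc]
  have k2 : ∀ q : Q, (q : G) ∉ R → φ q ν = ν' := by
    intro q hq
    rw [hν, hν']
    refine key q B B' (fun y hy => ?_) fun y hy => ?_
    · obtain ⟨r, hr, hyr⟩ := (mB y).1 hy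
      refine (mB' _).2 ⟨q * r, mul_mem q.2 (hRQ hr), fun h0 => hq ?_, ?_⟩
      · have := mul_mem h0 (inv_mem hr)
        rwa [mul_inv_cancel_right] at this
      · rw [hφ, hyr]
        group
    · obtain ⟨r, hrQ, hr, hyr⟩ := (mB' y).1 hy
      refine ⟨φ q⁻¹ y, (mB _).2 ⟨(q : G)⁻¹ * r, hR2 _ (inv_mem q.2) _ hrQ (fun h0 => hq ?_) hr, ?_⟩,
        Subtype.ext ?_⟩
      · have := inv_mem h0
        rwa [inv_inv] at this
      · rw [hφ, hyr]
        simp [mul_assoc]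
      · rw [hφ, hφ]
        simp [mul_assoc]
  have hxB : (⟨x, hx⟩ : A) ∈ B := (mB _).2 ⟨1, one_mem _, by simp⟩
  have hνN : ν = ⟨x, hx⟩ * ∏ y ∈ B.erase ⟨x, hx⟩, y := by
    rw [hν, Finset.mul_prod_erase B (fun y => y) hxB]
  have h1 : (∏ y ∈ B.erase ⟨x, hx⟩, y) ∈ N.subgroupOf A := by
    refine Subgroup.prod_mem _ fun y hy => ?_
    obtain ⟨hyx, hyB⟩ := Finset.mem_erase.1 hy
    obtain ⟨r, hr, hyr⟩ := (mB y).1 hyB
    rw [mem_subgroupOf, hyr]
    exact hN' r (hRQ hr) fun h0 => hyx (Subtype.ext (by rw [hyr, h0]))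
  have h2 : ν' ∈ N.subgroupOf A := by
    rw [hν']
    refine Subgroup.prod_mem _ fun y hy => ?_
    obtain ⟨r, hrQ, hr, hyr⟩ := (mB' y).1 hy
    rw [mem_subgroupOf, hyr]
    exact hN' r hrQ fun h0 => hr (hR r hrQ h0)
  have hbne : ν' * ν⁻¹ ≠ 1 := by
    intro h0
    have h3 : ν' = ν := mul_inv_eq_one.1 h0
    rw [h3, hνN] at h2
    have h4 : (⟨x, hx⟩ : A) ∈ N.subgroupOf A := by
      have := mul_mem h2 (inv_mem h1)
      rwa [mul_inv_cancel_right] at this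
    exact hN (mem_subgroupOf.1 h4)
  have e1 : ((ν' * ν⁻¹ : A) : G) * (ν : G) = ν' := by
    simp
  refine ⟨ν, ν.2, (ν' * ν⁻¹ : A), (ν' * ν⁻¹ : A).2, fun h0 => hbne (Subtype.ext h0), fun q hq => ?_, ?_⟩
  · rw [e1]
    by_cases hqR : q ∈ R
    · left
      have := congrArg Subtype.val (k1 ⟨q, hq⟩ hqR)
      exact this
    · right
      have := congrArg Subtype.val (k2 ⟨q, hq⟩ hqR)
      exact this
  · obtain ⟨q, hq, hqR⟩ : ∃ q ∈ Q, q ∉ R := by
      by_contra hcon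
      push Not at hcon
      exact hRne (le_antisymm hRQ hcon)
    refine ⟨q, hq, ?_⟩
    rw [e1]
    have := congrArg Subtype.val (k2 ⟨q, hq⟩ hqR)
    exact this

end Cfsg.Agent.Omega.IId.Big.Syl

end

section


/-!
# CvBig, `q = 2`, CASE 2a (bb OMEGA 20837, (3)): the element `k` and `γ`

Over 428's frame `Fr S V`, `i` an index, `v ∈ V i`:

* `Cn A c` : `c` is centralised by all `W_s`, `s ∈ A#`;
* `Lin A s c` : `c ∈ O₂(C(s))`, and the elements of `W_s` which centralise `A` centralise `c`;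
* `exists_a` : `a c` is centralised by all `W_s` for some `a ∈ V i`;
* `Mx V i T v` : `T` is maximal among the 2-subgroups of `N(V i)`, `T ≤ C(v)`, `O₂(C(v)) ≤ T`;
* `exists_k` : `w ∈ N(T) ∩ C(v)`, `w ∉ N(V i)`, the elements of `(V i)^w` are linear: `a k ∈ (V i)^w`, `k ∈ C(T, X)`;
* `seven` : the 7-point case is impossible;
* `exists_gamma` : `v^γ = v k`, `k^γ = k`, `γ ∈ N(V i ⟨k⟩)`.
-/

set_option autoImplicit false
set_option linter.unusedSectionVars false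

namespace Cfsg.Agent.Omega.IId.NV.BigD.Node

open Subgroup Cfsg
open Cfsg.Agent.ZN (o2 zc)
open Cfsg.Agent.MinSimple.VModule (le_o2 le_normalizer_o2 mem_zc o2_isPGroup o2_le)
open Cfsg.Agent.Omega.IId.Big
open Triangle (KK KK_conj KK_le_o2 mem_cent mem_KK mem_zpowers_iff_of_sq cent_conj o2_cent_conj)

universe u

variable {G : Type u} [Group G] [Finite G] {ι : Type} {S : Subgroup G} {V : ι → Subgroup G}

/-- `c` is centralised by `⟨W_s : s ∈ A#⟩` -/
def Cn (A : Subgroup G) (c : G) : Prop := ∀ s ∈ A, s ≠ 1 → ∀ g ∈ KK s, g * c = c * g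

/-- `c` is linear at `s` -/
def Lin (A : Subgroup G) (s c : G) : Prop :=
  c ∈ qz s ∧ ∀ r ∈ KK s, (∀ x ∈ A, r * x = x * r) → r * c = c * r

theorem inv_of_sq {x : G} (h : x * x = 1) : x⁻¹ = x := inv_eq_of_mul_eq_one_left h

section fr

variable (h : Fr S V) {i : ι}
include h

theorem comm_all {s x r : G} (hs : s ∈ V i) (hs1 : s ≠ 1) (hx : x ∈ V i) (hx1 : x ≠ 1) (hsx : s ≠ x)
    (h1 : r * s = s * r) (h2 : r * x = x * r) : ∀ y ∈ V i, r * y = y * r := by
  intro y hy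
  rcases h.cases4 hs hx hs1 hx1 hsx hy with rfl | rfl | rfl | rfl
  · simp
  · exact h1
  · exact h2
  · rw [← mul_assoc, h1, mul_assoc, h2, mul_assoc]

theorem dich {s x c : G} (hs : s ∈ V i) (hs1 : s ≠ 1) (hx : x ∈ V i) (hx1 : x ≠ 1) (hsx : s ≠ x)
    (hL : Lin (V i) s c) (hcV : ∀ y ∈ V i, c * y = y * c) :
    (∀ r ∈ KK s, r * c = c * r) ∨ ∀ r ∈ KK s, r * (x * c) = x * c * r := by
  obtain ⟨a, ha, hax⟩ := h.move hs hx hs1 hx1 hsx
  have has := Fr.KK_comm ha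
  have hss := h.sq i s hs
  have hinvs := inv_of_sq hss
  -- the two kinds of elements of `W_s`
  have key : ∀ r ∈ KK s, (∀ y ∈ V i, r * y = y * r) ∨ ∀ y ∈ V i, a⁻¹ * r * y = y * (a⁻¹ * r) := by
    intro r hr
    have hrs := Fr.KK_comm hr
    rcases h.KK_act hs hr (h.VQ i i s hs hs1 hx) with h1 | h1
    · exact Or.inl (comm_all h hs hs1 hx hx1 hsx hrs (comm_of_conj h1))
    · right
      refine comm_all h hs hs1 hx hx1 hsx ?_ ?_
      · have h2 : a⁻¹ * s = s * a⁻¹ := by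
          rw [eq_mul_inv_iff_mul_eq, mul_assoc, ← has, inv_mul_cancel_left]
        calc a⁻¹ * r * s = a⁻¹ * (r * s) := by group
          _ = (a⁻¹ * s) * r := by rw [hrs]; group
          _ = s * (a⁻¹ * r) := by rw [h2]; group
      · have h2 : r * x * r⁻¹ = a * x * a⁻¹ := by rw [h1, hax]
        calc a⁻¹ * r * x = a⁻¹ * (r * x * r⁻¹) * r := by group
          _ = x * (a⁻¹ * r) := by rw [h2]; group
  rcases h.KK_act hs ha hL.1 with h1 | h1
  · left
    have h2 := comm_of_conj h1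
    intro r hr
    rcases key r hr with h3 | h3
    · exact hL.2 r hr h3
    · have h4 := hL.2 _ (mul_mem (inv_mem ha) hr) h3
      calc r * c = a * (a⁻¹ * r * c) := by group
        _ = (a * c) * (a⁻¹ * r) := by rw [h4]; group
        _ = c * r := by rw [h2]; group
  · right
    have hcs : c * s = s * c := hcV s hs
    have h2 : a * (x * c) = x * c * a := by
      have h5 : a * (x * c) * a⁻¹ = x * c := by
        calc a * (x * c) * a⁻¹ = (a * x * a⁻¹) * (a * c * a⁻¹) := by group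
          _ = (s * x) * (s * c) := by rw [hax, h1]
          _ = (x * s) * (s * c) := by rw [h.comm i i s hs x hx]
          _ = x * (s * s) * c := by group
          _ = x * c := by rw [hss, mul_one]
      exact comm_of_conj h5
    have h6 : ∀ r ∈ KK s, (∀ y ∈ V i, r * y = y * r) → r * (x * c) = x * c * r := by
      intro r hr h3
      have h4 := hL.2 r hr h3
      have h5 := h3 x hx
      calc r * (x * c) = (r * x) * c := by group
        _ = x * (r * c) := by rw [h5]; group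
        _ = x * c * r := by rw [h4]; group
    intro r hr
    rcases key r hr with h3 | h3
    · exact h6 r hr h3
    · have h4 := h6 _ (mul_mem (inv_mem ha) hr) h3
      calc r * (x * c) = a * (a⁻¹ * r * (x * c)) := by group
        _ = (a * (x * c)) * (a⁻¹ * r) := by rw [h4]; group
        _ = x * c * r := by rw [h2]; group

/-- `W_v ≤ ⟨W_b, W_{vb}⟩` -/
theorem K_gen {v b y : G} (hv : v ∈ V i) (hv1 : v ≠ 1) (hb : b ∈ V i) (hb1 : b ≠ 1) (hvb : v ≠ b)
    (h1 : ∀ g ∈ KK b, g * y = y * g) (h2 : ∀ g ∈ KK (v * b), g * y = y * g) : Cn (V i) y := by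
  have hvb' : v * b ∈ V i := mul_mem hv hb
  have hbb := h.sq i b hb
  have hvv := h.sq i v hv
  have hne1 : v * b ≠ 1 := fun h0 => hvb (by
    calc v = v * (b * b) := by rw [hbb, mul_one]
      _ = (v * b) * b := by group
      _ = b := by rw [h0, one_mul])
  have hne2 : v * b ≠ b := fun h0 => hv1 (mul_eq_right.1 h0)
  obtain ⟨s, hs, hsb⟩ := h.move hvb' hb hne1 hb1 hne2
  have h3 : s * b * s⁻¹ = v := by rw [hsb, mul_assoc, hbb, mul_one]
  have h4 : ∀ g ∈ KK v, g * y = y * g := by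
    intro g hg
    have h5 : s⁻¹ * g * s ∈ KK b := by
      have h6 := KK_conj (h := s⁻¹) hg
      have e : s⁻¹ * v * s⁻¹⁻¹ = b := by rw [← h3]; group
      rwa [e, inv_inv] at h6
    have c1 : Commute (s⁻¹ * g * s) y := h1 _ h5
    have c2 : Commute s y := h2 s hs
    have c3 := (c2.mul_left c1).mul_left c2.inv_left
    have e : s * (s⁻¹ * g * s) * s⁻¹ = g := by group
    rw [e] at c3
    exact c3.eq
  intro x hx hx1 g hg
  rcases h.cases4 hv hb hv1 hb1 hvb hx with rfl | rfl | rfl | rfl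
  · exact absurd rfl hx1
  · exact h4 g hg
  · exact h1 g hg
  · exact h2 g hg

theorem exists_a {v b c : G} (hv : v ∈ V i) (hv1 : v ≠ 1) (hb : b ∈ V i) (hb1 : b ≠ 1) (hvb : v ≠ b)
    (hL : Lin (V i) b c) (hL' : Lin (V i) (v * b) c) (hcV : ∀ y ∈ V i, c * y = y * c) :
    ∃ a ∈ V i, Cn (V i) (a * c) := by
  have hvb' : v * b ∈ V i := mul_mem hv hb
  have hbb := h.sq i b hb
  have hvv := h.sq i v hv
  have hne1 : v * b ≠ 1 := fun h0 => hvb (by
    calc v = v * (b * b) := by rw [hbb, mul_one]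
      _ = (v * b) * b := by group
      _ = b := by rw [h0, one_mul])
  have hne3 : v * b ≠ v := fun h0 => hb1 (mul_eq_left.1 h0)
  have hbv : b * v = v * b := h.comm i i b hb v hv
  rcases dich h hb hb1 hv hv1 (Ne.symm hvb) hL hcV with h1 | h1 <;>
    rcases dich h hvb' hne1 hv hv1 hne3 hL' hcV with h2 | h2
  · exact ⟨1, one_mem _, K_gen h hv hv1 hb hb1 hvb (by simpa using h1) (by simpa using h2)⟩
  · refine ⟨b, hb, K_gen h hv hv1 hb hb1 hvb (fun g hg => ?_) (fun g hg => ?_)⟩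
    · have h3 : Commute g b := Fr.KK_comm hg
      have h4 : Commute g c := h1 g hg
      exact (h3.mul_right h4).eq
    · have h3 : Commute g (v * b) := Fr.KK_comm hg
      have h4 : Commute g (v * c) := h2 g hg
      have e : b * c = v * b * (v * c) := by
        calc b * c = b * (v * v) * c := by rw [hvv, mul_one]
          _ = (b * v) * (v * c) := by group
          _ = v * b * (v * c) := by rw [hbv]
      rw [e]
      exact (h3.mul_right h4).eq
  · refine ⟨v * b, hvb', K_gen h hv hv1 hb hb1 hvb (fun g hg => ?_) (fun g hg => ?_)⟩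
    · have h3 : Commute g b := Fr.KK_comm hg
      have h4 : Commute g (v * c) := h1 g hg
      have e : v * b * c = b * (v * c) := by rw [← hbv]; group
      rw [e]
      exact (h3.mul_right h4).eq
    · have h3 : Commute g (v * b) := Fr.KK_comm hg
      have h4 : Commute g c := h2 g hg
      exact (h3.mul_right h4).eq
  · exact ⟨v, hv, K_gen h hv hv1 hb hb1 hvb h1 h2⟩

/-- an element of `V i` centralised by all `W_s` is trivial -/
theorem eq_one_of_Cn {x : G} (hx : x ∈ V i) (hc : Cn (V i) x) : x = 1 := by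
  by_contra hx1
  obtain ⟨s, hs, hs1, hxs⟩ := h.exists_other (i := i) x
  obtain ⟨g, hg, hgx⟩ := h.move hs hx hs1 hx1 (Ne.symm hxs)
  rw [hc s hs hs1 g hg, mul_inv_cancel_right] at hgx
  exact hs1 (right_eq_mul.1 hgx)

omit [Finite G] h in
theorem Cn.mul {A : Subgroup G} {x y : G} (hx : Cn A x) (hy : Cn A y) : Cn A (x * y) := fun s hs hs1 g hg => by
  have h1 : Commute g x := hx s hs hs1 g hg
  have h2 : Commute g y := hy s hs hs1 g hg
  exact (h1.mul_right h2).eq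

omit [Finite G] h in
theorem Cn.inv {A : Subgroup G} {x : G} (hx : Cn A x) : Cn A x⁻¹ := fun s hs hs1 g hg => by
  have h1 : Commute g x := hx s hs hs1 g hg
  exact h1.inv_right.eq

omit [Finite G] h in
/-- `Cn` is invariant under `N(A)` -/
theorem Cn.conj {A : Subgroup G} {x t : G} (hx : Cn A x) (ht : t ∈ normalizer (A : Set G)) : Cn A (t * x * t⁻¹) := by
  intro s hs hs1 g hg
  have hs' : t⁻¹ * s * t ∈ A := by
    have := (mem_normalizer_iff.1 (inv_mem ht) s).1 hs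
    rwa [inv_inv] at this
  have hs1' : t⁻¹ * s * t ≠ 1 := fun h0 => hs1 (by
    calc s = t * (t⁻¹ * s * t) * t⁻¹ := by group
      _ = 1 := by rw [h0]; group)
  have hg' : t⁻¹ * g * t ∈ KK (t⁻¹ * s * t) := by
    have h6 := KK_conj (h := t⁻¹) hg
    rwa [inv_inv] at h6
  have h1 := hx _ hs' hs1' _ hg'
  calc g * (t * x * t⁻¹) = t * ((t⁻¹ * g * t) * x) * t⁻¹ := by group
    _ = t * x * t⁻¹ * g := by rw [h1]; group

end fr

/-- `T` is maximal among the 2-subgroups of `N(V i)` -/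
structure Mx (V : ι → Subgroup G) (i : ι) (T : Subgroup G) (v : G) : Prop where
  vV : v ∈ V i
  v1 : v ≠ 1
  T2 : IsPGroup 2 T
  TV : T ≤ normalizer (V i : Set G)
  Tv : ∀ t ∈ T, t * v = v * t
  qT : qz v ≤ T
  mx : ∀ A : Subgroup G, IsPGroup 2 A → T ≤ A → A ≤ normalizer (V i : Set G) → A ≤ T

namespace Mx

variable {i : ι} {T : Subgroup G} {v : G} (m : Mx V i T v)
include m

theorem le_T {A : Subgroup G} (hA : IsPGroup 2 A) (hTA : T ≤ normalizer (A : Set G))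
    (hAV : A ≤ normalizer (V i : Set G)) : A ≤ T := by
  have : Fact (Nat.Prime 2) := ⟨Nat.prime_two⟩
  have h1 : IsPGroup 2 (A ⊔ T : Subgroup G) := IsPGroup.to_sup_of_normal_left' hA m.T2 hTA
  exact le_sup_left.trans (m.mx _ h1 le_sup_right (sup_le hAV m.TV))

theorem conj_T {w t : G} (hw : w ∈ normalizer (T : Set G)) (ht : t ∈ T) : w⁻¹ * t * w ∈ T := by
  have := (mem_normalizer_iff.1 (inv_mem hw) t).1 ht
  rwa [inv_inv] at this

theorem T_act (h : Fr S V) {t x : G} (ht : t ∈ T) (hx : x ∈ V i) : t * x * t⁻¹ = x ∨ t * x * t⁻¹ = v * x := by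
  by_cases hx1 : x = 1
  · left; rw [hx1]; group
  have htv := m.Tv t ht
  by_cases hxv : v = x
  · left; rw [← hxv, htv, mul_inv_cancel_right]
  have h1 : t * x * t⁻¹ ∈ V i := conj_mem m.TV ht hx
  rcases h.cases4 m.vV hx m.v1 hx1 hxv h1 with h2 | h2 | h2 | h2
  · exact absurd (conj_eq_one_iff.1 h2) hx1
  · exfalso
    apply hxv
    have h3 : t * x = v * t := mul_inv_eq_iff_eq_mul.1 h2
    rw [← htv] at h3
    exact (mul_left_cancel h3).symm
  · exact Or.inl h2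
  · exact Or.inr h2

/-- the conjugates under `T` of the elements of `(V i)^w` -/
theorem T_act' (h : Fr S V) {w t x : G} (hw : w ∈ normalizer (T : Set G)) (hwv : w * v = v * w) (ht : t ∈ T)
    (hx : x ∈ V i) : t * (w * x * w⁻¹) * t⁻¹ = w * x * w⁻¹ ∨ t * (w * x * w⁻¹) * t⁻¹ = v * (w * x * w⁻¹) := by
  have e : t * (w * x * w⁻¹) * t⁻¹ = w * ((w⁻¹ * t * w) * x * (w⁻¹ * t * w)⁻¹) * w⁻¹ := by group
  rcases m.T_act h (m.conj_T hw ht) hx with h1 | h1
  · left; rw [e, h1]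
  · right; rw [e, h1]
    calc w * (v * x) * w⁻¹ = (w * v) * x * w⁻¹ := by group
      _ = v * (w * x * w⁻¹) := by rw [hwv]; group

end Mx

section main

variable (h : Fr S V) {i : ι} {T : Subgroup G} {v w : G} (m : Mx V i T v)
include h m

/-- some `t ∈ W_v` with `t x = v x t` for all `x ∈ V i`, `x ∉ {1, v}` -/
theorem exists_t : ∃ t ∈ KK v, ∀ x ∈ V i, x ≠ 1 → x ≠ v → t * x * t⁻¹ = v * x := by
  obtain ⟨b, hb, hb1, hvb⟩ := h.exists_other (i := i) v
  obtain ⟨t, ht, e⟩ := h.move m.vV hb m.v1 hb1 hvb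
  refine ⟨t, ht, fun x hx hx1 hxv => ?_⟩
  rcases h.cases4 m.vV hb m.v1 hb1 hvb hx with rfl | rfl | rfl | rfl
  · exact absurd rfl hx1
  · exact absurd rfl hxv
  · exact e
  · have h1 := conj_of_comm (Fr.KK_comm ht)
    calc t * (v * b) * t⁻¹ = (t * v * t⁻¹) * (t * b * t⁻¹) := by group
      _ = v * (v * b) := by rw [h1, e]

/-- **The element `k`.** -/
theorem exists_k (hw : w ∈ normalizer (T : Set G)) (hwv : w * v = v * w) (hwV : w ∉ normalizer (V i : Set G))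
    (hcomm : ∀ x ∈ V i, ∀ y ∈ V i, w * y * w⁻¹ * x = x * (w * y * w⁻¹))
    (hL : ∀ y ∈ V i, ∀ s ∈ V i, s ≠ 1 → s ≠ v → Lin (V i) s (w * y * w⁻¹)) :
    ∃ a ∈ V i, a ≠ 1 ∧ a ≠ v ∧ ∃ y ∈ V i, y ≠ 1 ∧ y ≠ v ∧ ∃ k, w * y * w⁻¹ = a * k ∧ k ≠ 1 ∧ k * k = 1 ∧
      (∀ t ∈ T, t * k = k * t) ∧ Cn (V i) k ∧ ∀ x ∈ V i, x * k = k * x := by
  obtain ⟨y, hy, hyV⟩ : ∃ y ∈ V i, w * y * w⁻¹ ∉ V i := by
    by_contra hcon
    push Not at hcon
    exact hwV (BTwo.mem_normalizer_of_conj hcon)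
  have hy1 : y ≠ 1 := by
    rintro rfl
    exact hyV (by rw [mul_one, mul_inv_cancel]; exact one_mem _)
  have hyv : y ≠ v := by
    rintro rfl
    exact hyV (by rw [hwv, mul_inv_cancel_right]; exact hy)
  obtain ⟨c, hc⟩ : ∃ c, c = w * y * w⁻¹ := ⟨_, rfl⟩
  have hcV : ∀ x ∈ V i, c * x = x * c := fun x hx => by rw [hc]; exact hcomm x hx y hy
  obtain ⟨b, hb, hb1, hvb⟩ := h.exists_other (i := i) v
  have hvb' : v * b ∈ V i := mul_mem m.vV hb
  have hbb := h.sq i b hb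
  have hvv := h.sq i v m.vV
  have hne1 : v * b ≠ 1 := fun h0 => hvb (by
    calc v = v * (b * b) := by rw [hbb, mul_one]
      _ = (v * b) * b := by group
      _ = b := by rw [h0, one_mul])
  have hne3 : v * b ≠ v := fun h0 => hb1 (mul_eq_left.1 h0)
  obtain ⟨a, ha, hac⟩ := exists_a h m.vV m.v1 hb hb1 hvb (by rw [hc]; exact hL y hy b hb hb1 (Ne.symm hvb))
    (by rw [hc]; exact hL y hy _ hvb' hne1 hne3) hcV
  -- `c` is moved by `W_v`
  have hmove : ¬ ∀ g ∈ KK v, g * c = c * g := by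
    intro h0
    obtain ⟨t, ht, e⟩ := exists_t h m
    have h1 : w * t * w⁻¹ ∈ KK v := by
      have := KK_conj (h := w) ht
      rwa [hwv, mul_inv_cancel_right] at this
    have h2 := conj_of_comm (h0 _ h1)
    have h3 : w * t * w⁻¹ * c * (w * t * w⁻¹)⁻¹ = v * c := by
      rw [hc]
      calc w * t * w⁻¹ * (w * y * w⁻¹) * (w * t * w⁻¹)⁻¹ = w * (t * y * t⁻¹) * w⁻¹ := by group
        _ = (w * v) * y * w⁻¹ := by rw [e y hy hy1 hyv]; group
        _ = v * (w * y * w⁻¹) := by rw [hwv]; group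
    rw [h2] at h3
    exact m.v1 (right_eq_mul.1 h3)
  have haa := h.sq i a ha
  have hcc : c * c = 1 := by
    rw [hc]
    calc w * y * w⁻¹ * (w * y * w⁻¹) = w * (y * y) * w⁻¹ := by group
      _ = 1 := by rw [h.sq i y hy]; group
  have hca : c * a = a * c := hcV a ha
  have hKv : ∀ x, x = 1 ∨ x = v → ∀ g ∈ KK v, g * x = x * g := by
    rintro x (rfl | rfl) g hg
    · simp
    · exact Fr.KK_comm hg
  have ha' : ¬ (a = 1 ∨ a = v) := by
    intro h0
    apply hmove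
    intro g hg
    have h1 : Commute g a := hKv a h0 g hg
    have h2 : Commute g (a * c) := hac v m.vV m.v1 g hg
    have e : c = a⁻¹ * (a * c) := by group
    rw [e]
    exact (h1.inv_right.mul_right h2).eq
  push Not at ha'
  refine ⟨a, ha, ha'.1, ha'.2, y, hy, hy1, hyv, a * c, ?_, ?_, ?_, ?_, hac, ?_⟩
  · rw [← hc, ← mul_assoc, haa, one_mul]
  · intro h0
    apply hyV
    rw [← hc]
    have : c = a := by
      calc c = (a * a) * c := by rw [haa, one_mul]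
        _ = a * (a * c) := by group
        _ = a := by rw [h0, mul_one]
    rw [this]; exact ha
  · calc a * c * (a * c) = a * (c * a) * c := by group
      _ = (a * a) * (c * c) := by rw [hca]; group
      _ = 1 := by rw [haa, hcc, one_mul]
  · intro t ht
    have h1 := m.T_act' h hw hwv ht hy
    rw [← hc] at h1
    have h2 := m.T_act h ht ha
    have e : t * (a * c) * t⁻¹ = (t * a * t⁻¹) * (t * c * t⁻¹) := by group
    have h3 : t * (a * c) * t⁻¹ = a * c ∨ t * (a * c) * t⁻¹ = v * (a * c) := by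
      have hcv : c * v = v * c := hcV v m.vV
      have hav : a * v = v * a := h.comm i i a ha v m.vV
      rcases h1 with h1 | h1 <;> rcases h2 with h2 | h2
      · left; rw [e, h1, h2]
      · right; rw [e, h1, h2]; group
      · right; rw [e, h1, h2]
        calc a * (v * c) = (a * v) * c := by group
          _ = v * (a * c) := by rw [hav]; group
      · left; rw [e, h1, h2]
        calc v * a * (v * c) = v * (a * v) * c := by group
          _ = (v * v) * (a * c) := by rw [hav]; group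
          _ = a * c := by rw [hvv, one_mul]
    rcases h3 with h3 | h3
    · exact comm_of_conj h3
    · exfalso
      have h4 := hac.conj (m.TV ht)
      rw [h3] at h4
      have h5 := h4.mul hac.inv
      rw [mul_inv_cancel_right] at h5
      exact m.v1 (eq_one_of_Cn h m.vV h5)
  · intro x hx
    have h1 : x * a = a * x := h.comm i i x hx a ha
    calc x * (a * c) = (x * a) * c := by group
      _ = a * (c * x) := by rw [h1, hcV x hx]; group
      _ = a * c * x := by group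

/-- **The 7-point case is impossible.** -/
theorem seven (hwv : w * v = v * w) {a y k : G} (ha : a ∈ V i) (ha1 : a ≠ 1) (hav : a ≠ v) (hy : y ∈ V i)
    (hy1 : y ≠ 1) (hyv : y ≠ v) (he : w * y * w⁻¹ = a * k) (hkk : k * k = 1)
    (hk : Cn (V i) k) (hkV : ∀ x ∈ V i, x * k = k * x) (h7 : Cn (V i) (w⁻¹ * (v * k) * w)) : False := by
  have haa := h.sq i a ha
  have hvv := h.sq i v m.vV
  have hva : v * a = a * v := h.comm i i v m.vV a ha
  have hak := hkV a ha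
  have hvk := hkV v m.vV
  -- `κ`
  obtain ⟨κ₀, hκ₀, hκv⟩ := h.move hy m.vV hy1 m.v1 hyv
  obtain ⟨κ, hκ⟩ : ∃ κ, κ = w * κ₀ * w⁻¹ := ⟨_, rfl⟩
  have hw' : w * v * w⁻¹ = v := by rw [hwv, mul_inv_cancel_right]
  have k1 : κ * v * κ⁻¹ = a * k * v := by
    have hw'' : w⁻¹ * v * w = v := by rw [mul_assoc, ← hwv, inv_mul_cancel_left]
    calc κ * v * κ⁻¹ = w * (κ₀ * (w⁻¹ * v * w) * κ₀⁻¹) * w⁻¹ := by rw [hκ]; group
      _ = (w * y * w⁻¹) * (w * v * w⁻¹) := by rw [hw'', hκv]; group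
      _ = a * k * v := by rw [he, hw']
  have k2 : κ * (a * k) * κ⁻¹ = a * k := by
    have h1 : κ₀ * y = y * κ₀ := Fr.KK_comm hκ₀
    rw [← he, hκ]
    calc w * κ₀ * w⁻¹ * (w * y * w⁻¹) * (w * κ₀ * w⁻¹)⁻¹ = w * (κ₀ * y) * κ₀⁻¹ * w⁻¹ := by group
      _ = w * y * w⁻¹ := by rw [h1]; group
  have k3 : κ * (v * k) * κ⁻¹ = v * k := by
    have h1 := h7 y hy hy1 κ₀ hκ₀
    rw [hκ]
    calc w * κ₀ * w⁻¹ * (v * k) * (w * κ₀ * w⁻¹)⁻¹ = w * (κ₀ * (w⁻¹ * (v * k) * w)) * κ₀⁻¹ * w⁻¹ := by group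
      _ = v * k := by rw [h1]; group
  have k4 : κ * k * κ⁻¹ = a := by
    have e1 : k = v * (v * k) := by rw [← mul_assoc, hvv, one_mul]
    calc κ * k * κ⁻¹ = κ * (v * (v * k)) * κ⁻¹ := by rw [← e1]
      _ = (κ * v * κ⁻¹) * (κ * (v * k) * κ⁻¹) := by group
      _ = a * k * v * (v * k) := by rw [k1, k3]
      _ = a * k * (v * v) * k := by group
      _ = a * (k * k) := by rw [hvv]; group
      _ = a := by rw [hkk, mul_one]
  have k5 : κ * a * κ⁻¹ = k := by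
    have e1 : a = (a * k) * k := by rw [mul_assoc, hkk, mul_one]
    calc κ * a * κ⁻¹ = κ * (a * k * k) * κ⁻¹ := by rw [← e1]
      _ = (κ * (a * k) * κ⁻¹) * (κ * k * κ⁻¹) := by group
      _ = a * k * a := by rw [k2, k4]
      _ = a * a * k := by rw [mul_assoc, ← hak, mul_assoc]
      _ = k := by rw [haa, one_mul]
  have k4' : κ⁻¹ * a * κ = k := by rw [← k4]; group
  have k5' : κ⁻¹ * k * κ = a := by rw [← k5]; group
  -- `g ∈ W_a` moves `v`
  obtain ⟨g, hg, hgv⟩ := h.move ha m.vV ha1 m.v1 hav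
  have hga : g * a = a * g := Fr.KK_comm hg
  have hgk : g * k = k * g := hk a ha ha1 g hg
  obtain ⟨g', hg'⟩ : ∃ g', g' = κ⁻¹ * g * κ := ⟨_, rfl⟩
  have hg'K : g' ∈ KK k := by
    have := KK_conj (h := κ⁻¹) hg
    rw [inv_inv, k4'] at this
    rwa [hg']
  have g1 : g' * v * g'⁻¹ = v * k := by
    calc g' * v * g'⁻¹ = κ⁻¹ * (g * (κ * v * κ⁻¹) * g⁻¹) * κ := by rw [hg']; group
      _ = κ⁻¹ * ((g * a * g⁻¹) * (g * k * g⁻¹) * (g * v * g⁻¹)) * κ := by rw [k1]; group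
      _ = κ⁻¹ * (a * k * (a * v)) * κ := by rw [conj_of_comm hga, conj_of_comm hgk, hgv]
      _ = κ⁻¹ * (a * (k * a) * v) * κ := by group
      _ = κ⁻¹ * ((a * a) * (k * v)) * κ := by rw [← hak]; group
      _ = κ⁻¹ * (v * k) * κ := by rw [haa, one_mul, hvk]
      _ = v * k := by nth_rewrite 1 [← k3]; group
  have g2 : g' * a * g'⁻¹ = a := by
    calc g' * a * g'⁻¹ = κ⁻¹ * (g * (κ * a * κ⁻¹) * g⁻¹) * κ := by rw [hg']; group
      _ = κ⁻¹ * k * κ := by rw [k5, conj_of_comm hgk]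
      _ = a := k5'
  have g3 : g' * k * g'⁻¹ = k := conj_of_comm (Fr.KK_comm hg'K)
  -- `t ∈ W_v`
  obtain ⟨t, ht, hta⟩ := h.move m.vV ha m.v1 ha1 (Ne.symm hav)
  have htv : t * v = v * t := Fr.KK_comm ht
  have htk : t * k = k * t := hk v m.vV m.v1 t ht
  obtain ⟨l, hl⟩ : ∃ l, l = t * g' * t⁻¹ := ⟨_, rfl⟩
  have hlK : l ∈ KK k := by
    have := KK_conj (h := t) hg'K
    rw [conj_of_comm htk] at this
    rwa [hl]
  have ht' : t⁻¹ * a * t = v * a := by
    have h1 : t * (v * a) * t⁻¹ = a := by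
      calc t * (v * a) * t⁻¹ = (t * v * t⁻¹) * (t * a * t⁻¹) := by group
        _ = v * (v * a) := by rw [conj_of_comm htv, hta]
        _ = a := by rw [← mul_assoc, hvv, one_mul]
    calc t⁻¹ * a * t = t⁻¹ * (t * (v * a) * t⁻¹) * t := by rw [h1]
      _ = v * a := by group
  have htv' : t⁻¹ * v * t = v := by rw [mul_assoc, ← htv, inv_mul_cancel_left]
  have l1 : l * v * l⁻¹ = v * k := by
    calc l * v * l⁻¹ = t * (g' * (t⁻¹ * v * t) * g'⁻¹) * t⁻¹ := by rw [hl]; group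
      _ = (t * v * t⁻¹) * (t * k * t⁻¹) := by rw [htv', g1]; group
      _ = v * k := by rw [conj_of_comm htv, conj_of_comm htk]
  have l2 : l * a * l⁻¹ = a * k := by
    calc l * a * l⁻¹ = t * (g' * (t⁻¹ * a * t) * g'⁻¹) * t⁻¹ := by rw [hl]; group
      _ = t * ((g' * v * g'⁻¹) * (g' * a * g'⁻¹)) * t⁻¹ := by rw [ht']; group
      _ = (t * v * t⁻¹) * (t * k * t⁻¹) * (t * a * t⁻¹) := by rw [g1, g2]; group
      _ = v * k * (v * a) := by rw [conj_of_comm htv, conj_of_comm htk, hta]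
      _ = v * (k * v) * a := by group
      _ = (v * v) * (k * a) := by rw [← hvk]; group
      _ = a * k := by rw [hvv, one_mul, hak]
  -- `q = g'⁻¹ l`
  obtain ⟨q, hq⟩ : ∃ q, q = g'⁻¹ * l := ⟨_, rfl⟩
  have hqK : q ∈ KK k := by rw [hq]; exact mul_mem (inv_mem hg'K) hlK
  have q2 : q * a * q⁻¹ = a * k := by
    have e2 : g'⁻¹ * a * g' = a := by
      calc g'⁻¹ * a * g' = g'⁻¹ * (g' * a * g'⁻¹) * g' := by rw [g2]
        _ = a := by group
    have e3 : g'⁻¹ * k * g' = k := by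
      calc g'⁻¹ * k * g' = g'⁻¹ * (g' * k * g'⁻¹) * g' := by rw [g3]
        _ = k := by group
    calc q * a * q⁻¹ = g'⁻¹ * (l * a * l⁻¹) * g' := by rw [hq]; group
      _ = (g'⁻¹ * a * g') * (g'⁻¹ * k * g') := by rw [l2]; group
      _ = a * k := by rw [e2, e3]
  have hr : κ * q * κ⁻¹ ∈ KK a := by
    have := KK_conj (h := κ) hqK
    rwa [k4] at this
  have h8 := conj_of_comm (hk a ha ha1 _ hr)
  have h9 : κ * q * κ⁻¹ * k * (κ * q * κ⁻¹)⁻¹ = k * a := by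
    calc κ * q * κ⁻¹ * k * (κ * q * κ⁻¹)⁻¹ = κ * (q * (κ⁻¹ * k * κ) * q⁻¹) * κ⁻¹ := by group
      _ = (κ * a * κ⁻¹) * (κ * k * κ⁻¹) := by rw [k5', q2]; group
      _ = k * a := by rw [k5, k4]
  rw [h8] at h9
  exact ha1 (left_eq_mul.1 h9)

/-- **The element `γ`.** -/
theorem exists_gamma (hwv : w * v = v * w) {a y k : G} (ha : a ∈ V i) (ha1 : a ≠ 1) (hav : a ≠ v) (hy : y ∈ V i)
    (hy1 : y ≠ 1) (hyv : y ≠ v) (he : w * y * w⁻¹ = a * k) (hkk : k * k = 1)
    (hk : Cn (V i) k) (hkV : ∀ x ∈ V i, x * k = k * x)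
    (h7 : Cn (V i) (w⁻¹ * k * w) ∨ Cn (V i) (w⁻¹ * (v * k) * w)) :
    ∃ g, g * v * g⁻¹ = v * k ∧ g * k * g⁻¹ = k ∧ g ∈ normalizer ((V i ⊔ zpowers k : Subgroup G) : Set G) := by
  replace h7 := h7.resolve_right fun h0 => seven h m hwv ha ha1 hav hy hy1 hyv he hkk hk hkV h0
  have haa := h.sq i a ha
  have hvv := h.sq i v m.vV
  have hva : v * a = a * v := h.comm i i v m.vV a ha
  have hak := hkV a ha
  have hvk := hkV v m.vV
  obtain ⟨κ₀, hκ₀, hκv⟩ := h.move hy m.vV hy1 m.v1 hyv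
  obtain ⟨κ, hκ⟩ : ∃ κ, κ = w * κ₀ * w⁻¹ := ⟨_, rfl⟩
  have hw' : w * v * w⁻¹ = v := by rw [hwv, mul_inv_cancel_right]
  have k1 : κ * v * κ⁻¹ = a * k * v := by
    have hw'' : w⁻¹ * v * w = v := by rw [mul_assoc, ← hwv, inv_mul_cancel_left]
    calc κ * v * κ⁻¹ = w * (κ₀ * (w⁻¹ * v * w) * κ₀⁻¹) * w⁻¹ := by rw [hκ]; group
      _ = (w * y * w⁻¹) * (w * v * w⁻¹) := by rw [hw'', hκv]; group
      _ = a * k * v := by rw [he, hw']
  have k2 : κ * (a * k) * κ⁻¹ = a * k := by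
    have h1 : κ₀ * y = y * κ₀ := Fr.KK_comm hκ₀
    rw [← he, hκ]
    calc w * κ₀ * w⁻¹ * (w * y * w⁻¹) * (w * κ₀ * w⁻¹)⁻¹ = w * (κ₀ * y) * κ₀⁻¹ * w⁻¹ := by group
      _ = w * y * w⁻¹ := by rw [h1]; group
  have k3 : κ * k * κ⁻¹ = k := by
    have h1 := h7 y hy hy1 κ₀ hκ₀
    rw [hκ]
    calc w * κ₀ * w⁻¹ * k * (w * κ₀ * w⁻¹)⁻¹ = w * (κ₀ * (w⁻¹ * k * w)) * κ₀⁻¹ * w⁻¹ := by group
      _ = k := by rw [h1]; group
  have k4 : κ * a * κ⁻¹ = a := by
    calc κ * a * κ⁻¹ = (κ * (a * k) * κ⁻¹) * (κ * k * κ⁻¹)⁻¹ := by group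
      _ = a := by rw [k2, k3]; group
  obtain ⟨g, hg, hgv⟩ := h.move ha m.vV ha1 m.v1 hav
  have hga := conj_of_comm (Fr.KK_comm hg)
  have hgk := conj_of_comm (hk a ha ha1 g hg)
  have hF1 : V i ≤ V i ⊔ zpowers k := le_sup_left
  have hF2 : k ∈ V i ⊔ zpowers k := mem_sup_right (mem_zpowers k)
  -- an element which maps `v`, `a`, `k` into `F` normalises `F`
  have norm : ∀ r : G, r * v * r⁻¹ ∈ V i ⊔ zpowers k → r * a * r⁻¹ ∈ V i ⊔ zpowers k →
      r * k * r⁻¹ ∈ V i ⊔ zpowers k → r ∈ normalizer ((V i ⊔ zpowers k : Subgroup G) : Set G) := by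
    intro r h1 h2 h3
    refine BTwo.mem_normalizer_of_conj fun x hx => ?_
    have h4 : V i ⊔ zpowers k ≤ (V i ⊔ zpowers k).comap (MulAut.conj r).toMonoidHom := by
      refine sup_le (fun z hz => ?_) ?_
      · change r * z * r⁻¹ ∈ V i ⊔ zpowers k
        rcases h.cases4 m.vV ha m.v1 ha1 (Ne.symm hav) hz with rfl | rfl | rfl | rfl
        · rw [mul_one, mul_inv_cancel]; exact one_mem _
        · exact h1
        · exact h2
        · have e : r * (v * a) * r⁻¹ = (r * v * r⁻¹) * (r * a * r⁻¹) := by group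
          rw [e]; exact mul_mem h1 h2
      · rw [zpowers_le]; exact h3
    exact h4 hx
  have hκn : κ ∈ normalizer ((V i ⊔ zpowers k : Subgroup G) : Set G) := by
    refine norm κ ?_ ?_ ?_
    · rw [k1]; exact mul_mem (mul_mem (hF1 ha) hF2) (hF1 m.vV)
    · rw [k4]; exact hF1 ha
    · rw [k3]; exact hF2
  have hgn : g ∈ normalizer ((V i ⊔ zpowers k : Subgroup G) : Set G) := by
    refine norm g ?_ ?_ ?_
    · rw [hgv]; exact mul_mem (hF1 ha) (hF1 m.vV)
    · rw [hga]; exact hF1 ha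
    · rw [hgk]; exact hF2
  refine ⟨g * κ, ?_, ?_, mul_mem hgn hκn⟩
  · calc g * κ * v * (g * κ)⁻¹ = g * (κ * v * κ⁻¹) * g⁻¹ := by group
      _ = (g * a * g⁻¹) * (g * k * g⁻¹) * (g * v * g⁻¹) := by rw [k1]; group
      _ = a * k * (a * v) := by rw [hga, hgk, hgv]
      _ = a * (k * a) * v := by group
      _ = (a * a) * (k * v) := by rw [← hak]; group
      _ = v * k := by rw [haa, one_mul, hvk]
  · calc g * κ * k * (g * κ)⁻¹ = g * (κ * k * κ⁻¹) * g⁻¹ := by group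
      _ = k := by rw [k3, hgk]

end main

end Cfsg.Agent.Omega.IId.NV.BigD.Node

end

section


/-!
# CvBig, `q = 2`, CASE 2a (bb OMEGA 20837, (2) (A)): the conjugate `(V i)^w` is linear

`x ≠ 1` is centralised by `T`, `w` and `⟨W_s⟩`, `V i ≤ Z(O₂(C(x)))`: 994's #17699 (2), (3).
-/

set_option autoImplicit false
set_option linter.unusedSectionVars false

namespace Cfsg.Agent.Omega.IId.NV.BigD.Node

open Subgroup Cfsg
open Cfsg.Agent.ZN (o2 zc)
open Cfsg.Agent.MinSimple.VModule (le_o2 le_normalizer_o2 mem_zc o2_isPGroup o2_le)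
open Cfsg.Agent.Omega.IId.Big
open Triangle (KK KK_conj KK_le_o2 mem_cent mem_KK mem_zpowers_iff_of_sq cent_conj o2_cent_conj)

universe u

variable {G : Type u} [Group G] [Finite G] {ι : Type} {S : Subgroup G} {V : ι → Subgroup G}

omit [Finite G] in
theorem mem_qz_conj {g s y : G} (hy : y ∈ qz s) : g * y * g⁻¹ ∈ qz (g * s * g⁻¹) := by
  show g * y * g⁻¹ ∈ o2 (centralizer ({g * s * g⁻¹} : Set G))
  rw [o2_cent_conj]
  exact ⟨y, hy, rfl⟩

omit [Finite G] in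
theorem mem_qz_conj' {g s y : G} (hy : y ∈ qz (g * s * g⁻¹)) : g⁻¹ * y * g ∈ qz s := by
  have h1 := mem_qz_conj (g := g⁻¹) hy
  have e : g⁻¹ * (g * s * g⁻¹) * g⁻¹⁻¹ = s := by group
  rwa [e, inv_inv] at h1

omit [Finite G] in
theorem cent_norm {A B : Subgroup G} (h : A ≤ normalizer (B : Set G)) :
    A ≤ normalizer (centralizer (B : Set G) : Set G) := by
  refine norm_of fun a ha x hx => ?_
  rw [mem_centralizer_iff] at hx ⊢
  intro b hb
  have h1 : a⁻¹ * b * a ∈ B := by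
    have := (mem_normalizer_iff.1 (inv_mem (h ha)) b).1 hb
    rwa [inv_inv] at this
  have h2 := hx _ h1
  calc b * (a * x * a⁻¹) = a * ((a⁻¹ * b * a) * x) * a⁻¹ := by group
    _ = a * x * a⁻¹ * b := by rw [h2]; group

omit [Finite G] in
theorem inf_norm {A B C : Subgroup G} (h : A ≤ normalizer (B : Set G)) (h' : A ≤ normalizer (C : Set G)) :
    A ≤ normalizer ((B ⊓ C : Subgroup G) : Set G) :=
  norm_of fun _ ha _ hx => ⟨conj_mem h ha hx.1, conj_mem h' ha hx.2⟩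

section gen

variable (h : Fr S V) (i : ι)
include h

/-- `⟨W_s : s ∈ V_i#⟩ ≤ N(V_i)` -/
theorem xx_norm : Big.XX V i ≤ normalizer (V i : Set G) := by
  refine XX_le fun v hv hv1 => norm_of fun g hg x hx => ?_
  rcases h.KK_act hv hg (h.VQ i i v hv hv1 hx) with h1 | h1
  · rw [h1]; exact hx
  · rw [h1]; exact mul_mem hv hx

variable {i}

/-- `⟨W_s : s ∈ V_i#⟩` is transitive on `V_i#` -/
theorem xx_trans {v w : G} (hv : v ∈ V i) (hw : w ∈ V i) (hv1 : v ≠ 1) (hw1 : w ≠ 1) :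
    ∃ d ∈ Big.XX V i, d * v * d⁻¹ = w := by
  by_cases hvw : v = w
  · exact ⟨1, one_mem _, by rw [hvw]; group⟩
  have h2 := h.sq i v hv
  have h1 : w * v ≠ 1 := fun h0 => hvw (by
    have : v = w⁻¹ := eq_inv_of_mul_eq_one_right h0
    rw [this]
    exact inv_eq_of_mul_eq_one_left (h.sq i w hw))
  have h3 : w * v ≠ v := fun h0 => hw1 (mul_eq_right.1 h0)
  obtain ⟨g, hg, e⟩ := h.move (mul_mem hw hv) hv h1 hv1 h3
  refine ⟨g, KK_le_XX (mul_mem hw hv) h1 hg, ?_⟩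
  rw [e, mul_assoc, h2, mul_one]

/-- `x ∈ Z(O₂(C(v)))` centralised by `⟨W_s⟩` lies in `Z(O₂(C(s)))` -/
theorem mem_qz_of {v s x : G} (hv : v ∈ V i) (hv1 : v ≠ 1) (hs : s ∈ V i) (hs1 : s ≠ 1) (hx : Cn (V i) x)
    (h1 : x ∈ qz v) (h2 : ∀ q ∈ qz v, x * q = q * x) : x ∈ qz s ∧ ∀ q ∈ qz s, x * q = q * x := by
  obtain ⟨e, he, hes⟩ := xx_trans h hv hs hv1 hs1
  have hex : e * x * e⁻¹ = x := conj_of_comm (cent_of_XX hx e he)
  refine ⟨?_, fun q hq => ?_⟩
  · have h3 := mem_qz_conj (g := e) h1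
    rwa [hex, hes] at h3
  · rw [← hes] at hq
    have h3 := h2 _ (mem_qz_conj' hq)
    calc x * q = e * x * e⁻¹ * q := by rw [hex]
      _ = e * (x * (e⁻¹ * q * e)) * e⁻¹ := by group
      _ = q * (e * x * e⁻¹) := by rw [h3]; group
      _ = q * x := by rw [hex]

end gen

namespace Mx

variable {i : ι} {T : Subgroup G} {v : G} (m : Mx V i T v)
include m

/-- `O₂(C(s)) ∩ C(V i) ≤ T` -/
theorem qV_T {s : G} (hs : s ∈ V i) : qz s ⊓ centralizer (V i : Set G) ≤ T := by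
  have h1 : o2 (centralizer (V i : Set G)) ≤ T := by
    refine m.le_T (o2_isPGroup _) (norm_o2 (cent_norm m.TV)) ?_
    exact (o2_le _).trans (centralizer_le_normalizer _)
  refine le_trans ?_ h1
  refine le_o2 inf_le_right ((o2_isPGroup _).to_le inf_le_left) (inf_norm ?_ le_normalizer)
  refine le_trans (fun x hx => ?_) (le_normalizer_o2 _)
  exact mem_cent.2 (mem_centralizer_iff.1 hx s hs).symm

end Mx

section main

variable (h : Fr S V) {i : ι} {T : Subgroup G} {v w x : G} (m : Mx V i T v)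
include h m

theorem x_mem_qz (hxT : ∀ t ∈ T, t * x = x * t) : x ∈ qz v ∧ ∀ q ∈ qz v, x * q = q * x := by
  have h1 : ∀ q ∈ qz v, x * q = q * x := fun q hq => (hxT q (m.qT hq)).symm
  have h2 : v ∈ T := m.qT (h.VQ i i v m.vV m.v1 m.vV)
  exact ⟨h.c2 i v m.vV m.v1 ⟨mem_cent.2 (hxT v h2).symm, mem_centralizer_iff.2 fun q hq => (h1 q hq).symm⟩, h1⟩

/-- **#17699 (2), (3).** -/
theorem lin_half (hxT : ∀ t ∈ T, t * x = x * t) (hxw : w * x = x * w) (hxC : Cn (V i) x)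
    (hw : w ∈ normalizer (T : Set G)) (hwv : w * v = v * w) (hVx : V i ≤ qz x)
    (hVx' : ∀ y ∈ V i, ∀ q ∈ qz x, y * q = q * y) :
    (∀ z ∈ V i, ∀ y ∈ V i, w * y * w⁻¹ * z = z * (w * y * w⁻¹)) ∧
      ∀ y ∈ V i, ∀ s ∈ V i, s ≠ 1 → s ≠ v → Lin (V i) s (w * y * w⁻¹) := by
  have hwx : w ∈ cz x := mem_cent.2 hxw
  have hcx : ∀ y ∈ V i, w * y * w⁻¹ ∈ qz x := fun y hy => conj_mem (le_normalizer_o2 _) hwx (hVx hy)
  have hcomm : ∀ z ∈ V i, ∀ y ∈ V i, w * y * w⁻¹ * z = z * (w * y * w⁻¹) :=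
    fun z hz y hy => (hVx' z hz _ (hcx y hy)).symm
  refine ⟨hcomm, fun y hy s hs hs1 hsv => ?_⟩
  obtain ⟨c, hc⟩ : ∃ c, c = w * y * w⁻¹ := ⟨_, rfl⟩
  have hcV : ∀ z ∈ V i, c * z = z * c := fun z hz => by rw [hc]; exact hcomm z hz y hy
  have hcx' : c ∈ qz x := by rw [hc]; exact hcx y hy
  have hact : ∀ t ∈ T, t * c * t⁻¹ = c ∨ t * c * t⁻¹ = v * c := fun t ht => by
    rw [hc]; exact m.T_act' h hw hwv ht hy
  rw [← hc]
  obtain ⟨hxv, hxv'⟩ := x_mem_qz h m hxT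
  obtain ⟨hxs, hxs'⟩ := mem_qz_of h m.vV m.v1 hs hs1 hxC hxv hxv'
  -- `A = ⟨x^{C(s)}⟩`
  obtain ⟨A, hA⟩ : ∃ A, A = cl (zpowers x) (cz s) := ⟨_, rfl⟩
  have hAq : A ≤ qz s ⊓ centralizer (qz s : Set G) := by
    rw [hA]
    refine cl_le fun g hg a ha => ?_
    have h1 : zpowers x ≤ qz s ⊓ centralizer (qz s : Set G) := by
      rw [zpowers_le]
      exact ⟨hxs, mem_centralizer_iff.2 fun q hq => (hxs' q hq).symm⟩
    exact conj_mem (inf_norm (le_normalizer_o2 _) (cent_norm (le_normalizer_o2 _))) hg (h1 ha)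
  have hAn : cz s ≤ normalizer (A : Set G) := by rw [hA]; exact cl_norm
  have hxA : x ∈ A := by rw [hA]; exact le_cl (mem_zpowers x)
  have hVs : V i ≤ qz s := h.VQ i i s hs hs1
  have hAT : A ≤ T := fun a ha => m.qV_T hs ⟨(hAq ha).1, mem_centralizer_iff.2 fun z hz =>
    mem_centralizer_iff.1 (hAq ha).2 z (hVs hz)⟩
  have hvA : v ∉ A := by
    intro h0
    obtain ⟨t, ht, h6⟩ := h.move hs m.vV hs1 m.v1 hsv
    have h7 := mem_centralizer_iff.1 (hAq h0).2 t (h.KK_le_q hs hs1 ht)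
    rw [h7, mul_inv_cancel_right] at h6
    exact hs1 (right_eq_mul.1 h6)
  have hcs : c ∈ cz s := mem_cent.2 (hcV s hs)
  have hcA : ∀ a ∈ A, a * c = c * a := by
    intro a ha
    rcases hact a (hAT ha) with h1 | h1
    · exact comm_of_conj h1
    · exfalso
      apply hvA
      have h2 : v = a * (c * a⁻¹ * c⁻¹) := by
        calc v = (v * c) * c⁻¹ := by group
          _ = a * (c * a⁻¹ * c⁻¹) := by rw [← h1]; group
      rw [h2]
      exact mul_mem ha (conj_mem hAn hcs (inv_mem ha))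
  -- `c ∈ O₂(C(s))`
  have hcq : c ∈ qz s := by
    have hK : cz s ⊓ centralizer (A : Set G) ≤ cz x := fun z hz =>
      mem_cent.2 (mem_centralizer_iff.1 hz.2 x hxA).symm
    have h1 : (cz s ⊓ centralizer (A : Set G)) ⊓ qz x ≤ qz s := by
      refine le_o2_of (C := cz s ⊓ centralizer (A : Set G)) ((o2_isPGroup _).to_le inf_le_right) inf_le_left
        (inf_norm le_normalizer (hK.trans (le_normalizer_o2 _))) inf_le_left
        (inf_norm le_normalizer (cent_norm hAn))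
    exact h1 ⟨⟨hcs, mem_centralizer_iff.2 hcA⟩, hcx'⟩
  refine ⟨hcq, fun r hr hrV => ?_⟩
  have hrT : r ∈ T := m.qV_T hs ⟨h.KK_le_q hs hs1 hr, mem_centralizer_iff.2 fun z hz => (hrV z hz).symm⟩
  rcases hact r hrT with h1 | h1
  · exact comm_of_conj h1
  · exfalso
    rcases h.KK_act hs hr hcq with h2 | h2
    · rw [h1] at h2
      exact m.v1 (mul_eq_right.1 h2)
    · rw [h1] at h2
      exact hsv (mul_right_cancel h2).symm

end main

end Cfsg.Agent.Omega.IId.NV.BigD.Node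

end
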