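import Cfsg.Agent.Mrg.Omega.ThmC.Of
import Cfsg.Agent.Mrg.Omega.IId.Sup
import Cfsg.Agent.Mrg.Omega.ThmC.TwoOf
import Mathlib

section


/-!
# WrBig, `q = 2`: THEOREM C and #15785 (a) for the natural factors

`M : NatK F S P (zl S P) ⊥ k`, `|F| = 2`, `CC M` (THEOREM C).

* `o2_le_stab` : `O₂(C_G(v)) ≤ N_S(V_i)`, it normalises all factors (`v ∈ line M i`, #15785 (a));
* `qz_comm` : `O₂(C_G(v))` centralises `fac M j`, `1 ≠ v ∈ fac M i`, `j ≠ i`;
* `zl_le_KK` : `V ≤ KK v ≤ O₂(C_G(v))` for `1 ≠ v ∈ fac M i`;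
* `cz_char2`, `exists_P_conj`;
* `exists_move`, `exists_part`, `sylow_cent` : the partner in a pair in normal position.
-/

set_option autoImplicit false
set_option linter.unusedSectionVars false

namespace Cfsg.Agent.Omega.IId.Big.Supply

open Subgroup Pointwise Cfsg Cfsg.Agent.ZN Cfsg.Agent.ZN.ChoiceBase
open Cfsg.Agent.Omega.MinPar Cfsg.Agent.Omega.FFThm Cfsg.Agent.Omega.FrameMulti
open Cfsg.Agent.MinSimple.VModule (mem_zc)
open Triangle (KK KK_conj KK_le_o2 mem_cent mem_KK mem_zpowers_iff_of_sq cent_conj o2_cent_conj)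

universe u

local notation "cz" v:max => centralizer ({v} : Set _)
local notation "qz" v:max => ZN.o2 (centralizer ({v} : Set _))

variable {G : Type u} [Group G] [Finite G] {F : Type} [Field F] [Finite F] [CharP F 2] {S : Sylow 2 G}
  {P : Subgroup G} {k : ℕ} {M : NatK F (S : Subgroup G) P (zl (S : Subgroup G) P) ⊥ k}

/-- every `1 ≠ v ∈ fac M i` is conjugate under `grp M {i}` to the point `v₀` of `line M i` -/
theorem exists_line_conj {i : Fin k} {v v₀ : G} (hv : v ∈ fac M i) (hv1 : v ≠ 1) (hv₀ : v₀ ∈ line M i)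
    (hv₀1 : v₀ ≠ 1) : ∃ g ∈ grp M {i}, g * v₀ * g⁻¹ = v :=
  exists_grp M (line_le M i hv₀) hv hv₀1 hv1

/-- THEOREM C at the points of the line -/
theorem qz_comm_line (hC : CC M) (hF : Nat.card F = 2) {i j : Fin k} (hij : j ≠ i) {v q x : G}
    (hv : v ∈ line M i) (hv1 : v ≠ 1) (hq : q ∈ qz v) (hx : x ∈ fac M j) : q * x = x * q := by
  have h1 := hC i j hij hx
  rw [normalizer_line_eq M hF hv hv1] at h1
  exact mem_centralizer_iff.1 h1 q hq

/-- THEOREM C at all points of the factor -/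
theorem qz_comm (hC : CC M) (hF : Nat.card F = 2) {i j : Fin k} (hij : j ≠ i) {v q x : G}
    (hv : v ∈ fac M i) (hv1 : v ≠ 1) (hq : q ∈ qz v) (hx : x ∈ fac M j) : q * x = x * q := by
  obtain ⟨v₀, hv₀, hv₀1⟩ := exists_line M i
  obtain ⟨g, hg, hgv⟩ := exists_line_conj hv hv1 hv₀ hv₀1
  have hgi : g⁻¹ * v * g⁻¹⁻¹ = v₀ := by rw [← hgv]; group
  have h1 : g⁻¹ * q * g ∈ qz v₀ := by
    have h0 : g⁻¹ * q * g⁻¹⁻¹ ∈ qz (g⁻¹ * v * g⁻¹⁻¹) := by
      rw [o2_cent_conj]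
      exact ⟨q, hq, rfl⟩
    rwa [hgi, inv_inv] at h0
  have h2 : g * x = x * g := grp_comm M (Set.disjoint_singleton.2 (Ne.symm hij)) hg hx
  have h3 := qz_comm_line hC hF hij hv₀ hv₀1 h1 hx
  have h4 : g⁻¹ * x * g = x := by
    calc g⁻¹ * x * g = g⁻¹ * (x * g) := by group
      _ = x := by rw [← h2]; group
  calc q * x = g * ((g⁻¹ * q * g) * (g⁻¹ * x * g)) * g⁻¹ := by group
    _ = g * (x * (g⁻¹ * q * g)) * g⁻¹ := by rw [h4, h3]
    _ = (g * x) * g⁻¹ * q := by group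
    _ = x * q := by rw [h2]; group

/-- **#15785 (a)**: `O₂(C_G(v)) ≤ N_S(V_i)` and it normalises all factors. -/
theorem o2_le_stab (hP : IsParS (S : Subgroup G) P) (hC : CC M)
    (hF : Nat.card F = 2) {i : Fin k} {v : G} (hv : v ∈ line M i) (hv1 : v ≠ 1) :
    qz v ≤ stab M i ∧ ∀ l, qz v ≤ normalizer (fac M l : Set G) := by
  have hSP : (S : Subgroup G) ≤ P := hP.isLoc.le
  obtain ⟨h1, h2⟩ := seven_id (V := fac M) S
    (fun i l hil v hv hv1 q hq => mem_centralizer_iff.2 fun x hx =>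
      (qz_comm hC hF hil hv hv1 hq hx).symm)
    (fun s hs i => ⟨_, conj_fac M (hSP hs) i⟩) (fun i j => exists_trans M hSP i j) (line_le M i hv) hv1
    (fun s hs hsi => mem_cent.2 (stab_comm_line M hSP hF hv
      ⟨hs, (MinSimple.Geo.mem_normalizer_iff_cj).2 hsi⟩))
  exact ⟨le_inf h1 (h2 i), h2⟩

variable (M) in
theorem fac_le_iSup : zl (S : Subgroup G) P ≤ ⨆ l, fac M l := by
  have h := ThmC.TwoOf.part_le_iSup M Finset.univ
  rwa [Finset.coe_univ, part_univ] at h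

/-- `V ≤ KK v`, `1 ≠ v ∈ line M i` -/
theorem zl_le_KK_line (hP : IsParS (S : Subgroup G) P) (hC : CC M)
    (hF : Nat.card F = 2) {i : Fin k} {v : G} (hv : v ∈ line M i) (hv1 : v ≠ 1) :
    zl (S : Subgroup G) P ≤ KK v := by
  have hSP : (S : Subgroup G) ≤ P := hP.isLoc.le
  refine (fac_le_iSup M).trans (iSup_le fun l a ha => ?_)
  refine mem_KK.2 ⟨comm M ha.1 (line_le M i hv).1, fun x hx => ?_⟩
  by_cases hl : l = i
  · subst hl
    rw [← line_eq_zpowers M hF hv hv1]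
    exact comm_mem_line M hSP hF ha ((o2_le_stab hP hC hF hv hv1).1 hx)
  · have h1 := qz_comm_line hC hF hl hv hv1 hx ha
    have h2 : a * x * a⁻¹ * x⁻¹ = 1 := by rw [← h1]; group
    rw [h2]
    exact one_mem _

/-- `V ≤ KK v` for all `1 ≠ v ∈ fac M i` -/
theorem zl_le_KK (hP : IsParS (S : Subgroup G) P) (hC : CC M)
    (hF : Nat.card F = 2) {i : Fin k} {v : G} (hv : v ∈ fac M i) (hv1 : v ≠ 1) :
    zl (S : Subgroup G) P ≤ KK v := by
  obtain ⟨v₀, hv₀, hv₀1⟩ := exists_line M i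
  obtain ⟨g, hg, hgv⟩ := exists_line_conj hv hv1 hv₀ hv₀1
  intro x hx
  have h1 := zl_le_KK_line hP hC hF hv₀ hv₀1 (cj_mem' (grp_le M _ hg) hx)
  have h2 := KK_conj (h := g) h1
  have e : g * (g⁻¹ * x * g) * g⁻¹ = x := by group
  rwa [hgv, e] at h2

/-- `C_v` has characteristic 2 -/
theorem cz_char2 (hc : IsCharacteristicTwoType G) {v : G} (hv : v * v = 1) (hv1 : v ≠ 1) :
    cz v ⊓ centralizer (qz v : Set G) ≤ qz v := by
  have h2 : IsPGroup 2 (zpowers v) := by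
    rintro ⟨x, hx⟩
    rcases (mem_zpowers_iff_of_sq hv).1 hx with rfl | rfl
    · exact ⟨0, Subtype.ext (by simp)⟩
    · exact ⟨1, Subtype.ext (by simpa [pow_two] using hv)⟩
  have h3 : zpowers v ≠ ⊥ := by
    rw [Ne, zpowers_eq_bot]
    exact hv1
  have h4 : normalizer (zpowers v : Set G) = cz v := by
    ext x
    rw [mem_cent]
    constructor
    · intro hx
      have h5 := (mem_normalizer_iff.1 hx v).1 (mem_zpowers v)
      rcases (mem_zpowers_iff_of_sq hv).1 h5 with h6 | h6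
      · exfalso
        apply hv1
        calc v = x⁻¹ * (x * v * x⁻¹) * x := by group
          _ = 1 := by rw [h6]; group
      · exact mul_inv_eq_iff_eq_mul.1 h6
    · intro hx
      refine (Two.le_normalizer_of (K := centralizer ({v} : Set G)) (V := zpowers v) ?_) (mem_cent.2 hx)
      intro a ha b hb
      rcases (mem_zpowers_iff_of_sq hv).1 hb with rfl | rfl
      · rw [mul_one, mul_inv_cancel]
        exact one_mem _
      · rw [mem_cent.1 ha, mul_inv_cancel_right]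
        exact mem_zpowers _
  have h5 := MinSimple.Basic.char2_normalizer hc h2 h3
  rw [h4] at h5
  exact h5

omit [Finite G] in
/-- the elements of the factors are involutions -/
theorem fac_sq {i : Fin k} {v : G} (hv : v ∈ fac M i) : v * v = 1 := sq M hv.1

/-- the conjugacy of all points of all factors under `P` -/
theorem exists_P_conj (hSP : (S : Subgroup G) ≤ P) {i j : Fin k} {v w : G} (hv : v ∈ fac M i) (hv1 : v ≠ 1)
    (hw : w ∈ fac M j) (hw1 : w ≠ 1) :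
    ∃ g ∈ P, g * v * g⁻¹ = w ∧ ∀ x ∈ fac M i, g * x * g⁻¹ ∈ fac M j := by
  obtain ⟨s, hs, h1⟩ := exists_trans M hSP i j
  have h2 : ∀ x ∈ fac M i, s * x * s⁻¹ ∈ fac M j := fun x hx => by
    rw [← h1]
    exact ⟨x, hx, rfl⟩
  have h3 : s * v * s⁻¹ ≠ 1 := fun h0 => hv1 (by
    calc v = s⁻¹ * (s * v * s⁻¹) * s := by group
      _ = 1 := by rw [h0]; group)
  obtain ⟨g, hg, hgw⟩ := exists_grp M (h2 v hv) hw h3 hw1
  refine ⟨g * s, mul_mem (grp_le M _ hg) (hSP hs), ?_, fun x hx => ?_⟩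
  · rw [← hgw]
    group
  · have h4 := (mem_normalizer_iff.1 (grp_normalizes M {j} {j} hg) _).1 (h2 x hx)
    have e : g * s * x * (g * s)⁻¹ = g * (s * x * s⁻¹) * g⁻¹ := by group
    rw [e]
    exact h4

/-! ### The partner -/

variable {F' : Type} [Field F'] [Finite F'] [CharP F' 2] {S' : Sylow 2 G} {P' : Subgroup G} {k' : ℕ}
  {M' : NatK F' (S' : Subgroup G) P' (zl (S' : Subgroup G) P') ⊥ k'}

/-- **The partner moves the factor**: `[V, V'] = line M i ∋ v ≠ 1`: some `g ∈ KK v` moves some `x ∈ fac M i`. -/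
theorem exists_move (hc : IsCharacteristicTwoType G) (h : Pair S S' P P')
    (hT : NoOver (zl (S : Subgroup G) P) P) (hT' : NoOver (zl (S' : Subgroup G) P') P') (hk' : 0 < k')
    (hC' : CC M') (hF : Nat.card F = 2) {i : Fin k}
    (hR : ⁅zl (S : Subgroup G) P, zl (S' : Subgroup G) P'⁆ = line M i) {v : G} (hv : v ∈ line M i)
    (hv1 : v ≠ 1) : ∃ x ∈ fac M i, ∃ g ∈ KK v, g * x ≠ x * g := by
  obtain ⟨j, hl, hcard, a, ha, b, hb, hne⟩ := exists_partner hc h hT hT' M M' hk' hR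
  exact ⟨a, ha, b, zl_le_KK_line h.star' hC' (hcard.trans hF) (hl ▸ hv) hv1 (fac_le M' j hb), hne⟩

/-- The package of the partner for `k' ≥ 2`. -/
structure Part (Vi : Subgroup G) (v : G) (A B : Subgroup G) : Prop where
  vA : v ∈ A
  two : ∃ b₁ ∈ B, ∃ b₂ ∈ B, b₁ ≠ 1 ∧ b₂ ≠ 1 ∧ b₁ ≠ b₂
  Bq : B ≤ ZN.o2 (centralizer ({v} : Set G))
  Bc : ∀ b ∈ B, ∀ q ∈ ZN.o2 (centralizer ({v} : Set G)), q * b = b * q
  Aq : ∀ b ∈ B, b ≠ 1 → A ≤ ZN.o2 (centralizer ({b} : Set G))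
  Ac : ∀ b ∈ B, b ≠ 1 → ∀ a ∈ A, ∀ q ∈ ZN.o2 (centralizer ({b} : Set G)), q * a = a * q
  sq : ∀ a ∈ A, a * a = 1
  sqB : ∀ b ∈ B, b * b = 1
  ne : ∃ a ∈ A, ∃ x ∈ Vi, a * x ≠ x * a

/-- `k' ≥ 2`: `A = V'_j ∋ v`, `B = V'_l`, `l ≠ j`. -/
theorem exists_part (hc : IsCharacteristicTwoType G) (h : Pair S S' P P')
    (hT : NoOver (zl (S : Subgroup G) P) P) (hT' : NoOver (zl (S' : Subgroup G) P') P') (hk' : 2 ≤ k')
    (hC' : CC M') (hF : Nat.card F = 2) {i : Fin k}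
    (hR : ⁅zl (S : Subgroup G) P, zl (S' : Subgroup G) P'⁆ = line M i) {v : G} (hv : v ∈ line M i)
    (hv1 : v ≠ 1) : ∃ A B : Subgroup G, Part (fac M i) v A B := by
  obtain ⟨j, hl, hcard, a, ha, b, hb, hne⟩ := exists_partner hc h hT hT' M M' (by omega) hR
  have hF' : Nat.card F' = 2 := hcard.trans hF
  have hv' : v ∈ line M' j := hl ▸ hv
  obtain ⟨l, hlj⟩ : ∃ l : Fin k', l ≠ j := by
    have : Nontrivial (Fin k') := Fin.nontrivial_iff_two_le.2 hk'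
    exact exists_ne j
  have hq : ∀ (m : Fin k') {b : G}, b ∈ fac M' m → b ≠ 1 → ∀ n, fac M' n ≤ ZN.o2 (centralizer ({b} : Set G)) :=
    fun m b hb hb1 n => (fac_le M' n).trans ((zl_le_KK h.star' hC' hF' hb hb1).trans
      (KK_le_o2 (fac_sq hb) (cz_char2 hc (fac_sq hb) hb1)))
  obtain ⟨b₁, hb₁, e1⟩ := exists_fac M' l ![1, 0]
  obtain ⟨b₂, hb₂, e2⟩ := exists_fac M' l ![0, 1]
  have hb11 : b₁ ≠ 1 := fun h0 => by
    rw [← fac_eq_one M' hb₁, e1] at h0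
    exact one_ne_zero (congrFun h0 0)
  have hb21 : b₂ ≠ 1 := fun h0 => by
    rw [← fac_eq_one M' hb₂, e2] at h0
    exact one_ne_zero (congrFun h0 1)
  have hb12 : b₁ ≠ b₂ := fun h0 => by
    rw [h0, e2] at e1
    exact zero_ne_one (congrFun e1 0)
  refine ⟨fac M' j, fac M' l, line_le M' j hv', ⟨b₁, hb₁, b₂, hb₂, hb11, hb21, hb12⟩,
    hq j (line_le M' j hv') hv1 l, fun b hb q hq' => qz_comm hC' hF' hlj (line_le M' j hv') hv1 hq' hb,
    fun b hb hb1 => hq l hb hb1 j, fun b hb hb1 a ha q hq' => qz_comm hC' hF' hlj.symm hb hb1 hq' ha,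
    fun a ha => fac_sq ha, fun b hb => fac_sq hb, ⟨b, hb, a, ha, hne⟩⟩

/-- `k' = 1`: `v` is centralised by the Sylow 2-subgroup `S'`. -/
theorem sylow_cent (hc : IsCharacteristicTwoType G) (h : Pair S S' P P')
    (hT : NoOver (zl (S : Subgroup G) P) P) (hT' : NoOver (zl (S' : Subgroup G) P') P') (hk' : k' = 1)
    (M' : NatK F' (S' : Subgroup G) P' (zl (S' : Subgroup G) P') ⊥ k') (hF : Nat.card F = 2) {i : Fin k}
    (hR : ⁅zl (S : Subgroup G) P, zl (S' : Subgroup G) P'⁆ = line M i) {v : G} (hv : v ∈ line M i) :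
    (S' : Subgroup G) ≤ centralizer ({v} : Set G) := by
  subst hk'
  obtain ⟨j, hl, hcard, -⟩ := exists_partner hc h hT hT' M M' one_pos hR
  have hSP' : (S' : Subgroup G) ≤ P' := h.star'.isLoc.le
  have h3 : stab M' j = (S' : Subgroup G) := by
    refine le_antisymm (stab_le M' j) (le_inf le_rfl fun x hx => ?_)
    rw [mem_normalizer_fac_iff M' (hSP' hx)]
    exact Subsingleton.elim _ _
  intro s hs
  rw [← h3] at hs
  exact mem_cent.2 (stab_comm_line M' hSP' (hcard.trans hF) (hl ▸ hv) hs)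

end Cfsg.Agent.Omega.IId.Big.Supply

end

section


/-!
# WrBig, `q = 2`: END of THEOREM A (#16750) and the partners (#16833, simplified)

Pure group theory.

* `End.norm` : `C_G(v) ≤ N_G(DD)`, where `DD = D₁ E₁`, `⟨v⟩ E₁` is normalised by `C_G(v)`, and for `p ∈ D₂# ` the group
  `Z(Q_p) ≤ DD` contains `v` and is normalised by `C_G(p)`;
* `End.kill` : no `2`-group normalised by `R` (transitive on `D₁#`) contains an element which normalises `D₁` and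
  moves it;
* `End.partner` : a partner with `k' ≥ 2` factors does not exist: `V'₂ ≤ Z(Q_v) = ⟨v⟩ E₁` meets `E₁ ≤ C(R)` in some
  `d ≠ 1`, `R ≤ C_G(d)` normalises `O₂(C_G(d)) ≥ V'₁`;
* `End.one` : a partner with `k' = 1` does not exist.
-/

set_option autoImplicit false

namespace Cfsg.Agent.Omega.IId.Big

open Subgroup Pointwise

universe u

variable {G : Type u} [Group G]

/-- **END of THEOREM A.** -/
theorem End.norm {DD D₁ E₁ R : Subgroup G} {v : G} (Z : G → Subgroup G)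
    (hDD : DD ≤ D₁ ⊔ E₁) (hD : D₁ ≤ DD) (hE : E₁ ≤ DD) (hcomm : ∀ x ∈ DD, ∀ y ∈ DD, x * y = y * x)
    (hv : v ∈ D₁) (hv2 : v * v = 1)
    (hR : ∀ r ∈ R, ∀ e ∈ E₁, r * e = e * r)
    (htr : ∀ x ∈ D₁, x ≠ 1 → ∃ r ∈ R, r * v * r⁻¹ = x)
    (hZv : ∀ h : G, h * v = v * h → ∀ e ∈ E₁, h * e * h⁻¹ ∈ E₁ ∨ v * (h * e * h⁻¹) ∈ E₁)
    {p₁ p₂ : G} (h1 : p₁ ∈ E₁) (h2 : p₂ ∈ E₁)
    (hZ : ∀ p, p = p₁ ∨ p = p₂ ∨ p = p₁ * p₂ → v ∈ Z p ∧ Z p ≤ DD ∧
      ∀ g : G, g * p = p * g → ∀ x ∈ Z p, g * x * g⁻¹ ∈ Z p)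
    {h : G} (hh : h * v = v * h) {x : G} (hx : x ∈ DD) : h * x * h⁻¹ ∈ DD := by
  have hh' : h⁻¹ * v = v * h⁻¹ := by
    calc h⁻¹ * v = h⁻¹ * (v * h) * h⁻¹ := by group
      _ = h⁻¹ * (h * v) * h⁻¹ := by rw [hh]
      _ = v * h⁻¹ := by group
  have hvDD : v ∈ DD := hD hv
  -- some `p` with `h⁻¹ p h ∈ E₁`
  have key : ∃ p, (p = p₁ ∨ p = p₂ ∨ p = p₁ * p₂) ∧ h⁻¹ * p * h ∈ E₁ := by
    have e1 := hZv h⁻¹ hh' p₁ h1
    have e2 := hZv h⁻¹ hh' p₂ h2
    rw [inv_inv] at e1 e2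
    rcases e1 with e1 | e1
    · exact ⟨p₁, Or.inl rfl, e1⟩
    rcases e2 with e2 | e2
    · exact ⟨p₂, Or.inr (Or.inl rfl), e2⟩
    refine ⟨p₁ * p₂, Or.inr (Or.inr rfl), ?_⟩
    have e3 := mul_mem e1 e2
    have e4 : h⁻¹ * p₁ * h * v = v * (h⁻¹ * p₁ * h) := by
      have e5 := mul_mem (inv_mem (hE e1)) hvDD
      have e6 : h⁻¹ * p₁ * h ∈ DD := by
        have e7 := mul_mem (inv_mem hvDD) (hE e1)
        rwa [inv_mul_cancel_left] at e7
      exact hcomm _ e6 _ hvDD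
    have e8 : v * (h⁻¹ * p₁ * h) * (v * (h⁻¹ * p₂ * h)) = h⁻¹ * (p₁ * p₂) * h := by
      calc v * (h⁻¹ * p₁ * h) * (v * (h⁻¹ * p₂ * h))
          = v * (h⁻¹ * p₁ * h * v) * (h⁻¹ * p₂ * h) := by group
        _ = v * (v * (h⁻¹ * p₁ * h)) * (h⁻¹ * p₂ * h) := by rw [e4]
        _ = v * v * (h⁻¹ * (p₁ * p₂) * h) := by group
        _ = h⁻¹ * (p₁ * p₂) * h := by rw [hv2, one_mul]
    rwa [e8] at e3
  obtain ⟨p, hp, hpE⟩ := key
  obtain ⟨z1, z2, z3⟩ := hZ p hp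
  -- the conjugates of `D₁`
  have hD1 : ∀ y ∈ D₁, h * y * h⁻¹ ∈ DD := by
    intro y hy
    by_cases hy1 : y = 1
    · rw [hy1, mul_one, mul_inv_cancel]
      exact one_mem _
    obtain ⟨r, hr, rfl⟩ := htr y hy hy1
    have c1 : h * r * h⁻¹ * p = p * (h * r * h⁻¹) := by
      have c2 := hR r hr _ hpE
      calc h * r * h⁻¹ * p = h * (r * (h⁻¹ * p * h)) * h⁻¹ := by group
        _ = h * ((h⁻¹ * p * h) * r) * h⁻¹ := by rw [c2]
        _ = p * (h * r * h⁻¹) := by group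
    have c3 := z3 _ c1 v z1
    have c4 : h * (r * v * r⁻¹) * h⁻¹ = h * r * h⁻¹ * v * (h * r * h⁻¹)⁻¹ := by
      calc h * (r * v * r⁻¹) * h⁻¹ = h * r * (h⁻¹ * v * h) * r⁻¹ * h⁻¹ := by
            have c5 : h⁻¹ * v * h = v := by
              rw [hh', mul_assoc, inv_mul_cancel, mul_one]
            rw [c5]
            group
        _ = h * r * h⁻¹ * v * (h * r * h⁻¹)⁻¹ := by group
    rw [c4]
    exact z2 c3
  have hE1 : ∀ y ∈ E₁, h * y * h⁻¹ ∈ DD := by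
    intro y hy
    rcases hZv h hh y hy with e | e
    · exact hE e
    · have e7 := mul_mem (inv_mem hvDD) (hE e)
      rwa [inv_mul_cancel_left] at e7
  have h9 : D₁ ⊔ E₁ ≤ DD.comap (MulAut.conj h).toMonoidHom :=
    sup_le (fun y hy => by
      rw [mem_comap]
      exact hD1 y hy) (fun y hy => by
      rw [mem_comap]
      exact hE1 y hy)
  have h10 := h9 (hDD hx)
  rw [mem_comap] at h10
  exact h10

/-- No `2`-group `K` normalised by a group `R`, transitive on `D₁#`, contains an element `a` which normalises the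
`2`-group `D₁` and does not centralise it. -/
theorem End.kill [Finite G] {D₁ R K : Subgroup G} (hD : IsPGroup 2 D₁) (hK : IsPGroup 2 K)
    (hRD : ∀ r ∈ R, ∀ x ∈ D₁, r * x * r⁻¹ ∈ D₁)
    (htr : ∀ x ∈ D₁, x ≠ 1 → ∀ y ∈ D₁, y ≠ 1 → ∃ r ∈ R, r * x * r⁻¹ = y)
    (hRK : ∀ r ∈ R, ∀ x ∈ K, r * x * r⁻¹ ∈ K)
    {a : G} (ha : a ∈ K) (haD : ∀ x ∈ D₁, a * x * a⁻¹ ∈ D₁) {x₀ : G} (hx₀ : x₀ ∈ D₁) (hne : a * x₀ ≠ x₀ * a) :
    False := by
  classical
  -- `B = ⟨a^R⟩`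
  let B : Subgroup G := closure {b | ∃ r ∈ R, b = r * a * r⁻¹}
  have hBK : B ≤ K := by
    rw [closure_le]
    rintro b ⟨r, hr, rfl⟩
    exact hRK r hr a ha
  have hBN : B ≤ normalizer (D₁ : Set G) := by
    rw [closure_le]
    rintro b ⟨r, hr, rfl⟩
    have haN : a ∈ normalizer (D₁ : Set G) := by
      have h1 : D₁.map (MulAut.conj a).toMonoidHom ≤ D₁ := by
        rintro _ ⟨x, hx, rfl⟩
        exact haD x hx
      rw [mem_normalizer_iff]
      intro x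
      constructor
      · exact haD x
      · intro h2
        have h3 : D₁.map (MulAut.conj a).toMonoidHom = D₁ := by
          refine eq_of_le_of_card_ge h1 ?_
          rw [card_map_of_injective (MulAut.conj a).injective]
        have h4 : a * x * a⁻¹ ∈ D₁.map (MulAut.conj a).toMonoidHom := by
          rw [h3]
          exact h2
        obtain ⟨y, hy, hxy⟩ := h4
        have h5 : y = x := by
          have h6 : a * y * a⁻¹ = a * x * a⁻¹ := hxy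
          have h7 := mul_right_cancel h6
          exact mul_left_cancel h7
        rw [← h5]
        exact hy
    have hrN : r ∈ normalizer (D₁ : Set G) := by
      rw [mem_normalizer_iff]
      intro x
      constructor
      · exact hRD r hr x
      · intro h2
        have h3 := hRD r⁻¹ (inv_mem hr) _ h2
        have h4 : r⁻¹ * (r * x * r⁻¹) * r⁻¹⁻¹ = x := by group
        rwa [h4] at h3
    exact mul_mem (mul_mem hrN haN) (inv_mem hrN)
  have hB : IsPGroup 2 B := hK.to_le hBK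
  -- `B` acts on `D₁`
  let act : MulAction B D₁ :=
    { smul := fun b x => ⟨b.1 * x.1 * b.1⁻¹, (mem_normalizer_iff.1 (hBN b.2) x.1).1 x.2⟩
      one_smul := fun x => Subtype.ext (by
        change (1 : B).1 * x.1 * (1 : B).1⁻¹ = x.1
        simp)
      mul_smul := fun b c x => Subtype.ext (by
        change (b * c).1 * x.1 * (b * c).1⁻¹ = b.1 * (c.1 * x.1 * c.1⁻¹) * b.1⁻¹
        rw [coe_mul]
        group) }
  have hx₀1 : x₀ ≠ 1 := by
    rintro rfl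
    exact hne (by rw [mul_one, one_mul])
  have hcard : 2 ∣ Nat.card D₁ := by
    have : Nontrivial D₁ := ⟨⟨x₀, hx₀⟩, 1, fun h => hx₀1 (congrArg Subtype.val h)⟩
    obtain ⟨n, hn⟩ := (IsPGroup.iff_card.1 hD)
    have hn0 : n ≠ 0 := by
      rintro rfl
      rw [pow_zero] at hn
      exact (Finite.one_lt_card (α := D₁)).ne' hn
    rw [hn]
    exact dvd_pow_self 2 hn0
  have h1 : (1 : D₁) ∈ MulAction.fixedPoints B D₁ := by
    intro b
    apply Subtype.ext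
    change b.1 * (1 : D₁).1 * b.1⁻¹ = (1 : D₁).1
    simp
  have : Fact (Nat.Prime 2) := ⟨Nat.prime_two⟩
  obtain ⟨y, hy, hy1⟩ := hB.exists_fixed_point_of_prime_dvd_card_of_fixed_point D₁ hcard h1
  have hy1' : y.1 ≠ 1 := fun h => hy1 (Subtype.ext h).symm
  obtain ⟨r, hr, hrx⟩ := htr y.1 y.2 hy1' x₀ hx₀ hx₀1
  -- `r⁻¹ a r` fixes `y`
  have hb : r⁻¹ * a * r⁻¹⁻¹ ∈ B := subset_closure ⟨r⁻¹, inv_mem hr, rfl⟩
  have h2 : (r⁻¹ * a * r⁻¹⁻¹) * y.1 * (r⁻¹ * a * r⁻¹⁻¹)⁻¹ = y.1 := congrArg Subtype.val (hy ⟨_, hb⟩)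
  apply hne
  rw [← hrx]
  have h3 : a * (r * y.1 * r⁻¹) * a⁻¹ = r * y.1 * r⁻¹ := by
    calc a * (r * y.1 * r⁻¹) * a⁻¹
        = r * ((r⁻¹ * a * r⁻¹⁻¹) * y.1 * (r⁻¹ * a * r⁻¹⁻¹)⁻¹) * r⁻¹ := by group
      _ = r * y.1 * r⁻¹ := by rw [h2]
  calc a * (r * y.1 * r⁻¹) = a * (r * y.1 * r⁻¹) * a⁻¹ * a := by group
    _ = r * y.1 * r⁻¹ * a := by rw [h3]

/-- **Partners with `k' ≥ 2` factors** (simplified #16833). `d₁, d₂ ∈ V'₂` distinct and `≠ 1`, in `Z(Q_v) = ⟨v⟩ E₁`,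
`R` centralises `E₁` and is transitive on `D₁#`; `K d = O₂(C_G(d)) ≥ V'₁ ∋ a`. -/
theorem End.partner [Finite G] {D₁ E₁ R : Subgroup G} {v : G} (K : G → Subgroup G)
    (hD : IsPGroup 2 D₁) (hv2 : v * v = 1) (hvE : ∀ e ∈ E₁, v * e = e * v)
    (hR : ∀ r ∈ R, ∀ e ∈ E₁, r * e = e * r)
    (hRD : ∀ r ∈ R, ∀ x ∈ D₁, r * x * r⁻¹ ∈ D₁)
    (htr : ∀ x ∈ D₁, x ≠ 1 → ∀ y ∈ D₁, y ≠ 1 → ∃ r ∈ R, r * x * r⁻¹ = y)
    {V₂ : Subgroup G} (hV₂ : ∀ d ∈ V₂, d ∈ E₁ ∨ v * d ∈ E₁)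
    {d₁ d₂ : G} (h1 : d₁ ∈ V₂) (h2 : d₂ ∈ V₂) (h11 : d₁ ≠ 1) (h21 : d₂ ≠ 1) (h12 : d₁ * d₂ ≠ 1)
    (hK : ∀ d, IsPGroup 2 (K d)) (hKn : ∀ d ∈ V₂, ∀ g : G, g * d = d * g → ∀ x ∈ K d, g * x * g⁻¹ ∈ K d)
    {a : G} (ha : ∀ d ∈ V₂, d ≠ 1 → a ∈ K d) (haD : ∀ x ∈ D₁, a * x * a⁻¹ ∈ D₁)
    {x₀ : G} (hx₀ : x₀ ∈ D₁) (hne : a * x₀ ≠ x₀ * a) : False := by
  have key : ∃ d ∈ V₂, d ≠ 1 ∧ d ∈ E₁ := by
    rcases hV₂ d₁ h1 with e1 | e1
    · exact ⟨d₁, h1, h11, e1⟩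
    rcases hV₂ d₂ h2 with e2 | e2
    · exact ⟨d₂, h2, h21, e2⟩
    refine ⟨d₁ * d₂, mul_mem h1 h2, h12, ?_⟩
    have e3 := mul_mem e1 e2
    have e4 : v * d₁ * (v * d₂) = d₁ * d₂ := by
      have e5 := hvE _ e1
      calc v * d₁ * (v * d₂) = (v * d₁) * v * d₂ := by group
        _ = v * (v * d₁) * d₂ := by rw [e5]
        _ = v * v * (d₁ * d₂) := by group
        _ = d₁ * d₂ := by rw [hv2, one_mul]
    rwa [e4] at e3
  obtain ⟨d, hd, hd1, hdE⟩ := key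
  exact End.kill hD (hK d) hRD htr (fun r hr x hx => hKn d hd r (hR r hr d hdE) x hx) (ha d hd hd1) haD hx₀ hne

/-- **Partners with `k' = 1`**: `S'` is Sylow in `G` and centralises `v`. `S` permutes the `D i`, `C_G(v) ≤ N_G(DD)`;
`w ∈ O₂(C_G(v))` acts on `DD` as a transvection with centre `v`. -/
theorem End.one [Finite G] {ι : Type*} {S S' : Sylow 2 G} {DD : Subgroup G} (D : ι → Subgroup G) {v z w : G}
    (hDD : DD ≤ ⨆ i, D i) (hD : ∀ i, D i ≤ DD) (hcomm : ∀ x ∈ DD, ∀ y ∈ DD, x * y = y * x)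
    (hdis : ∀ i j, i ≠ j → D i ⊓ D j = ⊥) (hperm : ∀ s ∈ S, ∀ i, ∃ j, ∀ x ∈ D i, s * x * s⁻¹ ∈ D j)
    (hbig : ∀ i, ∃ x ∈ D i, ∃ y ∈ D i, x ≠ y ∧ x ≠ 1 ∧ y ≠ 1)
    (hz : z ∈ DD) (hzD : ∀ i, z ∉ D i)
    (hZ : ∀ x ∈ S, x * x = 1 → (∀ s ∈ S, s * x = x * s) → x = 1 ∨ x = z)
    (hv1 : v ≠ 1) (hv2 : v * v = 1) (hvS : v ∈ S') (hS' : ∀ s ∈ S', s * v = v * s)
    (hC : ∀ h : G, h * v = v * h → ∀ x ∈ DD, h * x * h⁻¹ ∈ DD)
    (hw : ∀ x ∈ DD, w * x * w⁻¹ = x ∨ w * x * w⁻¹ = v * x)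
    (hwS : ∀ m : G, m * z * m⁻¹ = v → m⁻¹ * w * m ∈ S)
    {x₀ : G} (hx₀ : x₀ ∈ DD) (hne : w * x₀ ≠ x₀ * w) : False := by
  classical
  let M : Subgroup G := normalizer (DD : Set G)
  have hnorm : ∀ g : G, (∀ x ∈ DD, g * x * g⁻¹ ∈ DD) → g ∈ M := by
    intro g hg
    have h1 : DD.map (MulAut.conj g).toMonoidHom ≤ DD := by
      rintro _ ⟨x, hx, rfl⟩
      exact hg x hx
    change g ∈ normalizer (DD : Set G)
    rw [mem_normalizer_iff]
    intro x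
    constructor
    · exact hg x
    · intro h2
      have h3 : DD.map (MulAut.conj g).toMonoidHom = DD := by
        refine eq_of_le_of_card_ge h1 ?_
        rw [card_map_of_injective (MulAut.conj g).injective]
      have h4 : g * x * g⁻¹ ∈ DD.map (MulAut.conj g).toMonoidHom := by
        rw [h3]
        exact h2
      obtain ⟨y, hy, hxy⟩ := h4
      have h5 : y = x := by
        have h6 : g * y * g⁻¹ = g * x * g⁻¹ := hxy
        exact mul_left_cancel (mul_right_cancel h6)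
      rw [← h5]
      exact hy
  have hSM : (S : Subgroup G) ≤ M := by
    intro s hs
    refine hnorm s ?_
    have h1 : (⨆ i, D i) ≤ DD.comap (MulAut.conj s).toMonoidHom := by
      refine iSup_le fun i => ?_
      obtain ⟨j, hj⟩ := hperm s hs i
      intro x hx
      rw [mem_comap]
      exact hD j (hj x hx)
    intro x hx
    have h2 := h1 (hDD hx)
    rw [mem_comap] at h2
    exact h2
  have hSM' : (S' : Subgroup G) ≤ M := fun s hs => hnorm s (hC s (hS' s hs))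
  -- the two Sylow subgroups are conjugate in `M`
  have : Fact (Nat.Prime 2) := ⟨Nat.prime_two⟩
  obtain ⟨m, hm⟩ := MulAction.exists_smul_eq M (S.subtype hSM) (S'.subtype hSM')
  have hm1 : ∀ s ∈ S', m.1⁻¹ * s * m.1 ∈ S := by
    intro s hs
    have h0 : (⟨s, hSM' hs⟩ : M) ∈ ((S'.subtype hSM' : Sylow 2 M) : Subgroup M) := hs
    rw [← hm] at h0
    have h1 : (⟨s, hSM' hs⟩ : M) ∈ MulAut.conj m • ((S.subtype hSM : Sylow 2 M) : Subgroup M) := h0
    have h2 := (mem_pointwise_smul_iff_inv_smul_mem).1 h1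
    have h3 : ((MulAut.conj m)⁻¹ • (⟨s, hSM' hs⟩ : M)) ∈ (S : Subgroup G).subgroupOf M := h2
    rw [mem_subgroupOf] at h3
    have h4 : (((MulAut.conj m)⁻¹ • (⟨s, hSM' hs⟩ : M) : M) : G) = m.1⁻¹ * s * m.1 := by
      rw [← map_inv, MulAut.smul_def, MulAut.conj_apply]
      simp
    rwa [h4] at h3
  have hm2 : ∀ s ∈ S, m.1 * s * m.1⁻¹ ∈ S' := by
    intro s hs
    have h1 : (⟨s, hSM hs⟩ : M) ∈ ((S.subtype hSM : Sylow 2 M) : Subgroup M) := hs
    have h3 := smul_mem_pointwise_smul (⟨s, hSM hs⟩ : M) (MulAut.conj m) _ h1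
    rw [MulAut.smul_def, MulAut.conj_apply] at h3
    have h4 : m * ⟨s, hSM hs⟩ * m⁻¹ ∈ ((m • S.subtype hSM : Sylow 2 M) : Subgroup M) := h3
    rw [hm] at h4
    exact h4
  -- `m⁻¹ v m = z`
  have hvz : m.1⁻¹ * v * m.1 = z := by
    have h1 := hZ _ (hm1 v hvS) (by
      calc m.1⁻¹ * v * m.1 * (m.1⁻¹ * v * m.1) = m.1⁻¹ * (v * v) * m.1 := by group
        _ = 1 := by rw [hv2]; group) (by
      intro s hs
      have h2 := hS' _ (hm2 s hs)
      calc s * (m.1⁻¹ * v * m.1) = m.1⁻¹ * (m.1 * s * m.1⁻¹ * v) * m.1 := by group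
        _ = m.1⁻¹ * (v * (m.1 * s * m.1⁻¹)) * m.1 := by rw [h2]
        _ = m.1⁻¹ * v * m.1 * s := by group)
    rcases h1 with h1 | h1
    · exfalso
      apply hv1
      calc v = m.1 * (m.1⁻¹ * v * m.1) * m.1⁻¹ := by group
        _ = 1 := by rw [h1]; group
    · exact h1
  have hzv : m.1 * z * m.1⁻¹ = v := by
    rw [← hvz]
    group
  have hwm : m.1⁻¹ * w * m.1 ∈ S := hwS _ hzv
  set w' : G := m.1⁻¹ * w * m.1 with hw'
  have hmDD : ∀ x ∈ DD, m.1 * x * m.1⁻¹ ∈ DD := fun x hx => (mem_normalizer_iff.1 m.2 x).1 hx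
  have hmDD' : ∀ x ∈ DD, m.1⁻¹ * x * m.1 ∈ DD := fun x hx => by
    have h1 := (mem_normalizer_iff.1 (inv_mem m.2) x).1 hx
    rwa [inv_inv] at h1
  have hw2 : ∀ x ∈ DD, w' * x * w'⁻¹ = x ∨ w' * x * w'⁻¹ = z * x := by
    intro x hx
    have h1 : w' * x * w'⁻¹ = m.1⁻¹ * (w * (m.1 * x * m.1⁻¹) * w⁻¹) * m.1 := by
      rw [hw']
      group
    rcases hw _ (hmDD x hx) with h2 | h2
    · left
      rw [h1, h2]
      group
    · right
      rw [h1, h2, ← hvz]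
      group
  -- `w'` centralises every `D i`
  have hcen : ∀ i, ∀ x ∈ D i, w' * x * w'⁻¹ = x := by
    intro i
    obtain ⟨j, hj⟩ := hperm w' hwm i
    by_cases hij : j = i
    · subst hij
      intro x hx
      rcases hw2 x (hD j hx) with h2 | h2
      · exact h2
      · exfalso
        have h3 := mul_mem (hj x hx) (inv_mem hx)
        rw [h2, mul_inv_cancel_right] at h3
        exact hzD j h3
    · exfalso
      obtain ⟨x, hx, y, hy, hxy, hx1, hy1⟩ := hbig i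
      have h3 : ∀ x ∈ D i, x ≠ 1 → w' * x * w'⁻¹ = z * x := by
        intro x hx hx1
        rcases hw2 x (hD i hx) with h2 | h2
        · exfalso
          have h4 := hj x hx
          rw [h2] at h4
          have h5 : x ∈ D j ⊓ D i := ⟨h4, hx⟩
          rw [hdis j i hij] at h5
          exact hx1 (mem_bot.1 h5)
        · exact h2
      have h6 := h3 (x * y⁻¹) (mul_mem hx (inv_mem hy)) (fun h => hxy (mul_inv_eq_one.1 h))
      have h7 : w' * (x * y⁻¹) * w'⁻¹ = x * y⁻¹ := by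
        calc w' * (x * y⁻¹) * w'⁻¹ = (w' * x * w'⁻¹) * (w' * y * w'⁻¹)⁻¹ := by group
          _ = (z * x) * (z * y)⁻¹ := by rw [h3 x hx hx1, h3 y hy hy1]
          _ = z * (x * y⁻¹) * z⁻¹ := by group
          _ = x * y⁻¹ := by
            rw [hcomm z hz _ (mul_mem (hD i hx) (inv_mem (hD i hy))), mul_inv_cancel_right]
      rw [h7] at h6
      have h8 : z = 1 := mul_eq_right.1 h6.symm
      exact hzD i (by rw [h8]; exact one_mem _)
  have hall : ∀ x ∈ DD, w' * x * w'⁻¹ = x := by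
    have h1 : (⨆ i, D i) ≤ centralizer ({w'} : Set G) := by
      refine iSup_le fun i x hx => ?_
      rw [mem_centralizer_singleton_iff]
      have h2 := hcen i x hx
      calc x * w' = w' * x * w'⁻¹ * w' := by rw [h2]
        _ = w' * x := by group
    intro x hx
    have h3 := h1 (hDD hx)
    rw [mem_centralizer_singleton_iff] at h3
    rw [← h3, mul_inv_cancel_right]
  apply hne
  have h9 := hall _ (hmDD' x₀ hx₀)
  have h10 : w * x₀ * w⁻¹ = x₀ := by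
    calc w * x₀ * w⁻¹ = m.1 * (w' * (m.1⁻¹ * x₀ * m.1) * w'⁻¹) * m.1⁻¹ := by
          rw [hw']
          group
      _ = x₀ := by
        rw [h9]
        group
  calc w * x₀ = w * x₀ * w⁻¹ * w := by group
    _ = x₀ * w := by rw [h10]

end Cfsg.Agent.Omega.IId.Big

end
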