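import Cfsg.Agent.Mrg.Omega.IId.Big.Base
import Cfsg.Agent.Mrg.Omega.IId.Big.Supply
import Cfsg.Agent.Mrg.Omega.IId.BigFour.Entry
import Cfsg.Agent.Mrg.Omega.BTwo.Str
import Cfsg.Agent.Mrg.Omega.BTwo.Split
import Cfsg.Agent.Mrg.Omega.NO3b.UMethod
import Cfsg.Agent.Lib.GoldschmidtFusion
import Cfsg.Agent.Mrg.Omega.IId.M4.Entry

section


/-!
# WrBig, `q = 2`: the frame `Fr` (helper428's `Base.lean`) from natural factors

* `fr_of` : the frame `Fr S (fac M)`.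
-/

set_option autoImplicit false
set_option linter.unusedSectionVars false

namespace Cfsg.Agent.Omega.IId.Big

open Subgroup Pointwise Cfsg Cfsg.Agent.ZN Cfsg.Agent.ZN.ChoiceBase
open Cfsg.Agent.Omega.MinPar Cfsg.Agent.Omega.FFThm Cfsg.Agent.Omega.FrameMulti
open Cfsg.Agent.MinSimple.VModule (mem_zc)
open Triangle (KK KK_conj KK_le_o2 mem_cent mem_KK mem_zpowers_iff_of_sq cent_conj o2_cent_conj)
open Supply

universe u

variable {G : Type u} [Group G] [Finite G] {F : Type} [Field F] [Finite F] [CharP F 2] {S : Sylow 2 G}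
  {P : Subgroup G} {k : ℕ} {M : NatK F (S : Subgroup G) P (zl (S : Subgroup G) P) ⊥ k}

/-- **The frame** `Fr S (fac M)` from a point `v` of a factor such that `KK v` moves the factor. -/
theorem fr_of (hc : IsCharacteristicTwoType G) (hP : IsParS (S : Subgroup G) P) (hC : CC M)
    (hF : Nat.card F = 2) (hZ : zc (S : Subgroup G) ≤ zl (S : Subgroup G) P) {i₀ : Fin k} {v₀ : G}
    (hv₀ : v₀ ∈ fac M i₀) (hv₀1 : v₀ ≠ 1)
    (hmv : ∃ x ∈ fac M i₀, ∃ g ∈ KK v₀, g * x ≠ x * g) : Fr (S : Subgroup G) (fac M) where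
  S2 := S.isPGroup'
  sq := fun i x hx => fac_sq hx
  comm := fun i j x hx y hy => comm M hx.1 hy.1
  four := fun i => by
    rw [card_fac M i, hF]
    norm_num
  Qc := fun i j hij v hv hv1 q hq x hx => qz_comm hC hF hij hv hv1 hq hx
  VQ := fun i j v hv hv1 => (fac_le M j).trans ((zl_le_KK hP hC hF hv hv1).trans
    (KK_le_o2 (fac_sq hv) (cz_char2 hc (fac_sq hv) hv1)))
  WV := by
    intro i v hv hv1
    obtain ⟨x, hx, g, hg, hgx⟩ := hmv
    obtain ⟨p, hp, h1, h2⟩ := exists_P_conj hP.isLoc.le hv₀ hv₀1 hv hv1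
    refine ⟨p * g * p⁻¹, by rw [← h1]; exact KK_conj hg, p * x * p⁻¹, h2 x hx, fun h0 => hgx ?_⟩
    calc g * x = p⁻¹ * (p * g * p⁻¹ * (p * x * p⁻¹)) * p := by group
      _ = p⁻¹ * (p * x * p⁻¹ * (p * g * p⁻¹)) * p := by rw [h0]
      _ = x * g := by group
  c2 := fun i v hv hv1 => cz_char2 hc (fac_sq hv) hv1
  perm := by
    intro s hs i
    have hsP := hP.isLoc.le hs
    have h1 := conj_fac M hsP i
    refine ⟨_, fun x => ⟨fun hx => by rw [← h1]; exact ⟨x, hx, rfl⟩, fun hx => ?_⟩⟩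
    rw [← h1] at hx
    obtain ⟨y, hy, hyx⟩ := hx
    have h2 : s * y * s⁻¹ = s * x * s⁻¹ := hyx
    rwa [← mul_left_cancel (mul_right_cancel h2)]
  zS := hZ.trans (fac_le_iSup M)

end Cfsg.Agent.Omega.IId.Big

end

section


/-!
# WrBig, `q = 2`, CASE 1 (`T = N_S(V_i)` is Sylow in `C_G(v_i)`): the frame over `T` (#17249, #18272)

* `le_o2_of_chain` : the stabiliser of `O₂(C) ≥ Z(O₂(C)) ≥ 1` in `C` lies in `O₂(C)`;
* `zz_le_q` : `Ω₁Z(O₂(P)) ≤ Q_v` for all points `v` (first half of (ZV) of #17249);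
* `Sit M i` : the situation; `Sit.zc_le`, `Sit.exists_le` : `1 ≠ e ∈ Ω₁Z(T)` centralised by `X_i`: some `V_l`, `l ≠ i`,
  lies in every subgroup which contains `e` and is normalised by `N(line M i)`;
* `Sit.loc` (OT): `O₂(M)` centralises `V_i` for every 2-constrained `M ≥ ⟨T, D⟩`, `D ≤ N(V_i)` transitive on `V_i#`.
-/

set_option autoImplicit false
set_option linter.unusedSectionVars false

namespace Cfsg.Agent.Omega.IId.Big.Syl

open Subgroup Pointwise Cfsg Cfsg.Agent.ZN Cfsg.Agent.ZN.ChoiceBase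
open Cfsg.Agent.Omega.MinPar Cfsg.Agent.Omega.FFThm Cfsg.Agent.Omega.FrameMulti
open Cfsg.Agent.MinSimple.VModule (o2_isPGroup)
open Triangle (KK KK_conj KK_le_o2 mem_cent mem_KK mem_zpowers_iff_of_sq cent_conj o2_cent_conj)
open Supply

universe u

/-! ### The stabiliser of a chain -/

section chain

variable {G : Type u} [Group G]

/-- the stabiliser in `C` of the chain `Q ≥ Q ∩ C(Q) ≥ 1` -/
def chainStab (C Q : Subgroup G) : Subgroup G where
  carrier := {g | g ∈ C ∧ (∀ r ∈ Q, g * r * g⁻¹ * r⁻¹ ∈ Q ⊓ centralizer (Q : Set G)) ∧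
    ∀ z ∈ Q ⊓ centralizer (Q : Set G), g * z = z * g}
  one_mem' := ⟨one_mem _, fun r _ => by
    have e : (1 : G) * r * 1⁻¹ * r⁻¹ = 1 := by group
    rw [e]; exact one_mem _, fun z _ => by rw [one_mul, mul_one]⟩
  mul_mem' := by
    rintro a b ⟨ha, ha1, ha2⟩ ⟨hb, hb1, hb2⟩
    refine ⟨mul_mem ha hb, fun r hr => ?_, fun z hz => ?_⟩
    · have h1 := ha2 _ (hb1 r hr)
      have e : a * b * r * (a * b)⁻¹ * r⁻¹ = (b * r * b⁻¹ * r⁻¹) * (a * r * a⁻¹ * r⁻¹) := by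
        calc a * b * r * (a * b)⁻¹ * r⁻¹ = (a * (b * r * b⁻¹ * r⁻¹)) * (r * a⁻¹ * r⁻¹) := by group
          _ = (b * r * b⁻¹ * r⁻¹) * (a * r * a⁻¹ * r⁻¹) := by rw [h1]; group
      rw [e]
      exact mul_mem (hb1 r hr) (ha1 r hr)
    · calc a * b * z = a * (b * z) := by group
        _ = (a * z) * b := by rw [hb2 z hz]; group
        _ = z * (a * b) := by rw [ha2 z hz]; group
  inv_mem' := by
    rintro a ⟨ha, ha1, ha2⟩
    have h2 : ∀ z ∈ Q ⊓ centralizer (Q : Set G), a⁻¹ * z = z * a⁻¹ := fun z hz => by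
      rw [inv_mul_eq_iff_eq_mul, ← mul_assoc, ha2 z hz, mul_inv_cancel_right]
    refine ⟨inv_mem ha, fun r hr => ?_, h2⟩
    have h3 := h2 _ (inv_mem (ha1 r hr))
    have e : a⁻¹ * r * a⁻¹⁻¹ * r⁻¹ = (a * r * a⁻¹ * r⁻¹)⁻¹ := by
      calc a⁻¹ * r * a⁻¹⁻¹ * r⁻¹ = (a⁻¹ * (a * r * a⁻¹ * r⁻¹)⁻¹) * a := by group
        _ = (a * r * a⁻¹ * r⁻¹)⁻¹ := by rw [h3]; group
    rw [e]
    exact inv_mem (ha1 r hr)

/-- **The stabiliser of the chain `O₂(C) ≥ Z(O₂(C)) ≥ 1` in `C` lies in `O₂(C)`.** -/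
theorem le_o2_of_chain [Finite G] {C A : Subgroup G} (hC : C ⊓ centralizer (ZN.o2 C : Set G) ≤ ZN.o2 C)
    (hAC : A ≤ C)
    (h1 : ∀ a ∈ A, ∀ r ∈ ZN.o2 C, a * r * a⁻¹ * r⁻¹ ∈ ZN.o2 C ⊓ centralizer (ZN.o2 C : Set G))
    (h2 : ∀ a ∈ A, ∀ z ∈ ZN.o2 C ⊓ centralizer (ZN.o2 C : Set G), a * z = z * a) : A ≤ ZN.o2 C := by
  have hA : A ≤ chainStab C (ZN.o2 C) := fun a ha => ⟨hAC ha, h1 a ha, h2 a ha⟩
  refine hA.trans (le_o2 (fun x hx => hx.1) ?_ ?_)
  · refine BTwo.isPGroup_of_odd fun c hc hodd => ?_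
    have hcr : ∀ r ∈ ZN.o2 C, c * r = r * c := fun r hr =>
      BTwo.comm_of_odd hodd ((o2_isPGroup C).to_le inf_le_left) (hc.2.1 r hr) (hc.2.2 _ (hc.2.1 r hr))
    have hcQ : c ∈ ZN.o2 C := hC ⟨hc.1, mem_centralizer_iff.2 fun r hr => (hcr r hr).symm⟩
    obtain ⟨m, hm⟩ := o2_isPGroup C ⟨c, hcQ⟩
    have hm' : c ^ 2 ^ m = 1 := by simpa using congrArg Subtype.val hm
    have h4 : orderOf c ∣ 2 ^ m := orderOf_dvd_of_pow_eq_one hm'
    have h5 : Nat.Coprime (orderOf c) (2 ^ m) := Nat.Coprime.pow_right m (Nat.coprime_two_right.2 hodd)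
    exact orderOf_eq_one_iff.1 (Nat.dvd_one.1 (h5 ▸ Nat.dvd_gcd dvd_rfl h4))
  · apply norm_of
    intro c hc x hx
    have hcn := le_normalizer_o2 C hc
    have hcn' := inv_mem hcn
    have key : ∀ z ∈ ZN.o2 C ⊓ centralizer (ZN.o2 C : Set G), ∀ d ∈ normalizer (ZN.o2 C : Set G),
        d * z * d⁻¹ ∈ ZN.o2 C ⊓ centralizer (ZN.o2 C : Set G) := by
      intro z hz d hd
      refine ⟨(mem_normalizer_iff.1 hd z).1 hz.1, ?_⟩
      exact (mem_normalizer_iff.1 (BTwo.normalizer_le_normalizer_centralizer _ hd) z).1 hz.2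
    refine ⟨mul_mem (mul_mem hc hx.1) (inv_mem hc), fun r hr => ?_, fun z hz => ?_⟩
    · have hr' : c⁻¹ * r * c ∈ ZN.o2 C := by
        have := (mem_normalizer_iff.1 hcn' r).1 hr
        rwa [inv_inv] at this
      have h3 := key _ (hx.2.1 _ hr') c hcn
      have e : c * (x * (c⁻¹ * r * c) * x⁻¹ * (c⁻¹ * r * c)⁻¹) * c⁻¹ =
          c * x * c⁻¹ * r * (c * x * c⁻¹)⁻¹ * r⁻¹ := by group
      rwa [e] at h3
    · have h3 : c⁻¹ * z * c ∈ ZN.o2 C ⊓ centralizer (ZN.o2 C : Set G) := by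
        have := key z hz c⁻¹ hcn'
        rwa [inv_inv] at this
      have h4 := hx.2.2 _ h3
      calc c * x * c⁻¹ * z = c * (x * (c⁻¹ * z * c)) * c⁻¹ := by group
        _ = z * (c * x * c⁻¹) := by rw [h4]; group

end chain

/-! ### `Ω₁Z(O₂(P)) ≤ Q_v` -/

local notation "cz" v:max => centralizer ({v} : Set _)
local notation "qz" v:max => ZN.o2 (centralizer ({v} : Set _))

section frame

variable {G : Type u} [Group G] [Finite G] {F : Type} [Field F] [Finite F] [CharP F 2] {S : Sylow 2 G}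
  {P : Subgroup G} {k : ℕ} {M : NatK F (S : Subgroup G) P (zl (S : Subgroup G) P) ⊥ k}

/-- `Q_v ≤ P` -/
theorem q_le_P (hP : IsParS (S : Subgroup G) P) (hC : CC M) (hF : Nat.card F = 2) {i : Fin k} {v : G}
    (hv : v ∈ fac M i) (hv1 : v ≠ 1) : qz v ≤ P := by
  obtain ⟨v₀, hv₀, hv₀1⟩ := exists_line M i
  obtain ⟨g, hg, hgv, -⟩ := exists_P_conj hP.isLoc.le (line_le M i hv₀) hv₀1 hv hv1
  intro x hx
  have h1 : g⁻¹ * x * g ∈ qz v₀ := by
    have h0 : g⁻¹ * x * g⁻¹⁻¹ ∈ qz (g⁻¹ * v * g⁻¹⁻¹) := by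
      rw [o2_cent_conj]
      exact ⟨x, hx, rfl⟩
    have e : g⁻¹ * v * g⁻¹⁻¹ = v₀ := by rw [← hgv]; group
    rwa [e, inv_inv] at h0
  have h2 : g⁻¹ * x * g ∈ P := hP.isLoc.le (stab_le M i ((o2_le_stab hP hC hF hv₀ hv₀1).1 h1))
  have e : x = g * (g⁻¹ * x * g) * g⁻¹ := by group
  rw [e]
  exact mul_mem (mul_mem hg h2) (inv_mem hg)

/-- an element of `P` which commutes with all factors centralises `Ω₁Z(O₂(P))` -/
theorem comm_zz (hc : IsCharacteristicTwoType G) (hP : IsParS (S : Subgroup G) P) {x z : G} (hx : x ∈ P)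
    (hxV : ∀ v ∈ zl (S : Subgroup G) P, x * v = v * x) (hz : z ∈ zc (o2 P)) : x * z = z * x := by
  have h1 : x ∈ P ⊓ centralizer (zl (S : Subgroup G) P : Set G) :=
    ⟨hx, mem_centralizer_iff.2 fun v hv => (hxV v hv).symm⟩
  exact (mem_centralizer_iff.1 (LFour.le_centralizer_zc_o2 hc S hP h1) z hz).symm

/-- commuting with `V` is commuting with all factors -/
theorem comm_zl {x : G} (h : ∀ l, ∀ v ∈ fac M l, x * v = v * x) {v : G} (hv : v ∈ zl (S : Subgroup G) P) :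
    x * v = v * x := by
  have h1 : (⨆ l, fac M l) ≤ centralizer ({x} : Set G) :=
    iSup_le fun l w hw => mem_cent.2 (h l w hw).symm
  exact (mem_cent.1 (h1 (fac_le_iSup M hv))).symm

/-- **`Ω₁Z(O₂(P)) ≤ Q_v`** -/
theorem zz_le_q (hc : IsCharacteristicTwoType G) (hP : IsParS (S : Subgroup G) P) (hC : CC M)
    (hF : Nat.card F = 2) (hfr : Fr (S : Subgroup G) (fac M)) {i : Fin k} {v : G}
    (hv : v ∈ fac M i) (hv1 : v ≠ 1) : zc (o2 P) ≤ qz v := by
  have hfact : Fact (Nat.Prime 2) := ⟨Nat.prime_two⟩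
  have hzn : P ≤ normalizer (zc (o2 P) : Set G) :=
    (le_normalizer_o2 P).trans (MinSimple.VModule.normalizer_le_normalizer_zc _)
  have hVz : zl (S : Subgroup G) P ≤ zc (o2 P) := hP.isLoc.zl_le S hc
  have hzab := MinSimple.VModule.zc_comm (o2 P)
  have hzsq : ∀ z ∈ zc (o2 P), z * z = 1 := fun z hz => by
    rw [← pow_two]; exact MinSimple.VModule.zc_sq _ z hz
  have hQP := q_le_P hP hC hF hv hv1
  have hlV : ∀ l, fac M l ≤ zl (S : Subgroup G) P := fac_le M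
  -- `ZZ ≤ C(v)`
  have hzC : zc (o2 P) ≤ cz v := fun z hz => mem_cent.2 (hzab z hz v (hVz (hlV i hv)))
  -- `a ∈ KK v` moves `b`
  obtain ⟨b, hb, hb1, hvb⟩ := hfr.exists_other (i := i) v
  obtain ⟨a, ha, hab⟩ := hfr.move hv hb hv1 hb1 hvb
  have haQ : a ∈ qz v := hfr.KK_le_q hv hv1 ha
  -- the action of `Q_v` on `b`
  have hbK : b ∈ KK v := zl_le_KK hP hC hF hv hv1 (hlV i hb)
  have hact : ∀ r ∈ qz v, r * b * r⁻¹ = b ∨ r * b * r⁻¹ = v * b := by
    intro r hr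
    rcases hfr.KK_act hv hbK hr with h1 | h1
    · left
      have h2 := comm_of_conj h1
      rw [← h2]; group
    · right
      -- `b r b⁻¹ = v r`
      have h2 : b * r = v * r * b := by rw [← h1]; group
      have h3 : r * v = v * r := (mem_cent.1 ((o2_le _) hr))
      have h4 : v * v = 1 := hfr.sq i v hv
      have h5 : r * b = v * (b * r) := by
        rw [h2]
        calc r * b = (v * v) * r * b := by rw [h4, one_mul]
          _ = v * (v * r * b) := by group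
      rw [h5]; group
  -- commuting with `b` gives commuting with `V`
  have hbV : ∀ r ∈ qz v, r * b = b * r → ∀ w ∈ zl (S : Subgroup G) P, r * w = w * r := by
    intro r hr hrb w hw
    refine comm_zl (M := M) (fun l x hx => ?_) hw
    by_cases hl : l = i
    · subst hl
      have h3 : r * v = v * r := (mem_cent.1 ((o2_le _) hr))
      rcases hfr.cases4 hv hb hv1 hb1 hvb hx with rfl | rfl | rfl | rfl
      · simp
      · exact h3
      · exact hrb
      · calc r * (v * b) = (r * v) * b := by group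
          _ = v * (r * b) := by rw [h3]; group
          _ = v * b * r := by rw [hrb]; group
    · exact hfr.Qc i l hl v hv hv1 r hr x hx
  have hr2 : ∀ r ∈ qz v, (∀ z ∈ zc (o2 P), r * z = z * r) ∨ ∀ z ∈ zc (o2 P), r * a * z = z * (r * a) := by
    intro r hr
    rcases hact r hr with h1 | h1
    · left
      intro z hz
      exact comm_zz hc hP (hQP hr) (hbV r hr (comm_of_conj h1)) hz
    · right
      intro z hz
      have hra : r * a ∈ qz v := mul_mem hr haQ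
      refine comm_zz hc hP (hQP hra) (hbV _ hra ?_) hz
      apply comm_of_conj
      have h3 : r * v = v * r := (mem_cent.1 ((o2_le _) hr))
      have h4 : v * v = 1 := hfr.sq i v hv
      calc r * a * b * (r * a)⁻¹ = r * (a * b * a⁻¹) * r⁻¹ := by group
        _ = (r * v) * b * r⁻¹ := by rw [hab]; group
        _ = v * (r * b * r⁻¹) := by rw [h3]; group
        _ = (v * v) * b := by rw [h1]; group
        _ = b := by rw [h4, one_mul]
  have haa : ∀ z ∈ zc (o2 P), a * a * z = z * (a * a) := by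
    intro z hz
    rcases hr2 a haQ with h1 | h1
    · calc a * a * z = a * (a * z) := by group
        _ = a * (z * a) := by rw [h1 z hz]
        _ = (a * z) * a := by group
        _ = (z * a) * a := by rw [h1 z hz]
        _ = z * (a * a) := by group
    · exact h1 z hz
  have haz : ∀ z ∈ zc (o2 P), a * z * a⁻¹ ∈ zc (o2 P) := fun z hz => conj_mem hzn (hQP haQ) hz
  -- `[a, z]` commutes with `a`
  have hat : ∀ z ∈ zc (o2 P), a * (a * z * a⁻¹ * z⁻¹) = a * z * a⁻¹ * z⁻¹ * a := by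
    intro z hz
    have h1 := haa z hz
    have h2 : a * (a * z * a⁻¹) * a⁻¹ = z := by
      calc a * (a * z * a⁻¹) * a⁻¹ = (a * a * z) * (a * a)⁻¹ := by group
        _ = z := by rw [h1]; group
    have h3 : a * (a * z * a⁻¹ * z⁻¹) * a⁻¹ = a * z * a⁻¹ * z⁻¹ := by
      have h5 : (a * z * a⁻¹)⁻¹ = a * z * a⁻¹ := inv_eq_of_mul_eq_one_left (hzsq _ (haz z hz))
      have h6 : z⁻¹ = z := inv_eq_of_mul_eq_one_left (hzsq _ hz)
      calc a * (a * z * a⁻¹ * z⁻¹) * a⁻¹ = (a * (a * z * a⁻¹) * a⁻¹) * (a * z * a⁻¹)⁻¹ := by group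
        _ = z * (a * z * a⁻¹) := by rw [h2, h5]
        _ = (a * z * a⁻¹) * z := hzab _ hz _ (haz z hz)
        _ = a * z * a⁻¹ * z⁻¹ := by rw [h6]
    exact comm_of_conj h3
  -- `[a, z] ∈ Z(Q_v)`
  have htZ : ∀ z ∈ zc (o2 P), a * z * a⁻¹ * z⁻¹ ∈ qz v ⊓ centralizer ((qz v : Subgroup G) : Set G) := by
    intro z hz
    have ht : a * z * a⁻¹ * z⁻¹ ∈ zc (o2 P) := mul_mem (haz z hz) (inv_mem hz)
    have hcen : a * z * a⁻¹ * z⁻¹ ∈ centralizer ((qz v : Subgroup G) : Set G) := by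
      rw [mem_centralizer_iff]
      intro r hr
      rcases hr2 r hr with h1 | h1
      · exact h1 _ ht
      · have h2 := h1 _ ht
        have h3 := hat z hz
        -- `r a t = t r a`, `a t = t a`
        have h4 : r * (a * z * a⁻¹ * z⁻¹) * a = a * z * a⁻¹ * z⁻¹ * r * a := by
          calc r * (a * z * a⁻¹ * z⁻¹) * a = r * (a * z * a⁻¹ * z⁻¹ * a) := by group
            _ = r * a * (a * z * a⁻¹ * z⁻¹) := by rw [← h3]; group
            _ = a * z * a⁻¹ * z⁻¹ * r * a := by rw [h2]; group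
        exact mul_right_cancel h4
    exact ⟨hfr.c2 i v hv hv1 ⟨hzC ht, hcen⟩, hcen⟩
  refine le_o2_of_chain (hfr.c2 i v hv hv1) hzC (fun z hz r hr => ?_) (fun z hz y hy => ?_)
  · rcases hr2 r hr with h1 | h1
    · have e : z * r * z⁻¹ * r⁻¹ = 1 := by rw [← h1 z hz]; group
      rw [e]
      exact one_mem _
    · have h2 := h1 z hz
      -- `z r z⁻¹ r⁻¹ = (r a) (a⁻¹ z a z⁻¹) (r a)⁻¹ .. `
      have h3 : z * r * z⁻¹ * r⁻¹ = r * (a * z * a⁻¹ * z⁻¹) * r⁻¹ := by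
        calc z * r * z⁻¹ * r⁻¹ = (z * (r * a)) * a⁻¹ * z⁻¹ * r⁻¹ := by group
          _ = r * (a * z * a⁻¹ * z⁻¹) * r⁻¹ := by rw [← h2]; group
      rw [h3]
      have h4 := htZ z hz
      have h5 : r * (a * z * a⁻¹ * z⁻¹) * r⁻¹ = a * z * a⁻¹ * z⁻¹ := by
        rw [mem_centralizer_iff.1 h4.2 r hr, mul_inv_cancel_right]
      rw [h5]
      exact h4
  · -- `y ∈ Z(Q_v)` commutes with `V ≤ Q_v`
    have h1 : ∀ w ∈ zl (S : Subgroup G) P, y * w = w * y := fun w hw => by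
      have hwQ : w ∈ qz v := hfr.KK_le_q hv hv1 (zl_le_KK hP hC hF hv hv1 hw)
      exact (mem_centralizer_iff.1 hy.2 w hwQ).symm
    exact (comm_zz hc hP (hQP hy.1) h1 hz).symm

/-- `O₂(P) ≤ N_S(V_i)` -/
theorem o2_le_stab' (hc : IsCharacteristicTwoType G) (hP : IsParS (S : Subgroup G) P) (i : Fin k) :
    o2 P ≤ stab M i := by
  have hVz : zl (S : Subgroup G) P ≤ zc (o2 P) := hP.isLoc.zl_le S hc
  refine le_inf (hP.isLoc.o2_le S) (norm_of fun x hx v hv => ?_)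
  rw [((ZN.mem_zc.1 (hVz (fac_le M i hv))).2.1 x hx), mul_inv_cancel_right]
  exact hv

/-- a subgroup `B` with `O₂(P) ≤ B ≤ P` has `Ω₁Z(B) ≤ Ω₁Z(O₂(P))` -/
theorem zc_le_zz (hc : IsCharacteristicTwoType G) (hP : IsParS (S : Subgroup G) P) {B : Subgroup G}
    (hB : o2 P ≤ B) (hBP : B ≤ P) : zc B ≤ zc (o2 P) := by
  intro x hx
  obtain ⟨h1, h2, h3⟩ := ZN.mem_zc.1 hx
  have h4 : x ∈ o2 P := IsLoc.char2 S hc hP.isLoc
    ⟨hBP h1, mem_centralizer_iff.2 fun y hy => h2 y (hB hy)⟩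
  exact ZN.mem_zc.2 ⟨h4, fun y hy => h2 y (hB hy), h3⟩

/-- the product of `V_l` and `V^l` -/
theorem exists_split (hfr : Fr (S : Subgroup G) (fac M)) (l : Fin k) {z : G} (hz : z ∈ ⨆ l, fac M l) :
    ∃ a ∈ fac M l, ∃ b ∈ Vo (fac M) l, z = a * b := by
  classical
  have h1 : (⨆ l, fac M l) ≤ fac M l ⊔ Vo (fac M) l := by
    refine iSup_le fun j => ?_
    by_cases hj : j = l
    · rw [hj]; exact le_sup_left
    · exact (le_Vo (V := fac M) hj).trans le_sup_right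
  have h2 : Vo (fac M) l ≤ normalizer (fac M l : Set G) := by
    refine norm_of fun b hb a ha => ?_
    have h3 : b * a = a * b := (cent_of_closure (x := a) (y := b) (by
      rintro y ⟨j, -, hy⟩
      exact hfr.comm l j a ha y hy) hb).symm
    rw [h3, mul_inv_cancel_right]
    exact ha
  have h3 := h1 hz
  rw [← SetLike.mem_coe, coe_mul_of_right_le_normalizer_left _ _ h2] at h3
  obtain ⟨a, ha, b, hb, rfl⟩ := h3
  exact ⟨a, ha, b, hb, rfl⟩

/-- **`C_{ZZ}(all X_l) = 1`** -/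
theorem eq_one_of_all (hP : IsParS (S : Subgroup G) P)
    (hfr : Fr (S : Subgroup G) (fac M)) {z : G} (hz : z ∈ zc (o2 P))
    (h : ∀ l, ∀ v ∈ fac M l, v ≠ 1 → ∀ g ∈ KK v, g * z = z * g) : z = 1 := by
  have hSP : (S : Subgroup G) ≤ P := hP.isLoc.le
  have hzn : P ≤ normalizer (zc (o2 P) : Set G) :=
    (le_normalizer_o2 P).trans (MinSimple.VModule.normalizer_le_normalizer_zc _)
  have hzsq : ∀ z ∈ zc (o2 P), z * z = 1 := fun z hz => by
    rw [← pow_two]; exact MinSimple.VModule.zc_sq _ z hz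
  let C0 : Subgroup G :=
    { carrier := {z | z ∈ zc (o2 P) ∧ ∀ l, ∀ v ∈ fac M l, v ≠ 1 → ∀ g ∈ KK v, g * z = z * g}
      one_mem' := ⟨one_mem _, fun _ _ _ _ g _ => by rw [mul_one, one_mul]⟩
      mul_mem' := fun {a b} ha hb => ⟨mul_mem ha.1 hb.1, fun l v hv hv1 g hg => by
        rw [← mul_assoc, ha.2 l v hv hv1 g hg, mul_assoc, hb.2 l v hv hv1 g hg, mul_assoc]⟩
      inv_mem' := fun {a} ha => ⟨inv_mem ha.1, fun l v hv hv1 g hg => by
        have := ha.2 l v hv hv1 g hg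
        rw [eq_comm, inv_mul_eq_iff_eq_mul, ← mul_assoc, ← this, mul_inv_cancel_right]⟩ }
  by_contra hz1
  have hne : C0 ≠ ⊥ := fun h0 => hz1 (by
    have h1 : z ∈ C0 := ⟨hz, h⟩
    rwa [h0, mem_bot] at h1)
  have hS : (S : Subgroup G) ≤ normalizer (C0 : Set G) := by
    refine norm_of fun s hs y hy => ?_
    refine ⟨conj_mem hzn (hSP hs) hy.1, fun l v hv hv1 g hg => ?_⟩
    obtain ⟨j, hj⟩ := hfr.perm s⁻¹ (inv_mem hs) l
    have h1 : s⁻¹ * v * s ∈ fac M j := by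
      have := (hj v).1 hv
      rwa [inv_inv] at this
    have h2 : s⁻¹ * v * s ≠ 1 := fun h0 => hv1 (by
      calc v = s * (s⁻¹ * v * s) * s⁻¹ := by group
        _ = 1 := by rw [h0]; group)
    have h3 : s⁻¹ * g * s ∈ KK (s⁻¹ * v * s) := by
      have := KK_conj (h := s⁻¹) hg
      rwa [inv_inv] at this
    have h4 := hy.2 j _ h1 h2 _ h3
    calc g * (s * y * s⁻¹) = s * ((s⁻¹ * g * s) * y) * s⁻¹ := by group
      _ = s * y * s⁻¹ * g := by rw [h4]; group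
  obtain ⟨x, hx, hx1, hxS⟩ := Half.exists_fixed
    (isPGroup_of_sq (A := C0) fun y (hy : y ∈ zc (o2 P) ∧ _) => hzsq y hy.1) hne hfr.S2 hS
  have hxz : x ∈ zc (S : Subgroup G) := ZN.mem_zc.2 ⟨hP.isLoc.o2_le S (zc_le _ hx.1), fun t ht =>
    comm_of_conj (hxS t ht), by rw [pow_two]; exact hzsq x hx.1⟩
  -- all components are trivial
  have hxV : x ∈ ⨆ l, fac M l := hfr.zS hxz
  have hcomp : ∀ l, x ∈ Vo (fac M) l := by
    intro l
    obtain ⟨a, ha, b, hb, hab⟩ := exists_split hfr l hxV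
    by_cases ha1 : a = 1
    · rw [hab, ha1, one_mul]
      exact hb
    exfalso
    obtain ⟨v, hv, hv1, hav⟩ := hfr.exists_other (i := l) a
    obtain ⟨g, hg, hga⟩ := hfr.move hv ha hv1 ha1 (Ne.symm hav)
    have h1 := hx.2 l v hv hv1 g hg
    have h2 : g * b = b * g := hfr.Vo_cent hv hv1 hb (hfr.KK_le_q hv hv1 hg)
    have h3 : g * a * g⁻¹ = a := by
      have h4 : g * (a * b) = a * b * g := by rw [← hab]; exact h1
      have h5 : g * a * b = a * g * b := by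
        calc g * a * b = g * (a * b) := by group
          _ = a * (b * g) := by rw [h4]; group
          _ = a * g * b := by rw [← h2]; group
      have h6 := mul_right_cancel h5
      rw [h6, mul_inv_cancel_right]
    rw [h3] at hga
    exact hv1 (mul_eq_right.1 hga.symm)
  have hxl : x ∈ zl (S : Subgroup G) P := (iSup_le fun l => fac_le M l : (⨆ l, fac M l) ≤ _) hxV
  refine hx1 ((e_eq_zero M hxl).1 (funext fun l => ?_))
  have h1 : Vo (fac M) l ≤ part M {l}ᶜ :=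
    Vo_le fun j hj => part_mono M (Set.singleton_subset_iff.2 hj)
  exact (h1 (hcomp l)).2 l (fun h => h rfl)

/-! ### CASE 1 -/

/-- WrBig, `q = 2`, CASE 1: `T = N_S(V_i)` is a Sylow 2-subgroup of `C_G(v_i)`. -/
structure Sit (M : NatK F (S : Subgroup G) P (zl (S : Subgroup G) P) ⊥ k) (i : Fin k) : Prop where
  c2 : IsCharacteristicTwoType G
  par : IsParS (S : Subgroup G) P
  cc : CC M
  two : Nat.card F = 2
  k2 : 2 < k
  fr : Fr (S : Subgroup G) (fac M)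
  odd : ¬ 2 ∣ (stab M i).relIndex (normalizer (line M i : Set G))

namespace Sit

variable {i : Fin k} (h : Sit M i)
include h

theorem SP : (S : Subgroup G) ≤ P := h.par.isLoc.le

theorem T2 : IsPGroup 2 (stab M i) := S.isPGroup'.to_le (stab_le M i)

theorem TP : stab M i ≤ P := (stab_le M i).trans h.SP

theorem zc_le : zc (stab M i) ≤ zc (o2 P) := zc_le_zz h.c2 h.par (o2_le_stab' h.c2 h.par i) h.TP

theorem zz_q {l : Fin k} {v : G} (hv : v ∈ fac M l) (hv1 : v ≠ 1) : zc (o2 P) ≤ qz v :=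
  zz_le_q h.c2 h.par h.cc h.two h.fr hv hv1

theorem norm_line {v : G} (hv : v ∈ line M i) (hv1 : v ≠ 1) :
    normalizer (line M i : Set G) = cz v := normalizer_line_eq M h.two hv hv1

/-- `X_l ≤ N(line M i)` for `l ≠ i` -/
theorem KK_le_norm {l : Fin k} (hl : l ≠ i) {v : G} (hv : v ∈ fac M l) (hv1 : v ≠ 1) :
    KK v ≤ normalizer (line M i : Set G) := by
  obtain ⟨w, hw, hw1⟩ := exists_line M i
  rw [h.norm_line hw hw1]
  exact h.fr.KK_le hl.symm hv hv1 (line_le M i hw)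

/-- `1 ≠ e ∈ Ω₁Z(T)` centralised by `X_i`: some `V_l`, `l ≠ i`, lies in every subgroup which contains `e` and is
normalised by `N(line M i)`. -/
theorem exists_le {e : G} (he : e ∈ zc (o2 P)) (he1 : e ≠ 1)
    (hX : ∀ v ∈ fac M i, v ≠ 1 → ∀ g ∈ KK v, g * e = e * g) :
    ∃ l, l ≠ i ∧ ∀ Λ : Subgroup G, normalizer (line M i : Set G) ≤ normalizer (Λ : Set G) → e ∈ Λ →
      fac M l ≤ Λ := by
  by_contra hcon
  apply he1
  refine eq_one_of_all h.par h.fr he fun l v hv hv1 g hg => ?_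
  by_cases hl : l = i
  · subst hl
    exact hX v hv hv1 g hg
  by_contra hge
  refine hcon ⟨l, hl, fun Λ hΛ heΛ => ?_⟩
  have hv' : v ∈ Λ := by
    have h1 : g * e * g⁻¹ ∈ Λ := conj_mem hΛ (h.KK_le_norm hl hv hv1 hg) heΛ
    rcases h.fr.KK_act hv hg (h.zz_q hv hv1 he) with h2 | h2
    · exact (hge (comm_of_conj h2)).elim
    · rw [h2] at h1
      exact (mul_mem_cancel_right heΛ).1 h1
  intro w hw
  by_cases hw1 : w = 1
  · rw [hw1]; exact one_mem _
  by_cases hwv : w = v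
  · rw [hwv]; exact hv'
  obtain ⟨g', hg', h3⟩ := h.fr.move hw hv hw1 hv1 hwv
  have h4 : g' * v * g'⁻¹ ∈ Λ := conj_mem hΛ (h.KK_le_norm hl hw hw1 hg') hv'
  rw [h3] at h4
  exact (mul_mem_cancel_right hv').1 h4

/-- **(OT)** of #17249: `O₂(H)` centralises `V_i` for every `H ≥ ⟨T, D⟩`, `D ≤ N(V_i)` transitive on `V_i#`. -/
theorem ot {H D : Subgroup G} (hTH : stab M i ≤ H) (hDH : D ≤ H) (hDV : D ≤ normalizer (fac M i : Set G))
    (hD : ∀ v ∈ fac M i, ∀ w ∈ fac M i, v ≠ 1 → w ≠ 1 → ∃ d ∈ D, d * v * d⁻¹ = w) :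
    ZN.o2 H ≤ centralizer (fac M i : Set G) := by
  have hfact : Fact (Nat.Prime 2) := ⟨Nat.prime_two⟩
  obtain ⟨v, hv, hv1⟩ := exists_line M i
  have hvi := line_le M i hv
  have hO2 : IsPGroup 2 (ZN.o2 H) := o2_isPGroup H
  have hHO := le_normalizer_o2 H
  -- `O ∩ N(V_i)` centralises `V_i`
  have hVT : fac M i ≤ stab M i :=
    ((fac_le M i).trans (h.par.isLoc.zl_le S h.c2)).trans ((MinSimple.VModule.zc_le _).trans
      (o2_le_stab' h.c2 h.par i))
  have hN : ZN.o2 H ⊓ normalizer (fac M i : Set G) ≤ centralizer (fac M i : Set G) := by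
    set N := ZN.o2 H ⊓ normalizer (fac M i : Set G) with hNdef
    have hN2 : IsPGroup 2 N := hO2.to_le inf_le_left
    have hDN : D ≤ normalizer (N : Set G) := by
      refine norm_of fun d hd x hx => ⟨conj_mem hHO (hDH hd) hx.1, ?_⟩
      exact mul_mem (mul_mem (hDV hd) hx.2) ((normalizer (fac M i : Set G)).inv_mem (hDV hd))
    have hV2 : IsPGroup 2 (fac M i) := isPGroup_of_sq fun x hx => h.fr.sq i x hx
    have hne : fac M i ≠ ⊥ := fun h0 => hv1 (by rwa [h0, mem_bot] at hvi)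
    obtain ⟨w, hw, hw1, hwN⟩ := Half.exists_fixed hV2 hne hN2 inf_le_right
    intro x hx
    rw [mem_centralizer_iff]
    intro u hu
    by_cases hu1 : u = 1
    · rw [hu1, one_mul, mul_one]
    obtain ⟨d, hd, hdu⟩ := hD w hw u hu hw1 hu1
    have h1 : d⁻¹ * x * d ∈ N := by
      have := conj_mem hDN (inv_mem hd) hx
      rwa [inv_inv] at this
    have h2 := comm_of_conj (hwN _ h1)
    rw [← hdu]
    calc d * w * d⁻¹ * x = d * (w * (d⁻¹ * x * d)) * d⁻¹ := by group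
      _ = x * (d * w * d⁻¹) := by rw [← h2]; group
  -- `O_0 := O ∩ C(v)` is contained in `T` and centralises `V_i`
  set O₀ := ZN.o2 H ⊓ centralizer (fac M i : Set G) with hO₀
  have hTn : stab M i ≤ normalizer (fac M i : Set G) := stab_normalizes M i
  have hTO₀ : stab M i ≤ normalizer (O₀ : Set G) := by
    refine norm_of fun t ht x hx => ⟨conj_mem hHO (hTH ht) hx.1, ?_⟩
    exact (mem_normalizer_iff.1 (BTwo.normalizer_le_normalizer_centralizer _ (hTn ht)) x).1 hx.2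
  have hT0 : ∀ x ∈ ZN.o2 H, x * v = v * x → x ∈ O₀ ∧ x ∈ stab M i := by
    have hE2 : IsPGroup 2 (ZN.o2 H ⊓ cz v : Subgroup G) := hO2.to_le inf_le_left
    have hTv : stab M i ≤ cz v := fun t ht => mem_cent.2 (stab_comm_line M h.SP h.two hv ht)
    have hTE : stab M i ≤ normalizer ((ZN.o2 H ⊓ cz v : Subgroup G) : Set G) := by
      refine norm_of fun t ht x hx => ⟨conj_mem hHO (hTH ht) hx.1, ?_⟩
      exact mul_mem (mul_mem (hTv ht) hx.2) ((cz v).inv_mem (hTv ht))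
    have hle : ZN.o2 H ⊓ cz v ≤ stab M i := by
      refine HT.LemE.le_of_odd h.T2 hTv ?_ hE2 inf_le_right hTE
      rw [← h.norm_line hv hv1]
      exact h.odd
    intro x hx hxv
    have h1 : x ∈ stab M i := hle ⟨hx, mem_cent.2 hxv⟩
    exact ⟨⟨hx, hN ⟨hx, hTn h1⟩⟩, h1⟩
  have hO₀T : O₀ ≤ stab M i := fun x hx => (hT0 x hx.1 (mem_centralizer_iff.1 hx.2 v hvi).symm).2
  -- suppose `O > O_0`
  by_contra hcon
  have hlt : O₀ < ZN.o2 H := by
    refine lt_of_le_of_ne inf_le_left fun e => hcon ?_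
    rw [← e]
    exact inf_le_right
  have hlt2 := Lib.GoldschmidtFusion.lt_inf_normalizer hO2 hlt
  obtain ⟨w, hw, hwO₀, hwT⟩ := SideOf.exists_fixed_mod (T := stab M i) (not_le_of_gt hlt2) inf_le_right
    (hO2.to_le inf_le_left) h.T2 hTO₀ (norm_of fun t ht x hx =>
      ⟨conj_mem hHO (hTH ht) hx.1, mul_mem (mul_mem (hTO₀ ht) hx.2)
        ((normalizer (O₀ : Set G)).inv_mem (hTO₀ ht))⟩)
  have hwn : w ∈ normalizer (O₀ : Set G) := hw.2
  have hwn' : ∀ x ∈ O₀, w⁻¹ * x * w ∈ O₀ := fun x hx => by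
    have := (mem_normalizer_iff.1 (inv_mem hwn) x).1 hx
    rwa [inv_inv] at this
  -- `T_* := C_T(V_i)`
  set Ts := stab M i ⊓ centralizer (fac M i : Set G) with hTs
  have hO₀Ts : O₀ ≤ Ts := le_inf hO₀T inf_le_right
  have hPTs : o2 P ≤ Ts := by
    refine le_inf (o2_le_stab' h.c2 h.par i) fun x hx => mem_centralizer_iff.2 fun u hu => ?_
    exact ((ZN.mem_zc.1 (h.par.isLoc.zl_le S h.c2 (fac_le M i hu))).2.1 x hx).symm
  have hTsw : ∀ t ∈ Ts, w⁻¹ * t * w ∈ Ts := by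
    intro t ht
    have h1 : t⁻¹ * w * t * w⁻¹ ∈ O₀ := by
      have := hwT t⁻¹ (inv_mem ht.1)
      rwa [inv_inv] at this
    have h2 := hwn' _ h1
    have e : w⁻¹ * t * w = t * (w⁻¹ * (t⁻¹ * w * t * w⁻¹) * w)⁻¹ := by group
    rw [e]
    exact mul_mem ht (inv_mem (hO₀Ts h2))
  have hTsw' : ∀ t ∈ Ts, w * t * w⁻¹ ∈ Ts := by
    intro t ht
    have h1 := hwT t ht.1
    have e : w * t * w⁻¹ = (t * w * t⁻¹ * w⁻¹)⁻¹ * t := by group
    rw [e]
    exact mul_mem (inv_mem (hO₀Ts h1)) ht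
  have hVTs : fac M i ≤ Ts := le_inf hVT fun x hx => mem_centralizer_iff.2 fun u hu => h.fr.comm i i u hu x hx
  -- `V_i^w ≤ ZZ`
  have hwV : ∀ b ∈ fac M i, w * b * w⁻¹ ∈ zc (o2 P) := by
    intro b hb
    refine zc_le_zz h.c2 h.par hPTs (inf_le_left.trans h.TP) (ZN.mem_zc.2 ⟨hTsw' b (hVTs hb), fun t ht => ?_, ?_⟩)
    · have h1 := mem_centralizer_iff.1 (hTsw t ht).2 b hb
      calc t * (w * b * w⁻¹) = w * ((w⁻¹ * t * w) * b) * w⁻¹ := by group
        _ = w * b * w⁻¹ * t := by rw [← h1]; group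
    · rw [pow_two]
      calc w * b * w⁻¹ * (w * b * w⁻¹) = w * (b * b) * w⁻¹ := by group
        _ = 1 := by rw [h.fr.sq i b hb]; group
  obtain ⟨b, hb, hb1, hvb⟩ := h.fr.exists_other (i := i) v
  obtain ⟨a, ha, hab⟩ := h.fr.move hvi hb hv1 hb1 hvb
  have haT : a ∈ stab M i := (o2_le_stab h.par h.cc h.two hv hv1).1 (h.fr.KK_le_q hvi hv1 ha)
  have ho : w * a * w⁻¹ * a⁻¹ ∈ O₀ := by
    have h1 := inv_mem (hwT a haT)
    have e : (a * w * a⁻¹ * w⁻¹)⁻¹ = w * a * w⁻¹ * a⁻¹ := by group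
    rwa [e] at h1
  have hOy : ∀ o ∈ O₀, o * (w * b * w⁻¹) = w * b * w⁻¹ * o := by
    intro o ho
    have h1 := mem_centralizer_iff.1 (hwn' o ho).2 b hb
    calc o * (w * b * w⁻¹) = w * ((w⁻¹ * o * w) * b) * w⁻¹ := by group
      _ = w * b * w⁻¹ * o := by rw [← h1]; group
  have hOv : ∀ o ∈ O₀, o * v = v * o := fun o ho => (mem_centralizer_iff.1 ho.2 v hvi).symm
  have key : w * v * w⁻¹ = (w * a * w⁻¹ * a⁻¹) * (a * (w * b * w⁻¹) * a⁻¹) * (w * a * w⁻¹ * a⁻¹)⁻¹ *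
      (w * b * w⁻¹)⁻¹ := by
    have e : v = a * b * a⁻¹ * b⁻¹ := by rw [hab, mul_inv_cancel_right]
    calc w * v * w⁻¹ = w * (a * b * a⁻¹ * b⁻¹) * w⁻¹ := by rw [← e]
      _ = _ := by group
  rcases h.fr.KK_act hvi ha (h.zz_q hvi hv1 (hwV b hb)) with h1 | h1
  · rw [h1, hOy _ ho, mul_inv_cancel_right, mul_inv_cancel] at key
    exact hv1 (by
      calc v = w⁻¹ * (w * v * w⁻¹) * w := by group
        _ = 1 := by rw [key]; group)
  · rw [h1] at key
    have h2 : (w * a * w⁻¹ * a⁻¹) * (v * (w * b * w⁻¹)) = v * (w * b * w⁻¹) * (w * a * w⁻¹ * a⁻¹) := by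
      calc (w * a * w⁻¹ * a⁻¹) * (v * (w * b * w⁻¹)) = ((w * a * w⁻¹ * a⁻¹) * v) * (w * b * w⁻¹) := by group
        _ = v * ((w * a * w⁻¹ * a⁻¹) * (w * b * w⁻¹)) := by rw [hOv _ ho]; group
        _ = _ := by rw [hOy _ ho]; group
    rw [h2, mul_inv_cancel_right, mul_inv_cancel_right] at key
    exact hwO₀ (hT0 w hw.1 (comm_of_conj key)).1

end Sit

end frame

end Cfsg.Agent.Omega.IId.Big.Syl

end

section


/-!
# CvBig, `q = 2`, CASE 1: the frame over `T = stab M i`, `V_P = V_1 × .. × V_k × D`, `D` arbitrary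

`M : NatD F S P V D k`, `|F| = 2`.

* `CCD M` : THEOREM C with `D` (bb OMEGA 19448, helper653): `O₂(C_G(v)) ≤ S` centralises the factors `V_l`, `l ≠ i`,
  for the points `v` of `line M i`;
* `Sit0 M i` : `CCD M` and `W_v` moves `V_l` for all points `v ∈ V_l` (`Sit0.of_unm` : if `V_i` is unmixed);
* `Sit M i` : CASE 1: moreover `V_i` is unmixed and `T = stab M i` is a Sylow 2-subgroup of `N_G(line M i)`;
* `Sit0.fr` : 428's frame `Fr (⨆ V_l) (V_l)`;
* `Sit0.zz_q` : `Ω₁Z(O₂(P)) ≤ O₂(C_G(v))` for all points `v`;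
* `Sit.ot` : (OT).
-/

set_option autoImplicit false
set_option linter.unusedSectionVars false

namespace Cfsg.Agent.Omega.IId.NV.BigD

open Subgroup Pointwise Cfsg Cfsg.Agent.ZN Cfsg.Agent.ZN.ChoiceBase
open Cfsg.Agent.Omega.MinPar Cfsg.Agent.Omega.FFThm
open Cfsg.Agent.MinSimple.VModule (o2_isPGroup)
open Cfsg.Agent.Omega.IId.NV
open Cfsg.Agent.Omega.IId.Big (Fr Vo conj_mem norm_of comm_of_conj conj_of_comm isPGroup_of_sq le_Vo Vo_le
  cent_of_closure)
open Triangle (KK KK_conj KK_le_o2 mem_cent mem_KK mem_zpowers_iff_of_sq cent_conj o2_cent_conj)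

universe u

local notation "cz" v:max => centralizer ({v} : Set _)
local notation "qz" v:max => ZN.o2 (centralizer ({v} : Set _))

section basics

variable {G : Type u} [Group G] [Finite G] {F : Type} [Field F] [Finite F] [CharP F 2] {S : Sylow 2 G}
  {P V D : Subgroup G} {k : ℕ} (M : NatD F S P V D k)

/-- THEOREM C with `D`: `O₂(C_G(v)) ≤ S` centralises `V_l`, `l ≠ i`, for `1 ≠ v ∈ line M i`. -/
def CCD : Prop :=
  ∀ i, ∀ v ∈ line M.toNatV i, v ≠ 1 → qz v ≤ (S : Subgroup G) ∧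
    ∀ l, l ≠ i → ∀ q ∈ qz v, ∀ x ∈ fac M.toNatV l, q * x = x * q

theorem exists_line (i : Fin k) : ∃ v ∈ line M.toNatV i, v ≠ 1 :=
  (Subgroup.bot_or_exists_ne_one _).resolve_left (line_ne_bot' (M := M.toNatV) i)

variable {M}

theorem eq_of_line (hF : Nat.card F = 2) {i : Fin k} {v w : G} (hv : v ∈ line M.toNatV i) (hv1 : v ≠ 1)
    (hw : w ∈ line M.toNatV i) : w = 1 ∨ w = v := by
  have hc : Nat.card (line M.toNatV i) = 2 := by rw [card_line, hF]
  exact Two.eq_or_eq_of_card_two hc hv hv1 hw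

theorem cj_ne_one {g v : G} (hv : v ≠ 1) : g * v * g⁻¹ ≠ 1 := fun h0 => hv (by
  calc v = g⁻¹ * (g * v * g⁻¹) * g := by group
    _ = 1 := by rw [h0]; group)

theorem stab_comm_line (hF : Nat.card F = 2) {i : Fin k} {v t : G} (hv : v ∈ line M.toNatV i)
    (ht : t ∈ stab M.toNatV i) : t * v = v * t := by
  by_cases hv1 : v = 1
  · rw [hv1, mul_one, one_mul]
  have h1 : t * v * t⁻¹ ∈ line M.toNatV i :=
    (mem_normalizer_iff.1 (stab_normalizes_line M.toNatV (SP M) i ht) v).1 hv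
  exact comm_of_conj ((eq_of_line hF hv hv1 h1).resolve_left (cj_ne_one hv1))

theorem normalizer_line_eq (hF : Nat.card F = 2) {i : Fin k} {v : G} (hv : v ∈ line M.toNatV i)
    (hv1 : v ≠ 1) : normalizer (line M.toNatV i : Set G) = cz v := by
  apply le_antisymm
  · intro g hg
    have h1 := (mem_normalizer_iff.1 hg v).1 hv
    exact mem_cent.2 (comm_of_conj ((eq_of_line hF hv hv1 h1).resolve_left (cj_ne_one hv1)))
  · intro g hg
    refine centralizer_le_normalizer _ (mem_centralizer_iff.2 fun y hy => ?_)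
    rcases eq_of_line hF hv hv1 hy with h1 | h1
    · rw [h1, one_mul, mul_one]
    · rw [h1]; exact (mem_cent.1 hg).symm

/-- `O₂(C_G(v)) ≤ N_S(V_i)`, it normalises all factors -/
theorem qz_le_stab (hC : CCD M) {i : Fin k} {v : G} (hv : v ∈ line M.toNatV i) (hv1 : v ≠ 1) :
    qz v ≤ stab M.toNatV i ∧ ∀ l, qz v ≤ normalizer (fac M.toNatV l : Set G) := by
  obtain ⟨h1, h2⟩ := hC i v hv hv1
  have h3 : ∀ l, l ≠ i → qz v ≤ normalizer (fac M.toNatV l : Set G) := fun l hl q hq =>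
    centralizer_le_normalizer _ (mem_centralizer_iff.2 fun x hx => (h2 l hl q hq x hx).symm)
  have h4 : ∀ l, qz v ≤ normalizer (fac M.toNatV l : Set G) := by
    intro l q hq
    by_cases hl : l = i
    · subst hl
      have hqP : q ∈ P := SP M (h1 hq)
      rw [mem_normalizer_fac_iff M.toNatV hqP]
      by_contra hne
      -- the image of `l` is fixed
      have h5 := (mem_normalizer_fac_iff M.toNatV hqP).1 (h3 _ hne hq)
      exact hne ((sg M.toNatV hqP).injective h5)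
    · exact h3 l hl hq
  exact ⟨le_inf h1 (h4 i), h4⟩

include M in
theorem D_comm' {x d : G} (hx : x ∈ P) (hd : d ∈ D) : x * d = d * x :=
  (mem_centralizer_iff.1 (M.cD hx) d hd).symm

theorem V_le_iSup : V ≤ ⨆ l, fac M.toNatV l := by
  classical
  have key : ∀ s : Finset (Fin k), part M.toNatV (s : Set (Fin k)) ≤ ⨆ l, fac M.toNatV l := by
    intro s
    induction s using Finset.induction_on with
    | empty => rw [Finset.coe_empty, part_empty]; exact bot_le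
    | insert a t hat ih =>
      intro v hv
      obtain ⟨x, hx, hxa⟩ := exists_fac M.toNatV a (M.e v a)
      have h1 : v * x⁻¹ ∈ part M.toNatV (t : Set (Fin k)) := by
        refine (mem_part _).2 ⟨mul_mem hv.1 (inv_mem hx.1), fun j hj => ?_⟩
        rw [M.mul _ hv.1 _ (inv_mem hx.1), e_inv M.toNatV hx.1, Pi.add_apply, Pi.neg_apply]
        by_cases hja : j = a
        · rw [hja, hxa]; simp
        · have h2 := ((mem_part _).1 hv).2 j (by
            rw [Finset.coe_insert]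
            rintro (h | h)
            · exact hja h
            · exact hj h)
          rw [h2, hx.2 j hja]; simp
      have h3 : v = v * x⁻¹ * x := by group
      rw [h3]
      exact mul_mem (ih h1) ((le_iSup (fun l => fac M.toNatV l) a) hx)
  have h := key Finset.univ
  rwa [Finset.coe_univ, part_univ] at h

/-- `V ≤ KK v`, `1 ≠ v ∈ line M i` -/
theorem V_le_KK_line (hC : CCD M) (hF : Nat.card F = 2) {i : Fin k} {v : G} (hv : v ∈ line M.toNatV i)
    (hv1 : v ≠ 1) : V ≤ KK v := by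
  refine (V_le_iSup (M := M)).trans (iSup_le fun l a ha => ?_)
  refine mem_KK.2 ⟨NV.comm M.toNatV ha.1 (line_le _ i hv).1, fun x hx => ?_⟩
  by_cases hl : l = i
  · subst hl
    have hxs := (qz_le_stab hC hv hv1).1 hx
    have h1 : x * a * x⁻¹ * a⁻¹ ∈ line M.toNatV l := by
      obtain ⟨n, hn⟩ := S.isPGroup' ⟨x, hxs.1⟩
      refine comm_line M.toNatV (SP M) hxs ⟨n, congrArg Subtype.val hn⟩
        (fun r hr => stab_comm_line hF hr hxs) ha
    have e : a * x * a⁻¹ * x⁻¹ = (x * a * x⁻¹ * a⁻¹)⁻¹ := by group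
    rw [e]
    rcases eq_of_line hF hv hv1 h1 with h2 | h2
    · rw [h2, inv_one]; exact one_mem _
    · rw [h2]; exact inv_mem (mem_zpowers v)
  · have h1 := (hC i v hv hv1).2 l hl x hx a ha
    have h2 : a * x * a⁻¹ * x⁻¹ = 1 := by rw [← h1]; group
    rw [h2]
    exact one_mem _

theorem zl_le_KK_line (hC : CCD M) (hF : Nat.card F = 2) {i : Fin k} {v : G} (hv : v ∈ line M.toNatV i)
    (hv1 : v ≠ 1) : zl (S : Subgroup G) P ≤ KK v := by
  intro x hx
  obtain ⟨n, hn, d, hd, rfl⟩ := M.dec x hx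
  refine mul_mem (V_le_KK_line hC hF hv hv1 hn) (mem_KK.2 ⟨?_, fun q hq => ?_⟩)
  · exact (D_comm' (M := M) (SP M (V_le_S M (line_le _ i hv).1)) hd).symm
  · have h1 := D_comm' (M := M) (SP M ((hC i v hv hv1).1 hq)) hd
    have h2 : d * q * d⁻¹ * q⁻¹ = 1 := by rw [← h1]; group
    rw [h2]
    exact one_mem _

/-- the conjugacy of all points of all factors under `P` -/
theorem exists_P_conj {i j : Fin k} {v w : G} (hv : v ∈ fac M.toNatV i) (hv1 : v ≠ 1)
    (hw : w ∈ fac M.toNatV j) (hw1 : w ≠ 1) :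
    ∃ g ∈ P, g * v * g⁻¹ = w ∧ (∀ x, x ∈ fac M.toNatV i ↔ g * x * g⁻¹ ∈ fac M.toNatV j) ∧
      ∀ l, ∃ m, (l ≠ i → m ≠ j) ∧ ∀ x, x ∈ fac M.toNatV l ↔ g * x * g⁻¹ ∈ fac M.toNatV m := by
  obtain ⟨s, hs, h1⟩ := exists_trans M.toNatV (SP M) i j
  have hsP := SP M hs
  have h2 : s * v * s⁻¹ ∈ fac M.toNatV j := by
    rw [← h1, mem_cj_iff]
    have e : s⁻¹ * (s * v * s⁻¹) * s = v := by group
    rwa [e]
  obtain ⟨g, hg, hgw⟩ := exists_grp M.toNatV h2 hw (cj_ne_one hv1) hw1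
  have hgP := grp_le _ _ hg
  have hgs : g * s ∈ P := mul_mem hgP hsP
  have key : ∀ l x, x ∈ fac M.toNatV l ↔ g * s * x * (g * s)⁻¹ ∈ fac M.toNatV (sg M.toNatV hgs l) := by
    intro l x
    rw [← conj_fac M.toNatV hgs l, mem_cj_iff]
    have e : (g * s)⁻¹ * (g * s * x * (g * s)⁻¹) * (g * s) = x := by group
    rw [e]
  have e1 : sg M.toNatV hgs i = j := by
    rw [sg_eq_iff]
    have h5 : cj g (fac M.toNatV j) = fac M.toNatV j :=
      cj_eq_of_mem_normalizer (grp_normalizes M.toNatV {j} {j} hg)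
    have h6 : cj (g * s) (fac M.toNatV i) = cj g (cj s (fac M.toNatV i)) := by
      ext x
      rw [mem_cj_iff, mem_cj_iff, mem_cj_iff]
      have e : (g * s)⁻¹ * x * (g * s) = s⁻¹ * (g⁻¹ * x * g) * s := by group
      rw [e]
    rw [h6, h1, h5]
  refine ⟨g * s, hgs, by rw [← hgw]; group, fun x => by rw [key i x, e1], fun l => ⟨_, fun hl h => hl ?_, key l⟩⟩
  exact (sg M.toNatV hgs).injective (h.trans e1.symm)

theorem zl_le_KK (hC : CCD M) (hF : Nat.card F = 2) {i : Fin k} {v : G} (hv : v ∈ fac M.toNatV i)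
    (hv1 : v ≠ 1) : zl (S : Subgroup G) P ≤ KK v := by
  obtain ⟨v₀, hv₀, hv₀1⟩ := exists_line M i
  obtain ⟨g, hg, hgv, -⟩ := exists_P_conj (line_le _ i hv₀) hv₀1 hv hv1
  intro x hx
  have h0 : g⁻¹ * x * g ∈ zl (S : Subgroup G) P := by
    have := conj_mem (le_normalizer_zl (S : Subgroup G) P) (inv_mem hg) hx
    rwa [inv_inv] at this
  have h1 := zl_le_KK_line hC hF hv₀ hv₀1 h0
  have h2 := KK_conj (h := g) h1
  have e : g * (g⁻¹ * x * g) * g⁻¹ = x := by group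
  rwa [hgv, e] at h2

/-- `Q_v ≤ P`, all points `v` -/
theorem q_le_P (hC : CCD M) {i : Fin k} {v : G} (hv : v ∈ fac M.toNatV i) (hv1 : v ≠ 1) : qz v ≤ P := by
  obtain ⟨v₀, hv₀, hv₀1⟩ := exists_line M i
  obtain ⟨g, hg, hgv, -⟩ := exists_P_conj (line_le _ i hv₀) hv₀1 hv hv1
  intro x hx
  have h1 : g⁻¹ * x * g ∈ qz v₀ := by
    have h0 : g⁻¹ * x * g⁻¹⁻¹ ∈ qz (g⁻¹ * v * g⁻¹⁻¹) := by
      rw [o2_cent_conj]
      exact ⟨x, hx, rfl⟩
    have e : g⁻¹ * v * g⁻¹⁻¹ = v₀ := by rw [← hgv]; group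
    rwa [e, inv_inv] at h0
  have h2 : g⁻¹ * x * g ∈ P := SP M ((hC i v₀ hv₀ hv₀1).1 h1)
  have e : x = g * (g⁻¹ * x * g) * g⁻¹ := by group
  rw [e]
  exact mul_mem (mul_mem hg h2) (inv_mem hg)

/-- THEOREM C at all points -/
theorem qz_comm (hC : CCD M) {i j : Fin k} (hij : j ≠ i) {v q x : G} (hv : v ∈ fac M.toNatV i)
    (hv1 : v ≠ 1) (hq : q ∈ qz v) (hx : x ∈ fac M.toNatV j) : q * x = x * q := by
  obtain ⟨v₀, hv₀, hv₀1⟩ := exists_line M i
  obtain ⟨g, hg, hgv, hgi, hgl⟩ := exists_P_conj hv hv1 (line_le _ i hv₀) hv₀1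
  obtain ⟨m, hm, hmx⟩ := hgl j
  have h1 : g * q * g⁻¹ ∈ qz v₀ := by
    have h0 : g * q * g⁻¹ ∈ qz (g * v * g⁻¹) := by
      rw [o2_cent_conj]
      exact ⟨q, hq, rfl⟩
    rwa [hgv] at h0
  have h3 := (hC i v₀ hv₀ hv₀1).2 m (hm hij) _ h1 _ ((hmx x).1 hx)
  calc q * x = g⁻¹ * (g * q * g⁻¹ * (g * x * g⁻¹)) * g := by group
    _ = x * q := by rw [h3]; group

variable (M) in
/-- `D^` : the elements of `Ω₁Z(O₂(P))` centralised by all `W_v` -/
def Cen (e : G) : Prop :=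
  e ∈ zc (o2 P) ∧ ∀ l, ∀ v ∈ fac M.toNatV l, v ≠ 1 → ∀ g ∈ KK v, g * e = e * g

end basics

/-- `V_i` is unmixed -/
def Unm {G : Type u} [Group G] [Finite G] {F : Type} [Field F] [Finite F] [CharP F 2] {S : Sylow 2 G}
    {P V D : Subgroup G} {k : ℕ} (M : NatD F S P V D k) (i : Fin k) : Prop :=
  ∃ g ∈ normalizer (line M.toNatV i : Set G), ∃ v ∈ fac M.toNatV i, ∃ w ∈ fac M.toNatV i,
    v * (g * w * g⁻¹) ≠ g * w * g⁻¹ * v

/-- CvBig, `q = 2` (no Sylow hypothesis): `W_v` moves `V_l` for all points `v ∈ V_l` (mixed or unmixed). -/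
structure Sit0 {G : Type u} [Group G] [Finite G] {F : Type} [Field F] [Finite F] [CharP F 2] {S : Sylow 2 G}
    {P V D : Subgroup G} {k : ℕ} (M : NatD F S P V D k) (i : Fin k) : Prop where
  two : Nat.card F = 2
  k2 : 2 ≤ k
  cc : CCD M
  WV : ∀ l, ∀ v ∈ fac M.toNatV l, v ≠ 1 → ∃ g ∈ KK v, ∃ x ∈ fac M.toNatV l, g * x ≠ x * g

/-- CvBig, `q = 2`, CASE 1: `T = N_S(V_i)` is a Sylow 2-subgroup of `C_G(v_i)`, `V_i` is unmixed. -/
structure Sit {G : Type u} [Group G] [Finite G] {F : Type} [Field F] [Finite F] [CharP F 2] {S : Sylow 2 G}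
    {P V D : Subgroup G} {k : ℕ} (M : NatD F S P V D k) (i : Fin k) : Prop extends Sit0 M i where
  unm : Unm M i
  odd : ¬ 2 ∣ (stab M.toNatV i).relIndex (normalizer (line M.toNatV i : Set G))

section build

variable {G : Type u} [Group G] [Finite G] {F : Type} [Field F] [Finite F] [CharP F 2] {S : Sylow 2 G}
  {P V D : Subgroup G} {k : ℕ} {M : NatD F S P V D k} {i : Fin k}

/-- `Sit0` from one conjugate of an element of `V_i` in `W_v` which moves `V_i` -/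
theorem Sit0.of_KK (h2 : Nat.card F = 2) (hk : 2 ≤ k) (hC : CCD M) {v₀ : G} (hv₀ : v₀ ∈ fac M.toNatV i)
    (hv₀1 : v₀ ≠ 1) (hm : ∃ g ∈ KK v₀, ∃ x ∈ fac M.toNatV i, g * x ≠ x * g) : Sit0 M i := by
  refine ⟨h2, hk, hC, fun l v hv hv1 => ?_⟩
  obtain ⟨g, hg, a, ha, hne⟩ := hm
  obtain ⟨y, hy, hyv, hyi, -⟩ := exists_P_conj hv₀ hv₀1 hv hv1
  refine ⟨y * g * y⁻¹, ?_, y * a * y⁻¹, (hyi a).1 ha, fun e => hne ?_⟩
  · have h2 := KK_conj (h := y) hg
    rwa [hyv] at h2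
  · calc g * a = y⁻¹ * (y * g * y⁻¹ * (y * a * y⁻¹)) * y := by group
      _ = a * g := by rw [e]; group

/-- `W_v` moves `V_l` for all points `v ∈ V_l`, if `V_i` is unmixed -/
theorem Sit0.of_unm (h2 : Nat.card F = 2) (hk : 2 ≤ k) (hC : CCD M) (hu : Unm M i) : Sit0 M i := by
  obtain ⟨v₀, hv₀, hv₀1⟩ := exists_line M i
  obtain ⟨g, hg, a, ha, b, hb, hne⟩ := hu
  rw [normalizer_line_eq h2 hv₀ hv₀1] at hg
  refine Sit0.of_KK (i := i) h2 hk hC (line_le _ i hv₀) hv₀1 ⟨g * b * g⁻¹, ?_, a, ha, fun e => hne e.symm⟩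
  have h2 := KK_conj (h := g) (V_le_KK_line hC h2 hv₀ hv₀1 (NV.fac_le _ i hb))
  rwa [conj_of_comm (mem_cent.1 hg)] at h2

/-- the index `i` does not matter -/
theorem Sit0.idx (h : Sit0 M i) (j : Fin k) : Sit0 M j := ⟨h.two, h.k2, h.cc, h.WV⟩

end build

namespace Sit0

variable {G : Type u} [Group G] [Finite G] {F : Type} [Field F] [Finite F] [CharP F 2] {S : Sylow 2 G}
  {P V D : Subgroup G} {k : ℕ} {M : NatD F S P V D k} {i : Fin k} (h : Sit0 M i)
include h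

theorem c2 : IsCharacteristicTwoType G := M.hG

theorem par : IsParS (S : Subgroup G) P := M.star

theorem SP : (S : Subgroup G) ≤ P := NV.SP M

theorem T2 : IsPGroup 2 (stab M.toNatV i) := S.isPGroup'.to_le (stab_le _ i)

theorem TP : stab M.toNatV i ≤ P := (stab_le _ i).trans h.SP

theorem sqV {v : G} (hv : v ∈ V) : v * v = 1 := mul_self_zc (V_le_zz M hv)

/-- **428's frame** -/
theorem fr : Fr (⨆ l, fac M.toNatV l) (fac M.toNatV) := by
  have hle : (⨆ l, fac M.toNatV l) ≤ V := iSup_le fun l => NV.fac_le _ l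
  have hsq : ∀ x ∈ V, x * x = 1 := fun x hx => h.sqV hx
  have hc2 : ∀ l, ∀ v ∈ fac M.toNatV l, v ≠ 1 → cz v ⊓ centralizer (qz v : Set G) ≤ qz v := fun l v hv hv1 =>
    Big.Supply.cz_char2 h.c2 (hsq v (NV.fac_le _ l hv)) hv1
  refine
    { S2 := isPGroup_of_sq fun x hx => hsq x (hle hx)
      sq := fun l x hx => hsq x (NV.fac_le _ l hx)
      comm := fun l m x hx y hy => NV.comm M.toNatV hx.1 hy.1
      four := fun l => by rw [card_fac, h.two]; norm_num
      Qc := fun l m hlm v hv hv1 q hq x hx => qz_comm h.cc hlm hv hv1 hq hx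
      VQ := fun l m v hv hv1 => ?_
      WV := h.WV
      c2 := hc2
      perm := fun s hs l => ⟨l, fun x => ?_⟩
      zS := ZN.zc_le _ }
  · intro x hx
    exact KK_le_o2 (hsq v (NV.fac_le _ l hv)) (hc2 l v hv hv1)
      (zl_le_KK h.cc h.two hv hv1 (M.V_le (NV.fac_le _ m hx)))
  · have hsV := hle hs
    constructor
    · intro hx
      rw [NV.comm M.toNatV hsV hx.1, mul_inv_cancel_right]
      exact hx
    · intro hx
      have h1 := NV.comm M.toNatV (inv_mem hsV) hx.1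
      have e : x = s⁻¹ * (s * x * s⁻¹) * s := by group
      rw [e, h1, inv_mul_cancel_right]
      exact hx

/-- an element of `P` which commutes with all factors centralises `Ω₁Z(O₂(P))` -/
theorem comm_of_fac {x z : G} (hx : x ∈ P) (hxV : ∀ l, ∀ v ∈ fac M.toNatV l, x * v = v * x)
    (hz : z ∈ zc (o2 P)) : x * z = z * x := by
  refine comm_zz M hx (fun v hv => ?_) hz
  have h1 : (⨆ l, fac M.toNatV l) ≤ centralizer ({x} : Set G) :=
    iSup_le fun l w hw => mem_cent.2 (hxV l w hw).symm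
  exact (mem_cent.1 (h1 (V_le_iSup hv))).symm

/-- the action of `Q_v` on `Ω₁Z(O₂(P))`: trivial or that of `a ∈ W_v` -/
theorem q_dich {l : Fin k} {v b a : G} (hv : v ∈ fac M.toNatV l) (hv1 : v ≠ 1) (hb : b ∈ fac M.toNatV l)
    (hb1 : b ≠ 1) (hvb : v ≠ b) (ha : a ∈ KK v) (hab : a * b * a⁻¹ = v * b) {r : G} (hr : r ∈ qz v) :
    (∀ z ∈ zc (o2 P), r * z = z * r) ∨ ∀ z ∈ zc (o2 P), r * a * z = z * (r * a) := by
  have hfr := h.fr
  have hQP := q_le_P h.cc hv hv1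
  have haQ : a ∈ qz v := hfr.KK_le_q hv hv1 ha
  have hbK : b ∈ KK v := zl_le_KK h.cc h.two hv hv1 (M.V_le (NV.fac_le _ l hb))
  have hact : ∀ r ∈ qz v, r * b * r⁻¹ = b ∨ r * b * r⁻¹ = v * b := by
    intro r hr
    rcases hfr.KK_act hv hbK hr with h1 | h1
    · left
      have h2 := comm_of_conj h1
      rw [← h2]; group
    · right
      have h2 : b * r = v * r * b := by rw [← h1]; group
      have h3 : r * v = v * r := (mem_cent.1 ((o2_le _) hr))
      have h4 : v * v = 1 := hfr.sq l v hv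
      have h5 : r * b = v * (b * r) := by
        rw [h2]
        calc r * b = (v * v) * r * b := by rw [h4, one_mul]
          _ = v * (v * r * b) := by group
      rw [h5]; group
  have hbV : ∀ r ∈ qz v, r * b = b * r → ∀ m, ∀ w ∈ fac M.toNatV m, r * w = w * r := by
    intro r hr hrb m x hx
    by_cases hl : m = l
    · subst hl
      have h3 : r * v = v * r := (mem_cent.1 ((o2_le _) hr))
      rcases hfr.cases4 hv hb hv1 hb1 hvb hx with rfl | rfl | rfl | rfl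
      · simp
      · exact h3
      · exact hrb
      · calc r * (v * b) = (r * v) * b := by group
          _ = v * (r * b) := by rw [h3]; group
          _ = v * b * r := by rw [hrb]; group
    · exact hfr.Qc l m hl v hv hv1 r hr x hx
  rcases hact r hr with h1 | h1
  · left
    intro z hz
    exact h.comm_of_fac (hQP hr) (hbV r hr (comm_of_conj h1)) hz
  · right
    intro z hz
    have hra : r * a ∈ qz v := mul_mem hr haQ
    refine h.comm_of_fac (hQP hra) (hbV _ hra ?_) hz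
    apply comm_of_conj
    have h3 : r * v = v * r := (mem_cent.1 ((o2_le _) hr))
    have h4 : v * v = 1 := hfr.sq l v hv
    calc r * a * b * (r * a)⁻¹ = r * (a * b * a⁻¹) * r⁻¹ := by group
      _ = (r * v) * b * r⁻¹ := by rw [hab]; group
      _ = v * (r * b * r⁻¹) := by rw [h3]; group
      _ = (v * v) * b := by rw [h1]; group
      _ = b := by rw [h4, one_mul]

/-- **`Ω₁Z(O₂(P)) ≤ Q_v`** -/
theorem zz_q {l : Fin k} {v : G} (hv : v ∈ fac M.toNatV l) (hv1 : v ≠ 1) : zc (o2 P) ≤ qz v := by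
  have hfr := h.fr
  have hfact : Fact (Nat.Prime 2) := ⟨Nat.prime_two⟩
  have hzn : P ≤ normalizer (zc (o2 P) : Set G) := zz_nor P
  have hVz : V ≤ zc (o2 P) := V_le_zz M
  have hzab := MinSimple.VModule.zc_comm (o2 P)
  have hzsq : ∀ z ∈ zc (o2 P), z * z = 1 := fun z hz => mul_self_zc hz
  have hQP := q_le_P h.cc hv hv1
  have hzC : zc (o2 P) ≤ cz v := fun z hz => mem_cent.2 (hzab z hz v (hVz (NV.fac_le _ l hv)))
  obtain ⟨b, hb, hb1, hvb⟩ := hfr.exists_other (i := l) v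
  obtain ⟨a, ha, hab⟩ := hfr.move hv hb hv1 hb1 hvb
  have haQ : a ∈ qz v := hfr.KK_le_q hv hv1 ha
  have hr2 := fun r (hr : r ∈ qz v) => h.q_dich hv hv1 hb hb1 hvb ha hab hr
  have haa : ∀ z ∈ zc (o2 P), a * a * z = z * (a * a) := by
    intro z hz
    rcases hr2 a haQ with h1 | h1
    · calc a * a * z = a * (a * z) := by group
        _ = a * (z * a) := by rw [h1 z hz]
        _ = (a * z) * a := by group
        _ = (z * a) * a := by rw [h1 z hz]
        _ = z * (a * a) := by group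
    · exact h1 z hz
  have haz : ∀ z ∈ zc (o2 P), a * z * a⁻¹ ∈ zc (o2 P) := fun z hz => conj_mem hzn (hQP haQ) hz
  have hat : ∀ z ∈ zc (o2 P), a * (a * z * a⁻¹ * z⁻¹) = a * z * a⁻¹ * z⁻¹ * a := by
    intro z hz
    have h1 := haa z hz
    have h2 : a * (a * z * a⁻¹) * a⁻¹ = z := by
      calc a * (a * z * a⁻¹) * a⁻¹ = (a * a * z) * (a * a)⁻¹ := by group
        _ = z := by rw [h1]; group
    have h3 : a * (a * z * a⁻¹ * z⁻¹) * a⁻¹ = a * z * a⁻¹ * z⁻¹ := by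
      have h5 : (a * z * a⁻¹)⁻¹ = a * z * a⁻¹ := inv_eq_of_mul_eq_one_left (hzsq _ (haz z hz))
      have h6 : z⁻¹ = z := inv_eq_of_mul_eq_one_left (hzsq _ hz)
      calc a * (a * z * a⁻¹ * z⁻¹) * a⁻¹ = (a * (a * z * a⁻¹) * a⁻¹) * (a * z * a⁻¹)⁻¹ := by group
        _ = z * (a * z * a⁻¹) := by rw [h2, h5]
        _ = (a * z * a⁻¹) * z := hzab _ hz _ (haz z hz)
        _ = a * z * a⁻¹ * z⁻¹ := by rw [h6]
    exact comm_of_conj h3
  have htZ : ∀ z ∈ zc (o2 P), a * z * a⁻¹ * z⁻¹ ∈ qz v ⊓ centralizer ((qz v : Subgroup G) : Set G) := by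
    intro z hz
    have ht : a * z * a⁻¹ * z⁻¹ ∈ zc (o2 P) := mul_mem (haz z hz) (inv_mem hz)
    have hcen : a * z * a⁻¹ * z⁻¹ ∈ centralizer ((qz v : Subgroup G) : Set G) := by
      rw [mem_centralizer_iff]
      intro r hr
      rcases hr2 r hr with h1 | h1
      · exact h1 _ ht
      · have h2 := h1 _ ht
        have h3 := hat z hz
        have h4 : r * (a * z * a⁻¹ * z⁻¹) * a = a * z * a⁻¹ * z⁻¹ * r * a := by
          calc r * (a * z * a⁻¹ * z⁻¹) * a = r * (a * z * a⁻¹ * z⁻¹ * a) := by group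
            _ = r * a * (a * z * a⁻¹ * z⁻¹) := by rw [← h3]; group
            _ = a * z * a⁻¹ * z⁻¹ * r * a := by rw [h2]; group
        exact mul_right_cancel h4
    exact ⟨hfr.c2 l v hv hv1 ⟨hzC ht, hcen⟩, hcen⟩
  refine Big.Syl.le_o2_of_chain (hfr.c2 l v hv hv1) hzC (fun z hz r hr => ?_) (fun z hz y hy => ?_)
  · rcases hr2 r hr with h1 | h1
    · have e : z * r * z⁻¹ * r⁻¹ = 1 := by rw [← h1 z hz]; group
      rw [e]
      exact one_mem _
    · have h2 := h1 z hz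
      have h3 : z * r * z⁻¹ * r⁻¹ = r * (a * z * a⁻¹ * z⁻¹) * r⁻¹ := by
        calc z * r * z⁻¹ * r⁻¹ = (z * (r * a)) * a⁻¹ * z⁻¹ * r⁻¹ := by group
          _ = r * (a * z * a⁻¹ * z⁻¹) * r⁻¹ := by rw [← h2]; group
      rw [h3]
      have h4 := htZ z hz
      have h5 : r * (a * z * a⁻¹ * z⁻¹) * r⁻¹ = a * z * a⁻¹ * z⁻¹ := by
        rw [mem_centralizer_iff.1 h4.2 r hr, mul_inv_cancel_right]
      rw [h5]
      exact h4
  · have h1 : ∀ m, ∀ w ∈ fac M.toNatV m, y * w = w * y := fun m w hw => by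
      have hwQ : w ∈ qz v := hfr.VQ l m v hv hv1 hw
      exact (mem_centralizer_iff.1 hy.2 w hwQ).symm
    exact (h.comm_of_fac (hQP hy.1) h1 hz).symm

theorem o2_le_stab : o2 P ≤ stab M.toNatV i := by
  refine le_inf (o2_le_S M) (norm_of fun x hx v hv => ?_)
  rw [((ZN.mem_zc.1 (V_le_zz M (NV.fac_le _ i hv))).2.1 x hx), mul_inv_cancel_right]
  exact hv

theorem zc_le : zc (stab M.toNatV i) ≤ zc (o2 P) := Big.Syl.zc_le_zz h.c2 h.par h.o2_le_stab h.TP

theorem norm_line {v : G} (hv : v ∈ line M.toNatV i) (hv1 : v ≠ 1) :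
    normalizer (line M.toNatV i : Set G) = cz v := normalizer_line_eq h.two hv hv1

/-- `X_l ≤ N(line M i)` for `l ≠ i` -/
theorem KK_le_norm {l : Fin k} (hl : l ≠ i) {v : G} (hv : v ∈ fac M.toNatV l) (hv1 : v ≠ 1) :
    KK v ≤ normalizer (line M.toNatV i : Set G) := by
  obtain ⟨w, hw, hw1⟩ := exists_line M i
  rw [h.norm_line hw hw1]
  exact h.fr.KK_le hl.symm hv hv1 (line_le _ i hw)

/-- `e ∈ Ω₁Z(T)` centralised by `X_i` is in `D^`, or some `V_l`, `l ≠ i`, lies in every subgroup which contains `e`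
and is normalised by `N(line M i)`. -/
theorem exists_le {e : G} (he : e ∈ zc (o2 P))
    (hX : ∀ v ∈ fac M.toNatV i, v ≠ 1 → ∀ g ∈ KK v, g * e = e * g) :
    Cen M e ∨ ∃ l, l ≠ i ∧ ∀ Λ : Subgroup G, normalizer (line M.toNatV i : Set G) ≤ normalizer (Λ : Set G) →
      e ∈ Λ → fac M.toNatV l ≤ Λ := by
  by_contra hcon
  push Not at hcon
  obtain ⟨hcon1, hcon⟩ := hcon
  apply hcon1
  refine ⟨he, fun l v hv hv1 g hg => ?_⟩
  by_cases hl : l = i
  · subst hl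
    exact hX v hv hv1 g hg
  by_contra hge
  obtain ⟨Λ, hΛ, heΛ, hnot⟩ := hcon l hl
  apply hnot
  have hv' : v ∈ Λ := by
    have h1 : g * e * g⁻¹ ∈ Λ := conj_mem hΛ (h.KK_le_norm hl hv hv1 hg) heΛ
    rcases h.fr.KK_act hv hg (h.zz_q hv hv1 he) with h2 | h2
    · exact (hge (comm_of_conj h2)).elim
    · rw [h2] at h1
      exact (mul_mem_cancel_right heΛ).1 h1
  intro w hw
  by_cases hw1 : w = 1
  · rw [hw1]; exact one_mem _
  by_cases hwv : w = v
  · rw [hwv]; exact hv'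
  obtain ⟨g', hg', h3⟩ := h.fr.move hw hv hw1 hv1 hwv
  have h4 : g' * v * g'⁻¹ ∈ Λ := conj_mem hΛ (h.KK_le_norm hl hw hw1 hg') hv'
  rw [h3] at h4
  exact (mul_mem_cancel_right hv').1 h4

theorem T_V : stab M.toNatV i ≤ normalizer (fac M.toNatV i : Set G) := stab_normalizes _ i

theorem V_le_T : V ≤ stab M.toNatV i := (V_le_zz M).trans ((ZN.zc_le _).trans h.o2_le_stab)

theorem V_T : fac M.toNatV i ≤ stab M.toNatV i := (NV.fac_le _ i).trans h.V_le_T

theorem T_comm {v : G} (hv : v ∈ line M.toNatV i) {t : G} (ht : t ∈ stab M.toNatV i) : t * v = v * t :=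
  stab_comm_line h.two hv ht

theorem T_cz {v : G} (hv : v ∈ line M.toNatV i) : stab M.toNatV i ≤ cz v := fun _ ht => mem_cent.2 (h.T_comm hv ht)

/-- `O₂(C(v)) ≤ T` -/
theorem q_T {v : G} (hv : v ∈ line M.toNatV i) (hv1 : v ≠ 1) : qz v ≤ stab M.toNatV i := (qz_le_stab h.cc hv hv1).1

end Sit0

namespace Sit

variable {G : Type u} [Group G] [Finite G] {F : Type} [Field F] [Finite F] [CharP F 2] {S : Sylow 2 G}
  {P V D : Subgroup G} {k : ℕ} {M : NatD F S P V D k} {i : Fin k} (h : Sit M i)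
include h

theorem odd' {v : G} (hv : v ∈ line M.toNatV i) (hv1 : v ≠ 1) : ¬ 2 ∣ (stab M.toNatV i).relIndex (cz v) := by
  rw [← h.norm_line hv hv1]; exact h.odd

/-- **(OT)** of #17249: `O₂(H)` centralises `V_i` for every `H ≥ ⟨T, D⟩`, `D ≤ N(V_i)` transitive on `V_i#`. -/
theorem ot {H X : Subgroup G} (hTH : stab M.toNatV i ≤ H) (hDH : X ≤ H) (hDV : X ≤ normalizer (fac M.toNatV i : Set G))
    (hD : ∀ v ∈ fac M.toNatV i, ∀ w ∈ fac M.toNatV i, v ≠ 1 → w ≠ 1 → ∃ d ∈ X, d * v * d⁻¹ = w) :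
    ZN.o2 H ≤ centralizer (fac M.toNatV i : Set G) := by
  have hfact : Fact (Nat.Prime 2) := ⟨Nat.prime_two⟩
  obtain ⟨v, hv, hv1⟩ := exists_line M i
  have hvi := line_le _ i hv
  have hO2 : IsPGroup 2 (ZN.o2 H) := o2_isPGroup H
  have hHO := le_normalizer_o2 H
  -- `O ∩ N(V_i)` centralises `V_i`
  have hVT := h.V_T
  have hN : ZN.o2 H ⊓ normalizer (fac M.toNatV i : Set G) ≤ centralizer (fac M.toNatV i : Set G) := by
    set N := ZN.o2 H ⊓ normalizer (fac M.toNatV i : Set G) with hNdef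
    have hN2 : IsPGroup 2 N := hO2.to_le inf_le_left
    have hDN : X ≤ normalizer (N : Set G) := by
      refine norm_of fun d hd x hx => ⟨conj_mem hHO (hDH hd) hx.1, ?_⟩
      exact mul_mem (mul_mem (hDV hd) hx.2) ((normalizer (fac M.toNatV i : Set G)).inv_mem (hDV hd))
    have hV2 : IsPGroup 2 (fac M.toNatV i) := isPGroup_of_sq fun x hx => h.fr.sq i x hx
    have hne : fac M.toNatV i ≠ ⊥ := fun h0 => hv1 (by rwa [h0, mem_bot] at hvi)
    obtain ⟨w, hw, hw1, hwN⟩ := Half.exists_fixed hV2 hne hN2 inf_le_right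
    intro x hx
    rw [mem_centralizer_iff]
    intro u hu
    by_cases hu1 : u = 1
    · rw [hu1, one_mul, mul_one]
    obtain ⟨d, hd, hdu⟩ := hD w hw u hu hw1 hu1
    have h1 : d⁻¹ * x * d ∈ N := by
      have := conj_mem hDN (inv_mem hd) hx
      rwa [inv_inv] at this
    have h2 := comm_of_conj (hwN _ h1)
    rw [← hdu]
    calc d * w * d⁻¹ * x = d * (w * (d⁻¹ * x * d)) * d⁻¹ := by group
      _ = x * (d * w * d⁻¹) := by rw [← h2]; group
  -- `O_0 := O ∩ C(v)` is contained in `T` and centralises `V_i`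
  set O₀ := ZN.o2 H ⊓ centralizer (fac M.toNatV i : Set G) with hO₀
  have hTn : stab M.toNatV i ≤ normalizer (fac M.toNatV i : Set G) := stab_normalizes _ i
  have hTO₀ : stab M.toNatV i ≤ normalizer (O₀ : Set G) := by
    refine norm_of fun t ht x hx => ⟨conj_mem hHO (hTH ht) hx.1, ?_⟩
    exact (mem_normalizer_iff.1 (BTwo.normalizer_le_normalizer_centralizer _ (hTn ht)) x).1 hx.2
  have hT0 : ∀ x ∈ ZN.o2 H, x * v = v * x → x ∈ O₀ ∧ x ∈ stab M.toNatV i := by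
    have hE2 : IsPGroup 2 (ZN.o2 H ⊓ cz v : Subgroup G) := hO2.to_le inf_le_left
    have hTv : stab M.toNatV i ≤ cz v := fun t ht => mem_cent.2 (stab_comm_line h.two hv ht)
    have hTE : stab M.toNatV i ≤ normalizer ((ZN.o2 H ⊓ cz v : Subgroup G) : Set G) := by
      refine norm_of fun t ht x hx => ⟨conj_mem hHO (hTH ht) hx.1, ?_⟩
      exact mul_mem (mul_mem (hTv ht) hx.2) ((cz v).inv_mem (hTv ht))
    have hle : ZN.o2 H ⊓ cz v ≤ stab M.toNatV i := by
      refine HT.LemE.le_of_odd h.T2 hTv ?_ hE2 inf_le_right hTE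
      rw [← h.norm_line hv hv1]
      exact h.odd
    intro x hx hxv
    have h1 : x ∈ stab M.toNatV i := hle ⟨hx, mem_cent.2 hxv⟩
    exact ⟨⟨hx, hN ⟨hx, hTn h1⟩⟩, h1⟩
  have hO₀T : O₀ ≤ stab M.toNatV i := fun x hx => (hT0 x hx.1 (mem_centralizer_iff.1 hx.2 v hvi).symm).2
  -- suppose `O > O_0`
  by_contra hcon
  have hlt : O₀ < ZN.o2 H := by
    refine lt_of_le_of_ne inf_le_left fun e => hcon ?_
    rw [← e]
    exact inf_le_right
  have hlt2 := Lib.GoldschmidtFusion.lt_inf_normalizer hO2 hlt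
  obtain ⟨w, hw, hwO₀, hwT⟩ := SideOf.exists_fixed_mod (T := stab M.toNatV i) (not_le_of_gt hlt2) inf_le_right
    (hO2.to_le inf_le_left) h.T2 hTO₀ (norm_of fun t ht x hx =>
      ⟨conj_mem hHO (hTH ht) hx.1, mul_mem (mul_mem (hTO₀ ht) hx.2)
        ((normalizer (O₀ : Set G)).inv_mem (hTO₀ ht))⟩)
  have hwn : w ∈ normalizer (O₀ : Set G) := hw.2
  have hwn' : ∀ x ∈ O₀, w⁻¹ * x * w ∈ O₀ := fun x hx => by
    have := (mem_normalizer_iff.1 (inv_mem hwn) x).1 hx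
    rwa [inv_inv] at this
  -- `T_* := C_T(V_i)`
  set Ts := stab M.toNatV i ⊓ centralizer (fac M.toNatV i : Set G) with hTs
  have hO₀Ts : O₀ ≤ Ts := le_inf hO₀T inf_le_right
  have hPTs : o2 P ≤ Ts := by
    refine le_inf h.o2_le_stab fun x hx => mem_centralizer_iff.2 fun u hu => ?_
    exact ((ZN.mem_zc.1 (V_le_zz M (NV.fac_le _ i hu))).2.1 x hx).symm
  have hTsw : ∀ t ∈ Ts, w⁻¹ * t * w ∈ Ts := by
    intro t ht
    have h1 : t⁻¹ * w * t * w⁻¹ ∈ O₀ := by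
      have := hwT t⁻¹ (inv_mem ht.1)
      rwa [inv_inv] at this
    have h2 := hwn' _ h1
    have e : w⁻¹ * t * w = t * (w⁻¹ * (t⁻¹ * w * t * w⁻¹) * w)⁻¹ := by group
    rw [e]
    exact mul_mem ht (inv_mem (hO₀Ts h2))
  have hTsw' : ∀ t ∈ Ts, w * t * w⁻¹ ∈ Ts := by
    intro t ht
    have h1 := hwT t ht.1
    have e : w * t * w⁻¹ = (t * w * t⁻¹ * w⁻¹)⁻¹ * t := by group
    rw [e]
    exact mul_mem (inv_mem (hO₀Ts h1)) ht
  have hVTs : fac M.toNatV i ≤ Ts := le_inf hVT fun x hx => mem_centralizer_iff.2 fun u hu => h.fr.comm i i u hu x hx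
  -- `V_i^w ≤ ZZ`
  have hwV : ∀ b ∈ fac M.toNatV i, w * b * w⁻¹ ∈ zc (o2 P) := by
    intro b hb
    refine Big.Syl.zc_le_zz h.c2 h.par hPTs (inf_le_left.trans h.TP) (ZN.mem_zc.2 ⟨hTsw' b (hVTs hb), fun t ht => ?_, ?_⟩)
    · have h1 := mem_centralizer_iff.1 (hTsw t ht).2 b hb
      calc t * (w * b * w⁻¹) = w * ((w⁻¹ * t * w) * b) * w⁻¹ := by group
        _ = w * b * w⁻¹ * t := by rw [← h1]; group
    · rw [pow_two]
      calc w * b * w⁻¹ * (w * b * w⁻¹) = w * (b * b) * w⁻¹ := by group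
        _ = 1 := by rw [h.fr.sq i b hb]; group
  obtain ⟨b, hb, hb1, hvb⟩ := h.fr.exists_other (i := i) v
  obtain ⟨a, ha, hab⟩ := h.fr.move hvi hb hv1 hb1 hvb
  have haT : a ∈ stab M.toNatV i := h.q_T hv hv1 (h.fr.KK_le_q hvi hv1 ha)
  have ho : w * a * w⁻¹ * a⁻¹ ∈ O₀ := by
    have h1 := inv_mem (hwT a haT)
    have e : (a * w * a⁻¹ * w⁻¹)⁻¹ = w * a * w⁻¹ * a⁻¹ := by group
    rwa [e] at h1
  have hOy : ∀ o ∈ O₀, o * (w * b * w⁻¹) = w * b * w⁻¹ * o := by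
    intro o ho
    have h1 := mem_centralizer_iff.1 (hwn' o ho).2 b hb
    calc o * (w * b * w⁻¹) = w * ((w⁻¹ * o * w) * b) * w⁻¹ := by group
      _ = w * b * w⁻¹ * o := by rw [← h1]; group
  have hOv : ∀ o ∈ O₀, o * v = v * o := fun o ho => (mem_centralizer_iff.1 ho.2 v hvi).symm
  have key : w * v * w⁻¹ = (w * a * w⁻¹ * a⁻¹) * (a * (w * b * w⁻¹) * a⁻¹) * (w * a * w⁻¹ * a⁻¹)⁻¹ *
      (w * b * w⁻¹)⁻¹ := by
    have e : v = a * b * a⁻¹ * b⁻¹ := by rw [hab, mul_inv_cancel_right]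
    calc w * v * w⁻¹ = w * (a * b * a⁻¹ * b⁻¹) * w⁻¹ := by rw [← e]
      _ = _ := by group
  rcases h.fr.KK_act hvi ha (h.zz_q hvi hv1 (hwV b hb)) with h1 | h1
  · rw [h1, hOy _ ho, mul_inv_cancel_right, mul_inv_cancel] at key
    exact hv1 (by
      calc v = w⁻¹ * (w * v * w⁻¹) * w := by group
        _ = 1 := by rw [key]; group)
  · rw [h1] at key
    have h2 : (w * a * w⁻¹ * a⁻¹) * (v * (w * b * w⁻¹)) = v * (w * b * w⁻¹) * (w * a * w⁻¹ * a⁻¹) := by
      calc (w * a * w⁻¹ * a⁻¹) * (v * (w * b * w⁻¹)) = ((w * a * w⁻¹ * a⁻¹) * v) * (w * b * w⁻¹) := by group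
        _ = v * ((w * a * w⁻¹ * a⁻¹) * (w * b * w⁻¹)) := by rw [hOv _ ho]; group
        _ = _ := by rw [hOy _ ho]; group
    rw [h2, mul_inv_cancel_right, mul_inv_cancel_right] at key
    exact hwO₀ (hT0 w hw.1 (comm_of_conj key)).1

end Sit

end Cfsg.Agent.Omega.IId.NV.BigD

end
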