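import Cfsg.Agent.Mrg.Omega.IId.Big.Base
import Cfsg.Agent.Omega.IId.Big.RedTool

section


/-!
# WrBig, `q = 2`, CASE 2 is impossible (bb OMEGA 18977, helper245), II: LEMMA 2, LEMMA 3 and the theorem

In the frame `Sc S Q V v`, `t ∈ C_G(v i)` normalising `N_S(V i) = C_S(v i)`:

* `Sc.cent_Vo` : `Q^t` centralises `V^i = Vo V i`;
* `Sc.perm_t` : **LEMMA 2** : `t` permutes the `v l`, `l ≠ i`;
* `Sc.norm_sup` : **LEMMA 3** : `t` normalises `V`;
* `Sc.sylow` : **THEOREM** : `C_S(v i)` is a Sylow 2-subgroup of `C_G(v i)`.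
-/

set_option autoImplicit false
set_option linter.unusedSectionVars false

namespace Cfsg.Agent.Omega.IId.Big.Syl

open Subgroup Cfsg
open Cfsg.Agent.ZN (o2 zc)
open Cfsg.Agent.MinSimple.VModule (le_o2 le_normalizer_o2 mem_zc o2_isPGroup o2_le)
open Triangle (KK KK_conj KK_le_o2 mem_cent mem_KK mem_zpowers_iff_of_sq cent_conj o2_cent_conj)

universe u

variable {G : Type u} [Group G]

theorem exists_conj_le [Finite G] (S : Sylow 2 G) {K X : Subgroup G} (hSK : (S : Subgroup G) ≤ K)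
    (hX : IsPGroup 2 X) (hXK : X ≤ K) : ∃ k ∈ K, ∀ x ∈ X, k * x * k⁻¹ ∈ (S : Subgroup G) := by
  have hp : Fact (Nat.Prime 2) := ⟨Nat.prime_two⟩
  obtain ⟨T, hT⟩ := (S.isPGroup'.comap_subtype (K := K)).exists_le_sylow
  have hTU : ∀ t : K, t ∈ T → (t : G) ∈ (S : Subgroup G) := by
    intro t ht
    have h1 : (T : Subgroup K).map K.subtype = (S : Subgroup G) := by
      refine S.is_maximal' (T.isPGroup'.map _) fun u hu => ?_
      exact ⟨⟨u, hSK hu⟩, hT (mem_subgroupOf.2 hu), rfl⟩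
    rw [← h1]
    exact ⟨t, ht, rfl⟩
  obtain ⟨R, hR⟩ := (hX.comap_subtype (K := K)).exists_le_sylow
  obtain ⟨g, hg⟩ := MulAction.exists_smul_eq K R T
  refine ⟨g, g.2, fun v hv => ?_⟩
  have h1 : (⟨v, hXK hv⟩ : K) ∈ R := hR (mem_subgroupOf.2 hv)
  have h2 : g * (⟨v, hXK hv⟩ : K) * g⁻¹ ∈ (T : Subgroup K) := by
    rw [← hg]
    exact smul_mem_pointwise_smul _ (MulAut.conj g) _ h1
  exact hTU _ h2

namespace Sc

variable {ι : Type} {S Q : Subgroup G} {V : ι → Subgroup G} {v : ι → G} (h : Sc S Q V v)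
include h

theorem Vo_le_sup {i : ι} : Vo V i ≤ ⨆ i, V i := Vo_le (V := V) fun j _ => le_iSup V j

theorem S_sup {s : G} (hs : s ∈ S) {x : G} (hx : x ∈ ⨆ i, V i) : s * x * s⁻¹ ∈ ⨆ i, V i := by
  have h1 : (⨆ i, V i) ≤ (⨆ i, V i).comap (MulAut.conj s).toMonoidHom := by
    refine iSup_le fun i y hy => ?_
    obtain ⟨j, hj, -⟩ := h.perm s hs i
    exact (le_iSup V j) (hj y hy)
  exact h1 hx

variable [Finite G]

theorem disjVo {l : ι} {x : G} (hx : x ∈ V l) (hx' : x ∈ Vo V l) : x = 1 := by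
  by_contra hx1
  obtain ⟨p, hp, hp1, hxp⟩ := h.fr.exists_other (i := l) x
  obtain ⟨w, hw, hwx⟩ := h.fr.move hp hx hp1 hx1 (Ne.symm hxp)
  rw [conj_of_comm (h.KK_Vo hp hp1 hw hx')] at hwx
  exact hp1 (mul_eq_right.1 hwx.symm)

theorem v_inj {i j : ι} (hij : v i = v j) : i = j := by
  by_contra hne
  exact h.v1 i (h.fr.disj hne (h.vV i) (hij ▸ h.vV j))

theorem fix_line {s : G} (hs : s ∈ S) {i : ι} (hsi : s * v i = v i * s) {x : G} (hx : x ∈ V i) :
    s * x * s⁻¹ ∈ V i := by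
  obtain ⟨j, hj, hvj⟩ := h.perm s hs i
  rw [conj_of_comm hsi] at hvj
  have := h.v_inj hvj
  subst this
  exact hj x hx

theorem fix_act {s : G} (hs : s ∈ S) {i : ι} (hsi : s * v i = v i * s) {x : G} (hx : x ∈ V i) :
    s * x * s⁻¹ = x ∨ s * x * s⁻¹ = v i * x := by
  by_cases hx1 : x = 1
  · left
    rw [hx1]
    simp
  by_cases hxv : x = v i
  · left
    rw [hxv]
    exact conj_of_comm hsi
  rcases h.fr.cases4 (h.vV i) hx (h.v1 i) hx1 (Ne.symm hxv) (h.fix_line hs hsi hx) with h1 | h1 | h1 | h1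
  · exfalso
    apply hx1
    calc x = s⁻¹ * (s * x * s⁻¹) * s := by group
      _ = 1 := by rw [h1]; group
  · exfalso
    apply hxv
    calc x = s⁻¹ * (s * x * s⁻¹) * s := by group
      _ = s⁻¹ * (v i * s) := by rw [h1]; group
      _ = v i := by rw [← hsi]; group
  · exact Or.inl h1
  · exact Or.inr h1

theorem sup_le_qz {i : ι} {p : G} (hp : p ∈ V i) (hp1 : p ≠ 1) : (⨆ i, V i) ≤ qz p :=
  iSup_le fun j => h.fr.VQ i j p hp hp1

theorem KK_sup {i : ι} {p w y : G} (hp : p ∈ V i) (hp1 : p ≠ 1) (hw : w ∈ KK p) (hy : y ∈ ⨆ i, V i) :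
    w * y * w⁻¹ = y ∨ w * y * w⁻¹ = p * y := h.fr.KK_act hp hw (h.sup_le_qz hp hp1 hy)

theorem Vo_le_zc (i : ι) : Vo V i ≤ zc (qz (v i)) := Vo_le fun _ hj => h.V_le_zc hj (h.vV i) (h.v1 i)

theorem T_Vo {s : G} (hs : s ∈ S) {i : ι} (hsi : s * v i = v i * s) {x : G} (hx : x ∈ Vo V i) :
    s * x * s⁻¹ ∈ Vo V i := by
  have h1 : Vo V i ≤ (Vo V i).comap (MulAut.conj s).toMonoidHom := by
    refine Vo_le fun j hj y hy => ?_
    obtain ⟨m, hm, hvm⟩ := h.perm s hs j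
    have hmi : m ≠ i := by
      rintro rfl
      apply hj
      apply h.v_inj
      calc v j = s⁻¹ * (s * v j * s⁻¹) * s := by group
        _ = s⁻¹ * (v m * s) := by rw [hvm]; group
        _ = v m := by rw [← hsi]; group
    exact le_Vo hmi (hm y hy)
  exact h1 hx

/-- The centres of the elements of `S` acting as transvections on `∏_{m ∈ I} V m`. -/
theorem tv {I : Set ι} {s u : G} (hs : s ∈ S)
    (h1 : ∀ m ∈ I, ∀ x ∈ V m, s * x * s⁻¹ = x ∨ s * x * s⁻¹ = u * x)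
    (h2 : ∃ m ∈ I, ∃ x ∈ V m, s * x * s⁻¹ ≠ x) : ∃ m ∈ I, u = v m := by
  obtain ⟨m, hm, x, hx, hxs⟩ := h2
  have hux : s * x * s⁻¹ = u * x := (h1 m hm x hx).resolve_left hxs
  have hu1 : u ≠ 1 := fun h0 => hxs (by rw [hux, h0, one_mul])
  obtain ⟨n, hn, hvn⟩ := h.perm s hs m
  by_cases hnm : n = m
  · subst hnm
    refine ⟨n, hm, ?_⟩
    rcases h.fix_act hs (comm_of_conj hvn) hx with h3 | h3
    · exact absurd h3 hxs
    · rw [hux] at h3
      exact mul_right_cancel h3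
  · exfalso
    have key : ∀ y ∈ V m, y ≠ 1 → s * y * s⁻¹ = u * y := by
      intro y hy hy1
      refine (h1 m hm y hy).resolve_left fun h0 => hy1 ?_
      exact h.fr.disj (Ne.symm hnm) hy (h0 ▸ hn y hy)
    obtain ⟨a, ha, b, hb, ha1, hb1, hab⟩ := h.fr.exists_two m
    have hab1 : a * b ≠ 1 := by
      intro h0
      apply hab
      rw [eq_inv_of_mul_eq_one_left h0]
      exact inv_eq_of_mul_eq_one_left (h.fr.sq m b hb)
    have e1 := key a ha ha1
    have e2 := key b hb hb1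
    have e3 := key (a * b) (mul_mem ha hb) hab1
    have e4 : u * (a * b) = u * a * (u * b) := by
      rw [← e3, ← e1, ← e2]
      group
    apply hu1
    have e5 : a * b = a * (u * b) := by
      apply mul_left_cancel (a := u)
      rw [e4]
      group
    exact (mul_eq_right.1 (mul_left_cancel e5).symm)

variable [Finite ι] {i : ι} {t : G} (ht : t * v i = v i * t)
  (htn : t ∈ normalizer ((S ⊓ cz (v i) : Subgroup G) : Set G))

omit [Finite ι] in
include ht htn in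
theorem conj_T {s : G} (hs : s ∈ S) (hsi : s * v i = v i * s) :
    t * s * t⁻¹ ∈ S ∧ t * s * t⁻¹ * v i = v i * (t * s * t⁻¹) := by
  have h1 := (mem_normalizer_iff.1 htn s).1 (mem_inf.2 ⟨hs, mem_cent.2 hsi⟩)
  exact ⟨h1.1, mem_cent.1 h1.2⟩

omit h [Finite G] [Finite ι] in
include ht in
theorem inv_ht : t⁻¹ * v i = v i * t⁻¹ := ((show Commute t (v i) from ht).inv_left).eq

include ht htn in
/-- `Q^t` centralises `V^i`. -/
theorem cent_Vo {x : G} (hx : x ∈ Vo V i) {q : G} (hq : q ∈ Q) : t * q * t⁻¹ * x = x * (t * q * t⁻¹) := by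
  by_contra hcon
  set Q' : Subgroup G := Q.map (MulAut.conj t).toMonoidHom with hQ'
  have hQS : ∀ q' ∈ Q', q' ∈ S ∧ q' * v i = v i * q' := by
    rintro _ ⟨r, hr, rfl⟩
    exact h.conj_T ht htn (h.QS hr) (h.QV i _ (h.vV i) r hr)
  have hQ'2 : IsPGroup 2 Q' := (h.fr.S2.to_le h.QS).map _
  obtain ⟨l, hli, y, hy, q', hq', hqy⟩ : ∃ l, l ≠ i ∧ ∃ y ∈ V l, ∃ q' ∈ Q', q' * y ≠ y * q' := by
    by_contra hc
    push Not at hc
    apply hcon
    refine cent_of_closure ?_ hx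
    rintro y ⟨l, hl, hy⟩
    exact hc l hl y hy _ ⟨q, hq, rfl⟩
  obtain ⟨ν, hν, b, hb, hb1, h1, q₁, hq₁, h2⟩ : ∃ ν ∈ Vo V i, ∃ b ∈ Vo V i, b ≠ 1 ∧
      (∀ q ∈ Q', q * ν * q⁻¹ = ν ∨ q * ν * q⁻¹ = b * ν) ∧ ∃ q ∈ Q', q * ν * q⁻¹ = b * ν := by
    by_cases hmv : ∃ q ∈ Q', q * v l * q⁻¹ ≠ v l
    · refine block (A := Vo V i) (N := Vo V l) (fun x hx y hy => h.sup_comm (h.Vo_le_sup hx) (h.Vo_le_sup hy))
        hQ'2 (fun q hq x hx => h.T_Vo (hQS q hq).1 (hQS q hq).2 hx) (le_Vo hli (h.vV l)) hmv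
        (fun h0 => h.v1 l (h.disjVo (h.vV l) h0)) fun q hq hne => ?_
      obtain ⟨m, hm, hvm⟩ := h.perm q (hQS q hq).1 l
      rw [hvm]
      refine le_Vo (fun e => hne ?_) (h.vV m)
      rw [hvm, e]
    · push Not at hmv
      refine ⟨y, le_Vo hli hy, v l, le_Vo hli (h.vV l), h.v1 l,
        fun q hq => h.fix_act (hQS q hq).1 (comm_of_conj (hmv q hq)) hy, q', hq', ?_⟩
      exact (h.fix_act (hQS q' hq').1 (comm_of_conj (hmv q' hq')) hy).resolve_left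
        fun h0 => hqy (comm_of_conj h0)
  have hν' : t⁻¹ * ν * t ∈ zc (qz (v i)) := by
    have := h.zc_conj (inv_ht ht) (h.Vo_le_zc i hν)
    rwa [inv_inv] at this
  have h3 : t⁻¹ * b * t = v i := by
    refine h.one hν' ?_ ?_ ?_
    · intro h0
      apply hb1
      calc b = t * (t⁻¹ * b * t) * t⁻¹ := by group
        _ = 1 := by rw [h0]; group
    · intro r hr
      rcases h1 (t * r * t⁻¹) ⟨r, hr, rfl⟩ with h4 | h4
      · left
        calc r * (t⁻¹ * ν * t) * r⁻¹ = t⁻¹ * (t * r * t⁻¹ * ν * (t * r * t⁻¹)⁻¹) * t := by group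
          _ = t⁻¹ * ν * t := by rw [h4]
      · right
        calc r * (t⁻¹ * ν * t) * r⁻¹ = t⁻¹ * (t * r * t⁻¹ * ν * (t * r * t⁻¹)⁻¹) * t := by group
          _ = t⁻¹ * b * t * (t⁻¹ * ν * t) := by rw [h4]; group
    · obtain ⟨r, hr, rfl⟩ := hq₁
      have h4 : t * r * t⁻¹ * ν * (t * r * t⁻¹)⁻¹ = b * ν := h2
      refine ⟨r, hr, ?_⟩
      calc r * (t⁻¹ * ν * t) * r⁻¹ = t⁻¹ * (t * r * t⁻¹ * ν * (t * r * t⁻¹)⁻¹) * t := by group
        _ = t⁻¹ * b * t * (t⁻¹ * ν * t) := by rw [h4]; group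
  have h4 : b = v i := by
    calc b = t * (t⁻¹ * b * t) * t⁻¹ := by group
      _ = t * v i * t⁻¹ := by rw [h3]
      _ = v i := conj_of_comm ht
  exact h.v1 i (h.disjVo (h.vV i) (h4 ▸ hb))

include ht htn in
theorem conj_Vo' {x : G} (hx : x ∈ Vo V i) : t⁻¹ * x * t ∈ ⨆ i, V i := by
  refine h.zv ?_ fun q hq => ?_
  · calc t⁻¹ * x * t * (t⁻¹ * x * t) = t⁻¹ * (x * x) * t := by group
      _ = 1 := by rw [h.sup_sq (h.Vo_le_sup hx)]; group
  · have h1 := h.cent_Vo ht htn hx hq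
    calc q * (t⁻¹ * x * t) = t⁻¹ * (t * q * t⁻¹ * x) * t := by group
      _ = t⁻¹ * x * t * q := by rw [h1]; group

include ht htn in
theorem conj_Vo {x : G} (hx : x ∈ Vo V i) : t * x * t⁻¹ ∈ ⨆ i, V i := by
  have := h.conj_Vo' (inv_ht ht) (inv_mem htn) hx
  rwa [inv_inv] at this

omit [Finite ι] in
theorem Vm {x : G} (hx : x ∈ ⨆ i, V i) (hz : x ∈ zc (qz (v i))) : ∃ b ∈ Vo V i, x = b ∨ x = v i * b := by
  obtain ⟨a, ha, b, hb, hab⟩ := h.decomp i hx
  have haz : a ∈ zc (qz (v i)) := by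
    have h1 : a = x * b⁻¹ := by rw [hab]; group
    rw [h1]
    exact mul_mem hz (inv_mem (h.Vo_le_zc i hb))
  refine ⟨b, hb, ?_⟩
  by_cases ha1 : a = 1
  · left
    rw [hab, ha1, one_mul]
  · right
    rw [hab]
    congr 1
    by_contra hne
    obtain ⟨w, hw, hwa⟩ := h.fr.move (h.vV i) ha (h.v1 i) ha1 (Ne.symm hne)
    rw [conj_of_comm ((mem_zc.1 haz).2.1 w (h.fr.KK_le_q (h.vV i) (h.v1 i) hw))] at hwa
    exact h.v1 i (mul_eq_right.1 hwa.symm)

include ht htn in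
/-- **LEMMA 2.** -/
theorem perm_t {l : ι} (hl : l ≠ i) : ∃ m, m ≠ i ∧ t * v l * t⁻¹ = v m := by
  obtain ⟨b, hb, hb1, hvb⟩ := h.fr.exists_other (i := l) (v l)
  obtain ⟨w, hw, hwb⟩ := h.fr.move (h.vV l) hb (h.v1 l) hb1 hvb
  have hwi : w * v i = v i * w := h.KK_Vo (h.vV l) (h.v1 l) hw (le_Vo hl.symm (h.vV i))
  obtain ⟨hgS, hgi⟩ := h.conj_T ht htn (h.KS l hw) hwi
  obtain ⟨m, hm, hum⟩ := h.tv (I := {m | m ≠ i}) (u := t * v l * t⁻¹) hgS (fun m hm x hx => by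
    have hy := h.conj_Vo' ht htn (le_Vo hm hx)
    rcases h.KK_sup (h.vV l) (h.v1 l) hw hy with h1 | h1
    · left
      calc t * w * t⁻¹ * x * (t * w * t⁻¹)⁻¹ = t * (w * (t⁻¹ * x * t) * w⁻¹) * t⁻¹ := by group
        _ = x := by rw [h1]; group
    · right
      calc t * w * t⁻¹ * x * (t * w * t⁻¹)⁻¹ = t * (w * (t⁻¹ * x * t) * w⁻¹) * t⁻¹ := by group
        _ = t * v l * t⁻¹ * x := by rw [h1]; group) (by
    by_contra hc
    push Not at hc
    have h1 : ∀ x ∈ Vo V i, t * w * t⁻¹ * x = x * (t * w * t⁻¹) := by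
      intro x hx
      refine cent_of_closure ?_ hx
      rintro y ⟨m, hm, hy⟩
      exact comm_of_conj (hc m hm y hy)
    have h2 := h.conj_Vo ht htn (le_Vo hl hb)
    have h3 := h.zc_conj ht (h.Vo_le_zc i (le_Vo hl hb))
    obtain ⟨b', hb', h4⟩ := h.Vm h2 h3
    have h5 : t * w * t⁻¹ * (t * b * t⁻¹) = t * b * t⁻¹ * (t * w * t⁻¹) := by
      rcases h4 with h4 | h4
      · rw [h4]
        exact h1 b' hb'
      · rw [h4]
        calc t * w * t⁻¹ * (v i * b') = (t * w * t⁻¹ * v i) * b' := by group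
          _ = v i * (t * w * t⁻¹ * b') := by rw [hgi]; group
          _ = v i * b' * (t * w * t⁻¹) := by rw [h1 b' hb']; group
    have h6 : w * b * w⁻¹ = b := by
      calc w * b * w⁻¹ = t⁻¹ * ((t * w * t⁻¹ * (t * b * t⁻¹)) * (t * w * t⁻¹)⁻¹) * t := by group
        _ = b := by rw [h5]; group
    rw [h6] at hwb
    exact h.v1 l (mul_eq_right.1 hwb.symm))
  exact ⟨m, hm, hum⟩

include ht htn in
/-- **LEMMA 3.** -/
theorem norm_sup [Nontrivial ι] {x : G} (hx : x ∈ ⨆ i, V i) : t * x * t⁻¹ ∈ ⨆ i, V i := by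
  obtain ⟨a, ha, b, hb, rfl⟩ := h.decomp i hx
  have e : t * (a * b) * t⁻¹ = (t * a * t⁻¹) * (t * b * t⁻¹) := by group
  rw [e]
  refine mul_mem ?_ (h.conj_Vo ht htn hb)
  obtain ⟨l, hl⟩ := exists_ne i
  obtain ⟨m, hm, hvm⟩ := h.perm_t ht htn hl
  have hz : t * a * t⁻¹ ∈ zc (qz (v m)) := by
    have h1 := mem_zc.1 (h.V_le_zc hl.symm (h.vV l) (h.v1 l) ha)
    rw [← hvm]
    have h2 : qz (t * v l * t⁻¹) = (qz (v l)).map (MulAut.conj t).toMonoidHom := o2_cent_conj t (v l)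
    rw [h2]
    refine mem_zc.2 ⟨⟨a, h1.1, rfl⟩, ?_, ?_⟩
    · rintro _ ⟨r, hr, rfl⟩
      show t * r * t⁻¹ * (t * a * t⁻¹) = t * a * t⁻¹ * (t * r * t⁻¹)
      calc t * r * t⁻¹ * (t * a * t⁻¹) = t * (r * a) * t⁻¹ := by group
        _ = t * a * t⁻¹ * (t * r * t⁻¹) := by rw [h1.2.1 r hr]; group
    · rw [pow_two]
      calc t * a * t⁻¹ * (t * a * t⁻¹) = t * (a * a) * t⁻¹ := by group
        _ = 1 := by rw [h.fr.sq i a ha]; group
  have hQz : ∀ q ∈ Q, q * (t * a * t⁻¹) * q⁻¹ = t * a * t⁻¹ ∨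
      q * (t * a * t⁻¹) * q⁻¹ = v i * (t * a * t⁻¹) := by
    intro q hq
    obtain ⟨h1, h2⟩ := h.conj_T (inv_ht ht) (inv_mem htn) (h.QS hq) (h.QV i _ (h.vV i) q hq)
    rw [inv_inv] at h1 h2
    rcases h.fix_act h1 h2 ha with h3 | h3
    · left
      calc q * (t * a * t⁻¹) * q⁻¹ = t * (t⁻¹ * q * t * a * (t⁻¹ * q * t)⁻¹) * t⁻¹ := by group
        _ = t * a * t⁻¹ := by rw [h3]
    · right
      calc q * (t * a * t⁻¹) * q⁻¹ = t * (t⁻¹ * q * t * a * (t⁻¹ * q * t)⁻¹) * t⁻¹ := by group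
        _ = (t * v i * t⁻¹) * (t * a * t⁻¹) := by rw [h3]; group
        _ = v i * (t * a * t⁻¹) := by rw [conj_of_comm ht]
  refine h.zv ?_ fun q hq => ?_
  · calc t * a * t⁻¹ * (t * a * t⁻¹) = t * (a * a) * t⁻¹ := by group
      _ = 1 := by rw [h.fr.sq i a ha]; group
  · rcases hQz q hq with h1 | h1
    · exact comm_of_conj h1
    · exfalso
      exact hm (h.v_inj (h.one hz (h.v1 i) hQz ⟨q, hq, h1⟩)).symm

end Sc

/-- **THEOREM**: `C_S(v i)` is a Sylow 2-subgroup of `C_G(v i)`. -/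
theorem Sc.sylow [Finite G] {ι : Type} [Finite ι] [Nontrivial ι] {S : Sylow 2 G} {Q : Subgroup G}
    {V : ι → Subgroup G} {v : ι → G} (h : Sc (S : Subgroup G) Q V v) (i : ι) {R : Subgroup G}
    (hR : IsPGroup 2 R) (hRc : R ≤ cz (v i)) (hTR : (S : Subgroup G) ⊓ cz (v i) ≤ R) :
    R ≤ (S : Subgroup G) ⊓ cz (v i) := by
  by_contra hcon
  set T : Subgroup G := (S : Subgroup G) ⊓ cz (v i) with hT
  obtain ⟨t, htR, htT, htn⟩ := Red.exists_normalizer (F := ⊥) bot_le hTR hcon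
    (fun r _ => by
      rw [mem_normalizer_iff]
      intro x
      simp only [mem_bot]
      constructor
      · rintro rfl
        simp
      · intro h0
        calc x = r⁻¹ * (r * x * r⁻¹) * r := by group
          _ = 1 := by rw [h0]; group)
    (fun y hy => by
      obtain ⟨n, hn⟩ := hR ⟨y, hy⟩
      exact ⟨n, by simpa using congrArg Subtype.val hn⟩)
  have ht : t * v i = v i * t := mem_cent.1 (hRc htR)
  set X : Subgroup G := T ⊔ zpowers t with hX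
  have hXR : X ≤ R := sup_le hTR ((zpowers_le).2 htR)
  have hXn : X ≤ normalizer ((⨆ i, V i : Subgroup G) : Set G) := by
    refine sup_le ?_ ((zpowers_le).2 ?_)
    · exact norm_of fun s hs x hx => h.S_sup hs.1 hx
    · rw [mem_normalizer_iff]
      intro x
      refine ⟨fun hx => h.norm_sup ht htn hx, fun hx => ?_⟩
      have h1 := h.norm_sup (Sc.inv_ht ht) (inv_mem htn) hx
      have e : t⁻¹ * (t * x * t⁻¹) * t⁻¹⁻¹ = x := by group
      rwa [e] at h1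
  have hSn : (S : Subgroup G) ≤ normalizer ((⨆ i, V i : Subgroup G) : Set G) :=
    norm_of fun s hs x hx => h.S_sup hs hx
  obtain ⟨m, hm, hmX⟩ := exists_conj_le S hSn (hR.to_le hXR) hXn
  -- `m v_i m⁻¹` is a centre
  obtain ⟨n, hn⟩ : ∃ n, m * v i * m⁻¹ = v n := by
    obtain ⟨b, hb, hb1, hvb⟩ := h.fr.exists_other (i := i) (v i)
    obtain ⟨w, hw, hwb⟩ := h.fr.move (h.vV i) hb (h.v1 i) hb1 hvb
    have hwT : w ∈ T := mem_inf.2 ⟨h.KS i hw, mem_cent.2 (Fr.KK_comm hw)⟩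
    have hgS := hmX w (le_sup_left (α := Subgroup G) hwT)
    obtain ⟨n, -, hn⟩ := h.tv (I := Set.univ) (u := m * v i * m⁻¹) hgS (fun n _ x hx => by
      have hy : m⁻¹ * x * m ∈ ⨆ i, V i := by
        have := (mem_normalizer_iff.1 (inv_mem hm) x).1 ((le_iSup V n) hx)
        rwa [inv_inv] at this
      rcases h.KK_sup (h.vV i) (h.v1 i) hw hy with h1 | h1
      · left
        calc m * w * m⁻¹ * x * (m * w * m⁻¹)⁻¹ = m * (w * (m⁻¹ * x * m) * w⁻¹) * m⁻¹ := by group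
          _ = x := by rw [h1]; group
      · right
        calc m * w * m⁻¹ * x * (m * w * m⁻¹)⁻¹ = m * (w * (m⁻¹ * x * m) * w⁻¹) * m⁻¹ := by group
          _ = m * v i * m⁻¹ * x := by rw [h1]; group) (by
      by_contra hc
      push Not at hc
      have h1 : m * w * m⁻¹ * (m * b * m⁻¹) = m * b * m⁻¹ * (m * w * m⁻¹) := by
        refine h.cent_sup (fun n x hx => comm_of_conj (hc n (Set.mem_univ n) x hx)) ?_
        exact (mem_normalizer_iff.1 hm b).1 ((le_iSup V i) hb)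
      have h2 : w * b * w⁻¹ = b := by
        calc w * b * w⁻¹ = m⁻¹ * ((m * w * m⁻¹ * (m * b * m⁻¹)) * (m * w * m⁻¹)⁻¹) * m := by group
          _ = b := by rw [h1]; group
      rw [h2] at hwb
      exact h.v1 i (mul_eq_right.1 hwb.symm))
    exact ⟨n, hn⟩
  -- the orders
  obtain ⟨s, hs, hsn⟩ := h.tr i n
  have h1 : X.map (MulAut.conj m).toMonoidHom ≤ T.map (MulAut.conj s).toMonoidHom := by
    rintro _ ⟨x, hx, rfl⟩
    have hxm : m * x * m⁻¹ ∈ (S : Subgroup G) := hmX x hx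
    have hxv : x * v i = v i * x := mem_cent.1 (hRc (hXR hx))
    refine ⟨s⁻¹ * (m * x * m⁻¹) * s, mem_inf.2 ⟨mul_mem (mul_mem (inv_mem hs) hxm) hs, mem_cent.2 ?_⟩, ?_⟩
    · apply comm_of_conj
      have h2 : m * x * m⁻¹ * v n * (m * x * m⁻¹)⁻¹ = v n := by
        rw [← hn]
        calc m * x * m⁻¹ * (m * v i * m⁻¹) * (m * x * m⁻¹)⁻¹ = m * (x * v i * x⁻¹) * m⁻¹ := by group
          _ = m * v i * m⁻¹ := by rw [conj_of_comm hxv]
      calc s⁻¹ * (m * x * m⁻¹) * s * v i * (s⁻¹ * (m * x * m⁻¹) * s)⁻¹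
          = s⁻¹ * (m * x * m⁻¹ * (s * v i * s⁻¹) * (m * x * m⁻¹)⁻¹) * s := by group
        _ = s⁻¹ * v n * s := by rw [hsn, h2]
        _ = v i := by rw [← hsn]; group
    · show s * (s⁻¹ * (m * x * m⁻¹) * s) * s⁻¹ = m * x * m⁻¹
      group
  have h2 : Nat.card X ≤ Nat.card T := by
    have e1 : Nat.card (X.map (MulAut.conj m).toMonoidHom) = Nat.card X :=
      card_map_of_injective (MulAut.conj m).injective
    have e2 : Nat.card (T.map (MulAut.conj s).toMonoidHom) = Nat.card T :=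
      card_map_of_injective (MulAut.conj s).injective
    rw [← e1, ← e2]
    exact card_le_of_le h1
  have h3 : T = X := eq_of_le_of_card_ge le_sup_left h2
  apply htT
  rw [h3]
  exact le_sup_right (α := Subgroup G) (mem_zpowers t)

end Cfsg.Agent.Omega.IId.Big.Syl

end

section


/-!
# II.d, THEOREM A (bb OMEGA 16750, 17530): (G')

`Fr.cent_U` : for at least three blocks and (H2), an element of `W_a` (`a ∈ V i`) which centralises `D_i`
centralises all `U_v`, `v ∈ V j`, `j ≠ i`.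
-/

set_option autoImplicit false
set_option linter.unusedSectionVars false

namespace Cfsg.Agent.Omega.IId.Big

open Subgroup Cfsg
open Cfsg.Agent.ZN (o2 zc)
open Cfsg.Agent.MinSimple.VModule (le_o2 le_normalizer_o2 mem_zc o2_isPGroup o2_le)
open Triangle (KK KK_conj KK_le_o2 mem_cent mem_KK mem_zpowers_iff_of_sq cent_conj o2_cent_conj)

universe u

variable {G : Type u} [Group G]

/-! ### Functionals -/

section phi

open Classical in
/-- the functional of `g` on `U` -/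
noncomputable def phi (U : Subgroup G) (g : G) : U → ZMod 2 := fun u => if g * u = u * g then 0 else 1

variable {U : Subgroup G}

theorem phi_eq {g : G} {u : U} : phi U g u = 0 ↔ g * u = u * g := by
  unfold phi
  split_ifs with h
  · exact ⟨fun _ => h, fun _ => rfl⟩
  · exact ⟨fun h1 => absurd h1 (by decide), fun h1 => absurd h1 h⟩

theorem phi_one {g : G} {u : U} (h : ¬ g * u = u * g) : phi U g u = 1 := by
  unfold phi
  rw [if_neg h]

theorem phi_zero {g : G} {u : U} (h : g * u = u * g) : phi U g u = 0 := phi_eq.2 h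

/-- `g` is a transvection of `U` with centre `w` -/
def Tv (U : Subgroup G) (w g : G) : Prop := g * w = w * g ∧ ∀ u ∈ U, g * u * g⁻¹ = u ∨ g * u * g⁻¹ = w * u

theorem Tv.conj_one {w g : G} (h : Tv U w g) {u : G} (hu : u ∈ U) (h1 : ¬ g * u = u * g) :
    g * u * g⁻¹ = w * u := (h.2 u hu).resolve_left fun h2 => h1 (comm_of_conj h2)

theorem Tv.conj_w {w g : G} (h : Tv U w g) : g * w * g⁻¹ = w := conj_of_comm h.1

theorem phi_mul {w g k : G} (hw1 : w ≠ 1) (hww : w * w = 1) (hg : Tv U w g) (hk : Tv U w k) :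
    phi U (g * k) = phi U g + phi U k := by
  funext u
  rw [Pi.add_apply]
  have e : g * k * u * (g * k)⁻¹ = g * (k * u * k⁻¹) * g⁻¹ := by group
  by_cases h1 : g * u = u * g
  · by_cases h2 : k * u = u * k
    · rw [phi_zero h1, phi_zero h2, phi_zero]
      · decide
      · apply comm_of_conj
        rw [e, conj_of_comm h2, conj_of_comm h1]
    · rw [phi_zero h1, phi_one h2, phi_one]
      · decide
      · intro h3
        apply hw1
        have h4 := conj_of_comm h3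
        rw [e, hk.conj_one u.2 h2] at h4
        have h5 : g * (w * u) * g⁻¹ = (g * w * g⁻¹) * (g * u * g⁻¹) := by group
        rw [h5, hg.conj_w, conj_of_comm h1] at h4
        exact mul_eq_right.1 h4
  · by_cases h2 : k * u = u * k
    · rw [phi_one h1, phi_zero h2, phi_one]
      · decide
      · intro h3
        apply h1
        have h4 := conj_of_comm h3
        rw [e, conj_of_comm h2] at h4
        exact comm_of_conj h4
    · rw [phi_one h1, phi_one h2, phi_zero]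
      · decide
      · apply comm_of_conj
        have h5 : g * (w * u) * g⁻¹ = (g * w * g⁻¹) * (g * u * g⁻¹) := by group
        rw [e, hk.conj_one u.2 h2, h5, hg.conj_w, hg.conj_one u.2 h1, ← mul_assoc, hww, one_mul]

theorem phi_add {w g : G} (hw1 : w ≠ 1) (hww : w * w = 1) (hg : Tv U w g)
    (hU : ∀ u ∈ U, w * u = u * w) (u v : U) : phi U g (u * v) = phi U g u + phi U g v := by
  have e : g * (u * v : G) * g⁻¹ = (g * u * g⁻¹) * (g * v * g⁻¹) := by group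
  by_cases h1 : g * u = u * g
  · by_cases h2 : g * v = v * g
    · rw [phi_zero h1, phi_zero h2, phi_zero]
      · decide
      · apply comm_of_conj
        rw [coe_mul, e, conj_of_comm h2, conj_of_comm h1]
    · rw [phi_zero h1, phi_one h2, phi_one]
      · decide
      · intro h3
        apply hw1
        have h4 := conj_of_comm h3
        rw [coe_mul, e, hg.conj_one v.2 h2, conj_of_comm h1, ← mul_assoc, ← hU u u.2, mul_assoc] at h4
        exact mul_eq_right.1 h4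
  · by_cases h2 : g * v = v * g
    · rw [phi_one h1, phi_zero h2, phi_one]
      · decide
      · intro h3
        apply hw1
        have h4 := conj_of_comm h3
        rw [coe_mul, e, hg.conj_one u.2 h1, conj_of_comm h2, mul_assoc] at h4
        exact mul_eq_right.1 h4
    · rw [phi_one h1, phi_one h2, phi_zero]
      · decide
      · apply comm_of_conj
        rw [coe_mul, e, hg.conj_one u.2 h1, hg.conj_one v.2 h2]
        calc w * u * (w * v) = w * (w * u) * v := by rw [mul_assoc, ← mul_assoc (u : G) w v, ← hU u u.2]; group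
          _ = (w * w) * (u * v) := by group
          _ = u * v := by rw [hww, one_mul]

/-- conjugation: `phi (g k g⁻¹) = phi k + phi g` -/
theorem phi_cj {w w' g k : G} (hw1' : w' ≠ 1) (hww : w * w = 1) (hww' : w' * w' = 1) (hwU : w ∈ U)
    (hg : Tv U w g) (hk : Tv U w' k) (hc : w * w' = w' * w) (hkw : ¬ k * w = w * k) :
    phi U (g * k * g⁻¹) = phi U k + phi U g := by
  funext u
  rw [Pi.add_apply]
  have e0 : (g * k * g⁻¹) * u = u * (g * k * g⁻¹) ↔ k * (g⁻¹ * u * g) = (g⁻¹ * u * g) * k := by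
    constructor
    · intro h
      calc k * (g⁻¹ * u * g) = g⁻¹ * ((g * k * g⁻¹) * u) * g := by group
        _ = (g⁻¹ * u * g) * k := by rw [h]; group
    · intro h
      calc (g * k * g⁻¹) * u = g * (k * (g⁻¹ * u * g)) * g⁻¹ := by group
        _ = u * (g * k * g⁻¹) := by rw [h]; group
  by_cases h1 : g * u = u * g
  · have h2 : g⁻¹ * u * g = u := by
      calc g⁻¹ * u * g = g⁻¹ * (u * g) := by group
        _ = u := by rw [← h1]; group
    rw [h2] at e0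
    rw [phi_zero h1, add_zero]
    by_cases h3 : k * u = u * k
    · rw [phi_zero h3, phi_zero (e0.2 h3)]
    · rw [phi_one h3, phi_one fun h4 => h3 (e0.1 h4)]
  · have h2 : g⁻¹ * u * g = w * u := by
      have h3 := hg.conj_one u.2 h1
      have h4 : g⁻¹ * (w * u) * g = u := by rw [← h3]; group
      have h5 : g⁻¹ * w * g = w := by
        calc g⁻¹ * w * g = g⁻¹ * (w * g) := by group
          _ = w := by rw [← hg.1]; group
      have h6 : g⁻¹ * (w * u) * g = (g⁻¹ * w * g) * (g⁻¹ * u * g) := by group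
      rw [h6, h5] at h4
      calc g⁻¹ * u * g = (w * w) * (g⁻¹ * u * g) := by rw [hww, one_mul]
        _ = w * u := by rw [mul_assoc, h4]
    rw [h2] at e0
    have e : k * (w * u : G) * k⁻¹ = (k * w * k⁻¹) * (k * u * k⁻¹) := by group
    have h3 := hk.conj_one hwU hkw
    rw [phi_one h1]
    by_cases h4 : k * u = u * k
    · rw [phi_zero h4, phi_one]
      · decide
      · intro h5
        have h6 := conj_of_comm (e0.1 h5)
        rw [e, h3, conj_of_comm h4, mul_assoc] at h6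
        exact hw1' (mul_eq_right.1 h6)
    · rw [phi_one h4, phi_zero]
      · decide
      · apply e0.2
        apply comm_of_conj
        rw [e, h3, hk.conj_one u.2 h4]
        calc w' * w * (w' * u) = w' * (w * w') * u := by group
          _ = (w' * w') * (w * u) := by rw [hc]; group
          _ = w * u := by rw [hww', one_mul]

end phi

/-! ### The data at a base point -/

namespace Fr

variable {ι : Type} {S : Subgroup G} {V : ι → Subgroup G} [Finite G] (h : Fr S V)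

/-- the centres of the block `i` in `U_v` -/
def Ks (V : ι → Subgroup G) (i j : ι) (v : G) : Set (UU V j v) :=
  {c | ∃ x ∈ cz v, ∃ a ∈ V i, a ≠ 1 ∧ (c : G) = x * a * x⁻¹}

/-- the functionals -/
def Fs (V : ι → Subgroup G) (j : ι) (v : G) (c : UU V j v) : Set (UU V j v → ZMod 2) :=
  {φ | ∃ g ∈ KK (c : G), φ = phi (UU V j v) g}

include h

omit [Finite G] in
theorem U_le_qc (hH : H2 V) {i j : ι} (hij : j ≠ i) {v x a : G} (hv : v ∈ V j) (hv1 : v ≠ 1)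
    (ha : a ∈ V i) (ha1 : a ≠ 1) (hx : x ∈ cz v) : UU V j v ≤ qz (x * a * x⁻¹) := by
  intro u hu
  have h1 : x⁻¹ * u * x ∈ UU V j v := by
    have := conj_mem cz_norm_UU (inv_mem hx) hu
    rwa [inv_inv] at this
  have h2 := hH j i hij v hv hv1 a ha ha1 h1
  show u ∈ ZN.o2 (centralizer ({x * a * x⁻¹} : Set G))
  rw [o2_cent_conj]
  exact ⟨x⁻¹ * u * x, h2, by simp [mul_assoc]⟩

omit [Finite G] in
theorem sqc {i : ι} {x a : G} (ha : a ∈ V i) : x * a * x⁻¹ * (x * a * x⁻¹) = 1 := by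
  calc x * a * x⁻¹ * (x * a * x⁻¹) = x * (a * a) * x⁻¹ := by group
    _ = 1 := by rw [h.sq i a ha]; group

omit [Finite G] h in
theorem ne_c {x a : G} (ha1 : a ≠ 1) : x * a * x⁻¹ ≠ 1 := by
  intro h1
  apply ha1
  have : a = x⁻¹ * (x * a * x⁻¹) * x := by group
  rw [this, h1]; group

omit [Finite G] in
theorem tv (hH : H2 V) {i j : ι} (hij : j ≠ i) {v x a g : G} (hv : v ∈ V j) (hv1 : v ≠ 1)
    (ha : a ∈ V i) (ha1 : a ≠ 1) (hx : x ∈ cz v) (hg : g ∈ KK (x * a * x⁻¹)) :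
    Tv (UU V j v) (x * a * x⁻¹) g := by
  refine ⟨(mem_KK.1 hg).1, fun u hu => ?_⟩
  have h1 := (mem_KK.1 hg).2 u (h.U_le_qc hH hij hv hv1 ha ha1 hx hu)
  rcases (mem_zpowers_iff_of_sq (h.sqc ha)).1 h1 with h2 | h2
  · left; exact mul_inv_eq_one.1 h2
  · right; exact mul_inv_eq_iff_eq_mul.1 h2

/-- two centres of the same block are conjugate in `C_v` -/
theorem conj_c {i j : ι} (hij : j ≠ i) {v x a x' a' : G} (hv : v ∈ V j)
    (ha : a ∈ V i) (ha1 : a ≠ 1) (hx : x ∈ cz v) (ha' : a' ∈ V i) (ha1' : a' ≠ 1) (hx' : x' ∈ cz v) :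
    ∃ y ∈ cz v, y * (x * a * x⁻¹) * y⁻¹ = x' * a' * x'⁻¹ := by
  by_cases haa : a = a'
  · subst haa
    refine ⟨x' * x⁻¹, mul_mem hx' (inv_mem hx), by group⟩
  · have hb : a * a' ∈ V i := mul_mem ha ha'
    have hb1 : a * a' ≠ 1 := by
      intro h1
      apply haa
      exact mul_left_cancel ((h.sq i a ha).trans h1.symm)
    have hba : a * a' ≠ a := fun h1 => ha1' (mul_eq_left.1 h1)
    obtain ⟨g, hg, h1⟩ := h.move hb ha hb1 ha1 hba
    have h2 : a * a' * a = a' := by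
      rw [h.comm i i a ha a' ha', mul_assoc, h.sq i a ha, mul_one]
    rw [h2] at h1
    refine ⟨x' * g * x⁻¹, mul_mem (mul_mem hx' (h.KK_le hij hb hb1 hv hg)) (inv_mem hx), ?_⟩
    calc x' * g * x⁻¹ * (x * a * x⁻¹) * (x' * g * x⁻¹)⁻¹ = x' * (g * a * g⁻¹) * x'⁻¹ := by group
      _ = x' * a' * x'⁻¹ := by rw [h1]

theorem card_le {j : ι} {v : G} {c c' : UU V j v} {y : G} (hy : y ∈ cz v)
    (hc : y * (c : G) * y⁻¹ = c') : Nat.card (Fs V j v c) ≤ Nat.card (Fs V j v c') := by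
  have hyU : ∀ u ∈ UU V j v, y⁻¹ * u * y ∈ UU V j v := fun u hu => by
    have := conj_mem cz_norm_UU (inv_mem hy) hu
    rwa [inv_inv] at this
  have hyU' : ∀ u ∈ UU V j v, y * u * y⁻¹ ∈ UU V j v := fun u hu => conj_mem cz_norm_UU hy hu
  let T : (UU V j v → ZMod 2) → (UU V j v → ZMod 2) := fun φ u => φ ⟨y⁻¹ * u * y, hyU u u.2⟩
  have hT : Function.Injective T := by
    intro φ ψ hφψ
    funext u
    have h1 := congrFun hφψ ⟨y * u * y⁻¹, hyU' u u.2⟩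
    have h2 : (⟨y⁻¹ * (y * u * y⁻¹) * y, hyU _ (hyU' u u.2)⟩ : UU V j v) = u := Subtype.ext (by
      show y⁻¹ * (y * u * y⁻¹) * y = u
      group)
    simp only [T, h2] at h1
    exact h1
  rw [Nat.card_coe_set_eq, Nat.card_coe_set_eq]
  refine Set.ncard_le_ncard_of_injOn T ?_ hT.injOn ?_
  · rintro _ ⟨g, hg, rfl⟩
    refine ⟨y * g * y⁻¹, ?_, ?_⟩
    · have := KK_conj (h := y) hg
      rwa [hc] at this
    · funext u
      show phi _ g ⟨y⁻¹ * u * y, _⟩ = _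
      have e0 : (y * g * y⁻¹) * u = u * (y * g * y⁻¹) ↔ g * (y⁻¹ * u * y) = (y⁻¹ * u * y) * g := by
        constructor
        · intro h
          calc g * (y⁻¹ * u * y) = y⁻¹ * ((y * g * y⁻¹) * u) * y := by group
            _ = (y⁻¹ * u * y) * g := by rw [h]; group
        · intro h
          calc (y * g * y⁻¹) * u = y * (g * (y⁻¹ * u * y)) * y⁻¹ := by group
            _ = u * (y * g * y⁻¹) := by rw [h]; group
      by_cases h1 : (y * g * y⁻¹) * u = u * (y * g * y⁻¹)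
      · rw [phi_zero h1, phi_zero (e0.1 h1)]
      · rw [phi_one h1, phi_one fun h2 => h1 (e0.2 h2)]
  · have h1 : Fs V j v c' ⊆ Set.range fun g : KK (c' : G) => phi (UU V j v) g := by
      rintro _ ⟨g, hg, rfl⟩
      exact ⟨⟨g, hg⟩, rfl⟩
    exact (Set.toFinite _).subset h1

/-- **The data of `TL`.** -/
theorem dat (hH : H2 V) {i j : ι} (hij : j ≠ i) {v : G} (hv : v ∈ V j) (hv1 : v ≠ 1) :
    TL.Dat (Ks V i j v) (Fs V j v) where
  add := by
    rintro c ⟨x, hx, a, ha, ha1, hc⟩ _ ⟨g, hg, rfl⟩ _ ⟨k, hk, rfl⟩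
    refine ⟨g * k, mul_mem hg hk, ?_⟩
    rw [hc] at hg hk
    exact (phi_mul (ne_c ha1) (h.sqc ha) (h.tv hH hij hv hv1 ha ha1 hx hg)
      (h.tv hH hij hv hv1 ha ha1 hx hk)).symm
  kill := by
    rintro c _ _ ⟨g, hg, rfl⟩
    exact phi_zero (mem_KK.1 hg).1
  cj := by
    rintro c ⟨x, hx, a, ha, ha1, hc⟩ c' ⟨x', hx', a', ha', ha1', hc'⟩ _ ⟨g, hg, rfl⟩ _ ⟨k, hk, rfl⟩ h1 h2
    rw [phi_eq] at h1
    have h2' : ¬ k * c = c * k := fun h3 => h2 (phi_zero h3)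
    refine ⟨g * k * g⁻¹, ?_, ?_⟩
    · have h3 := KK_conj (h := g) hk
      rwa [conj_of_comm h1] at h3
    · have hcc : (c : G) * c' = c' * c := h.U_comm hv hv1 c.2 c'.2
      have hcU := c.2
      rw [hc] at hg hcU hcc h2'
      rw [hc'] at hk hcc
      exact (phi_cj (ne_c ha1') (h.sqc ha) (h.sqc ha') hcU (h.tv hH hij hv hv1 ha ha1 hx hg)
        (h.tv hH hij hv hv1 ha' ha1' hx' hk) hcc h2').symm
  fin := by
    intro c _
    have h1 : Fs V j v c ⊆ Set.range fun g : KK (c : G) => phi (UU V j v) g := by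
      rintro _ ⟨g, hg, rfl⟩
      exact ⟨⟨g, hg⟩, rfl⟩
    exact (Set.toFinite _).subset h1
  card := by
    rintro c ⟨x, hx, a, ha, ha1, hc⟩ c' ⟨x', hx', a', ha', ha1', hc'⟩
    obtain ⟨y, hy, h1⟩ := h.conj_c hij hv ha ha1 hx ha' ha1' hx'
    obtain ⟨y', hy', h1'⟩ := h.conj_c hij hv ha' ha1' hx' ha ha1 hx
    rw [← hc, ← hc'] at h1
    rw [← hc, ← hc'] at h1'
    exact le_antisymm (h.card_le hy h1) (h.card_le hy' h1')
  sep := by
    rintro c ⟨x, hx, a, ha, ha1, hc⟩ _ ⟨g, hg, rfl⟩ hne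
    by_contra hcon
    push Not at hcon
    apply hne
    have h1 : g ∈ qz v := by
      refine h.zero (N := cl (V i) (cz v)) hij hv ha ha1 hx cl_norm (conj_mem_cl hx ha) ⟨hc ▸ hg, ?_⟩
      refine mem_centralizer_iff.2 fun y hy => ?_
      refine (cent_of_cl ?_ hy).symm
      intro z hz b hb
      by_cases hb1 : b = 1
      · subst hb1; simp
      · have hbU : z * b * z⁻¹ ∈ UU V j v := conj_mem cz_norm_UU hz (V_le_UU (Ne.symm hij) hb)
        exact phi_eq.1 (hcon ⟨_, hbU⟩ ⟨z, hz, b, hb, hb1, rfl⟩)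
    funext u
    exact phi_zero (h.U_cent hv hv1 u.2 h1)

/-- neighbours centralise the other blocks -/
theorem nbr (hH : H2 V) {i j : ι} (hij : j ≠ i) {v a g₁ g : G} (hv : v ∈ V j) (hv1 : v ≠ 1)
    (ha : a ∈ V i) (ha1 : a ≠ 1) (hg₁ : g₁ ∈ KK a) (hg₁V : ∀ x ∈ V i, g₁ * x = x * g₁)
    (hg₁U : ∃ u ∈ UU V j v, g₁ * u ≠ u * g₁) {c : UU V j v} (hc : c ∈ Ks V i j v)
    (hg : g ∈ KK a) (hgc : g * (c : G) ≠ c * g) {l : ι} (hli : l ≠ i) (hlj : l ≠ j) :
    ∀ k ∈ KK (c : G), ∀ p ∈ V l, k * p = p * k := by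
  intro k hk p hp
  have D := h.dat hH hij hv hv1
  obtain ⟨b, hb, hb1, hab⟩ := h.exists_other (i := i) a
  obtain ⟨g₂, hg₂, h2⟩ := h.move ha hb ha1 hb1 hab
  have hd1 : a * b ≠ 1 := fun h3 => hab (mul_left_cancel ((h.sq i a ha).trans h3.symm))
  have hU : ∀ {x : G}, x ∈ V i → x ∈ UU V j v := fun hx => V_le_UU (Ne.symm hij) hx
  have hK : ∀ {x : G} (hx : x ∈ V i), x ≠ 1 → (⟨x, hU hx⟩ : UU V j v) ∈ Ks V i j v := fun hx hx1 =>
    ⟨1, one_mem _, _, hx, hx1, by simp⟩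
  have h2b : ¬ g₂ * b = b * g₂ := by
    intro h3
    rw [conj_of_comm h3] at h2
    exact ha1 (mul_eq_right.1 h2.symm)
  have h2d : ¬ g₂ * (a * b) = a * b * g₂ := by
    intro h3
    apply h2b
    have h4 := (mem_KK.1 hg₂).1
    have h5 : a * (g₂ * b) = a * (b * g₂) := by
      calc a * (g₂ * b) = (a * g₂) * b := by group
        _ = g₂ * (a * b) := by rw [← h4]; group
        _ = a * (b * g₂) := by rw [h3]; group
    exact mul_left_cancel h5
  have hpU : p ∈ UU V j v := V_le_UU hlj hp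
  have hkill : ∀ {x : G} (hx : x ∈ V i) (hx1 : x ≠ 1), ∀ φ ∈ Fs V j v ⟨x, hU hx⟩,
      φ ⟨p, hpU⟩ = 0 := by
    rintro x hx hx1 _ ⟨m, hm, rfl⟩
    exact phi_zero (mem_cent.1 (h.KK_le hli hx hx1 hp hm))
  obtain ⟨u, hu, hgu⟩ := hg₁U
  have hker := D.exists_ker (hK ha ha1) hc (φ₁ := phi _ g₁) (φ₂ := phi _ g₂) ⟨g₁, hg₁, rfl⟩ ⟨g₂, hg₂, rfl⟩
    (fun h3 => hgu (phi_eq.1 (congrFun h3 ⟨u, hu⟩)))
    (fun h3 => h2b (phi_eq.1 (congrFun h3 ⟨b, hU hb⟩)))
    (fun h3 => by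
      have h4 := congrFun h3 ⟨b, hU hb⟩
      rw [phi_zero (hg₁V b hb)] at h4
      exact h2b (phi_eq.1 h4.symm)) ⟨a, hU ha⟩
  refine phi_eq.1 (D.main (hK ha ha1) (hK hb hb1) (hK (mul_mem ha hb) hd1) hc ?_
    ⟨_, ⟨g₂, hg₂, rfl⟩, fun h3 => h2b (phi_eq.1 h3)⟩ ⟨_, ⟨g₂, hg₂, rfl⟩, fun h3 => h2d (phi_eq.1 h3)⟩
    (hkill ha ha1) (hkill hb hb1) (hkill (mul_mem ha hb) hd1)
    ⟨_, ⟨g, hg, rfl⟩, fun h3 => hgc (phi_eq.1 h3)⟩ hker _ ⟨k, hk, rfl⟩ (p := ⟨p, hpU⟩))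
  rintro _ ⟨m, hm, rfl⟩
  obtain ⟨x, hx, a', ha', ha1', hc'⟩ := hc
  rw [hc'] at hm
  have h3 := phi_add (ne_c ha1') (h.sqc ha') (h.tv hH hij hv hv1 ha' ha1' hx hm) (fun y hy =>
    h.U_comm hv hv1 (hc' ▸ c.2) hy) ⟨a, hU ha⟩ ⟨b, hU hb⟩
  rw [show (⟨a * b, hU (mul_mem ha hb)⟩ : UU V j v) = ⟨a, hU ha⟩ * ⟨b, hU hb⟩ from rfl, h3]
  exact CharTwo.add_self_eq_zero _

/-- **(G').** -/
theorem cent_U (hH : H2 V) (hk : ∀ i j : ι, ∃ l, l ≠ i ∧ l ≠ j) {i j : ι} (hij : j ≠ i) {v a g : G}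
    (hv : v ∈ V j) (hv1 : v ≠ 1) (ha : a ∈ V i) (ha1 : a ≠ 1) (hg : g ∈ KK a)
    (hgD : ∀ x ∈ DD V i, g * x = x * g) : ∀ u ∈ UU V j v, g * u = u * g := by
  by_contra hcon
  push Not at hcon
  obtain ⟨u, hu, hgu⟩ := hcon
  have hVD : V i ≤ DD V i := fun x hx => mem_DD.2 fun l hl p _ _ => V_le_UU (Ne.symm hl) hx
  have hgV : ∀ x ∈ V i, g * x = x * g := fun x hx => hgD x (hVD hx)
  have D := h.dat hH hij hv hv1
  have haU : ∀ {l : ι} {p : G}, l ≠ i → a ∈ UU V l p := fun hl => V_le_UU (Ne.symm hl) ha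
  have haK : (⟨a, haU hij⟩ : UU V j v) ∈ Ks V i j v := ⟨1, one_mem _, a, ha, ha1, by simp⟩
  obtain ⟨c, hc, hgc⟩ := D.sep ⟨a, haU hij⟩ haK (phi _ g) ⟨g, hg, rfl⟩
    (fun h3 => hgu (phi_eq.1 (congrFun h3 ⟨u, hu⟩)))
  have hgc' : ¬ g * (c : G) = c * g := fun h3 => hgc (phi_zero h3)
  obtain ⟨ψ, ⟨k, hkc, rfl⟩, hka⟩ := D.adj_symm hc haK ⟨_, ⟨g, hg, rfl⟩, hgc⟩
  have hka' : ¬ k * a = a * k := fun h3 => hka (phi_zero h3)
  have hcU := c.2
  obtain ⟨x, hx, a', ha', ha1', hc'⟩ := id hc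
  -- `y a y⁻¹ = c`
  have hya : (g * k) * a * (g * k)⁻¹ = c := by
    have h1 : k * a * k⁻¹ = c * a := by
      have h2 := h.tv hH hij hv hv1 ha' ha1' hx (hc' ▸ hkc)
      have h3 := h2.conj_one (haU hij) hka'
      rwa [← hc'] at h3
    have h2 : g * (c : G) * g⁻¹ = a * c := by
      have h3 := h.tv hH hij hv hv1 ha ha1 (one_mem _) (g := g) (by simpa using hg)
      have h4 := h3.conj_one hcU hgc'
      simpa using h4
    have h3 : g * a * g⁻¹ = a := conj_of_comm (mem_KK.1 hg).1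
    calc (g * k) * a * (g * k)⁻¹ = g * (k * a * k⁻¹) * g⁻¹ := by group
      _ = (g * (c : G) * g⁻¹) * (g * a * g⁻¹) := by rw [h1]; group
      _ = (a * a) * c := by
          rw [h2, h3, mul_assoc, h.U_comm hv hv1 hcU (haU hij)]; group
      _ = c := by rw [h.sq i a ha, one_mul]
  -- membership
  have hmem : ∀ {l : ι} {p : G}, l ≠ i → p ∈ V l → (∀ m ∈ KK (c : G), m * p = p * m) →
      (g * k) ∈ cz p ∧ (c : G) ∈ UU V l p := by
    intro l p hl hp hm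
    have h1 : g * k ∈ cz p := mul_mem (h.KK_le hl ha ha1 hp hg) (mem_cent.2 (hm k hkc))
    refine ⟨h1, ?_⟩
    rw [← hya]
    exact conj_mem cz_norm_UU h1 (haU hl)
  have hn1 : ∀ l, l ≠ i → l ≠ j → ∀ m ∈ KK (c : G), ∀ p ∈ V l, m * p = p * m := fun l hl hlj =>
    h.nbr hH hij hv hv1 ha ha1 hg hgV ⟨u, hu, hgu⟩ hc hg hgc' hl hlj
  -- the second base
  have hn2 : ∀ m ∈ KK (c : G), ∀ p ∈ V j, m * p = p * m := by
    obtain ⟨l, hli, hlj⟩ := hk i j
    obtain ⟨p, hp, -, -, hp1, -, -⟩ := h.exists_two l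
    obtain ⟨h1, h2⟩ := hmem hli hp fun m hm => hn1 l hli hlj m hm p hp
    exact h.nbr hH hli hp hp1 ha ha1 hg hgV ⟨c, h2, hgc'⟩ (c := ⟨c, h2⟩) ⟨g * k, h1, a, ha, ha1, hya.symm⟩ hg
      hgc' hij (Ne.symm hlj)
  have hcD : (c : G) ∈ DD V i := by
    refine mem_DD.2 fun l hl p hp _ => (hmem hl hp fun m hm => ?_).2
    by_cases hlj : l = j
    · subst hlj; exact hn2 m hm p hp
    · exact hn1 l hl hlj m hm p hp
  exact hgc' (hgD c hcD)

end Fr

end Cfsg.Agent.Omega.IId.Big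

end

section


/-!
# II.d, THEOREM A (bb OMEGA 17530): (GL)

* `exists_cent` : duality: if the elements of `A` (transvections of `Y` with centre `a`) which centralise `D`
  centralise `Y`, then `Y = D C_Y(A)`;
* `Gl V i Y` : the hypotheses of (GL) for the block `i`;
* `Fr.glue` : `Y = (∏_{i ∈ J} D_i) C_Y(X^i : i ∈ J)`;
* `Fr.cent_DD` : `X^j` centralises `D_i`, `j ≠ i`;
* `Fr.cent_X` : `W_a`, `W_b` (`a ≠ b` in `V i`) generate `X^i` on elements.
-/

set_option autoImplicit false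
set_option linter.unusedSectionVars false

namespace Cfsg.Agent.Omega.IId.Big

open Subgroup Cfsg
open Cfsg.Agent.ZN (o2 zc)
open Cfsg.Agent.MinSimple.VModule (le_o2 le_normalizer_o2 mem_zc o2_isPGroup o2_le)
open Triangle (KK KK_conj KK_le_o2 mem_cent mem_KK mem_zpowers_iff_of_sq cent_conj o2_cent_conj)

universe u

variable {G : Type u} [Group G]

/-! ### Duality -/

section dual

/-- two transvections which both move `x` : the product does not -/
theorem mul_fix {Y : Subgroup G} {a g k x : G} (ha1 : a ≠ 1) (haa : a * a = 1) (hg : Tv Y a g) (hk : Tv Y a k)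
    (hx : x ∈ Y) : (g * k * x = x * (g * k)) ↔ (g * x = x * g ↔ k * x = x * k) := by
  have h1 := congrFun (phi_mul ha1 haa hg hk) ⟨x, hx⟩
  rw [Pi.add_apply] at h1
  have h2 := @phi_eq G _ Y (g * k) ⟨x, hx⟩
  rw [h1] at h2
  have h3 := @phi_eq G _ Y g ⟨x, hx⟩
  have h4 := @phi_eq G _ Y k ⟨x, hx⟩
  simp only at h2 h3 h4
  rw [← h2, ← h3, ← h4]
  generalize phi Y g ⟨x, hx⟩ = p
  generalize phi Y k ⟨x, hx⟩ = q
  revert p q
  decide

theorem fix_mul {Y : Subgroup G} {a g x y : G} (ha1 : a ≠ 1) (haa : a * a = 1) (hg : Tv Y a g)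
    (haY : ∀ u ∈ Y, a * u = u * a) (hx : x ∈ Y) (hy : y ∈ Y) :
    (g * (x * y) = x * y * g) ↔ (g * x = x * g ↔ g * y = y * g) := by
  have h1 := phi_add ha1 haa hg haY ⟨x, hx⟩ ⟨y, hy⟩
  have h2 := @phi_eq G _ Y g (⟨x, hx⟩ * ⟨y, hy⟩)
  rw [h1] at h2
  have h3 := @phi_eq G _ Y g ⟨x, hx⟩
  have h4 := @phi_eq G _ Y g ⟨y, hy⟩
  simp only [coe_mul] at h2 h3 h4
  rw [← h2, ← h3, ← h4]
  generalize phi Y g ⟨x, hx⟩ = p
  generalize phi Y g ⟨y, hy⟩ = q
  revert p q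
  decide

theorem sep_ind {Y D : Subgroup G} {a : G} (ha1 : a ≠ 1) (haa : a * a = 1) (haY : ∀ u ∈ Y, a * u = u * a)
    (hDY : D ≤ Y) : ∀ (l : List G), (∀ d ∈ l, d ∈ D) → ∀ A : Subgroup G, (∀ g ∈ A, Tv Y a g) → ∀ y ∈ Y,
    (∀ g ∈ A, (∀ d ∈ l, g * d = d * g) → g * y = y * g) → ∃ d ∈ D, ∀ g ∈ A, g * (y * d) = y * d * g := by
  intro l
  induction l with
  | nil =>
    intro _ A hA y hy h1
    refine ⟨1, one_mem _, fun g hg => ?_⟩
    rw [mul_one]
    exact h1 g hg (by simp)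
  | cons d₀ l ih =>
    intro hl A hA y hy h1
    have hd₀ : d₀ ∈ D := hl d₀ (by simp)
    obtain ⟨d', hd', h2⟩ := ih (fun d hd => hl d (List.mem_cons_of_mem _ hd)) (A ⊓ centralizer ({d₀} : Set G))
      (fun g hg => hA g hg.1) y hy (fun g hg hgl => h1 g hg.1 (by
        intro d hd
        rcases List.mem_cons.1 hd with rfl | hd
        · exact mem_cent.1 hg.2
        · exact hgl d hd))
    have hyd : y * d' ∈ Y := mul_mem hy (hDY hd')
    by_cases h3 : ∀ g ∈ A, g * (y * d') = y * d' * g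
    · exact ⟨d', hd', h3⟩
    · push Not at h3
      obtain ⟨g₀, hg₀, h4⟩ := h3
      have h5 : ¬ g₀ * d₀ = d₀ * g₀ := fun h5 => h4 (h2 g₀ ⟨hg₀, mem_cent.2 h5⟩)
      refine ⟨d' * d₀, mul_mem hd' hd₀, fun g hg => ?_⟩
      rw [← mul_assoc y d' d₀, fix_mul ha1 haa (hA g hg) haY hyd (hDY hd₀)]
      constructor
      · intro h6
        by_contra h7
        have h8 := (mul_fix ha1 haa (hA g hg) (hA g₀ hg₀) (hDY hd₀)).2 (iff_of_false h7 h5)
        have h9 := h2 (g * g₀) ⟨mul_mem hg hg₀, mem_cent.2 h8⟩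
        exact h4 (((mul_fix ha1 haa (hA g hg) (hA g₀ hg₀) hyd).1 h9).1 h6)
      · intro h6
        exact h2 g ⟨hg, mem_cent.2 h6⟩

/-- **Duality.** -/
theorem exists_cent [Finite G] {Y D A : Subgroup G} {a : G} (ha1 : a ≠ 1) (haa : a * a = 1)
    (haY : ∀ u ∈ Y, a * u = u * a) (hDY : D ≤ Y) (hA : ∀ g ∈ A, Tv Y a g)
    (hker : ∀ g ∈ A, (∀ d ∈ D, g * d = d * g) → ∀ y ∈ Y, g * y = y * g) {y : G} (hy : y ∈ Y) :
    ∃ d ∈ D, ∀ g ∈ A, g * (y * d) = y * d * g := by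
  classical
  have hfin : (D : Set G).Finite := Set.toFinite _
  refine sep_ind ha1 haa haY hDY hfin.toFinset.toList (fun d hd => by simpa using hd) A hA y hy ?_
  intro g hg h1
  exact hker g hg (fun d hd => h1 d (by simpa using hd)) y hy

end dual

/-- the hypotheses of (GL) -/
structure Gl {ι : Type} (V : ι → Subgroup G) (i : ι) (Y : Subgroup G) : Prop where
  tv : ∀ v ∈ V i, v ≠ 1 → ∀ g ∈ KK v, Tv Y v g
  le : DD V i ≤ Y
  ker : ∀ v ∈ V i, v ≠ 1 → ∀ g ∈ KK v, (∀ d ∈ DD V i, g * d = d * g) → ∀ y ∈ Y, g * y = y * g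

namespace Fr

variable {ι : Type} {S : Subgroup G} {V : ι → Subgroup G} [Finite G] (h : Fr S V)
include h

omit h in
theorem V_le_DD (i : ι) : V i ≤ DD V i :=
  fun _ hx => mem_DD.2 fun _ hl _ _ _ => V_le_UU (Ne.symm hl) hx

/-- `X^j` centralises `D_i` -/
theorem cent_DD {i j : ι} (hij : j ≠ i) : ∀ g ∈ XX V j, ∀ x ∈ DD V i, g * x = x * g := by
  intro g hg x hx
  exact cent_of_XX (fun v hv hv1 k hk =>
    h.U_cent hv hv1 (mem_DD.1 hx j hij v hv hv1) (h.KK_le_q hv hv1 hk)) g hg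

/-- `W_a`, `W_b` centralise `y` implies that `X^i` does -/
theorem cent_X {i : ι} {a b y : G} (ha : a ∈ V i) (hb : b ∈ V i) (ha1 : a ≠ 1) (hb1 : b ≠ 1) (hab : a ≠ b)
    (h1 : ∀ g ∈ KK a, g * y = y * g) (h2 : ∀ g ∈ KK b, g * y = y * g) : ∀ g ∈ XX V i, g * y = y * g := by
  refine cent_of_XX fun v hv hv1 g hg => ?_
  rcases h.cases4 ha hb ha1 hb1 hab hv with rfl | rfl | rfl | rfl
  · exact absurd rfl hv1
  · exact h1 g hg
  · exact h2 g hg
  · obtain ⟨s, hs, h3⟩ := h.move ha hb ha1 hb1 hab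
    have h4 : s⁻¹ * g * s ∈ KK b := by
      have h5 := KK_conj (h := s⁻¹) hg
      have e : s⁻¹ * (a * b) * s⁻¹⁻¹ = b := by
        rw [← h3]; group
      rw [e, inv_inv] at h5
      exact h5
    have h5 := h2 _ h4
    have h6 := h1 s hs
    have h7 : s⁻¹ * y = y * s⁻¹ := by
      calc s⁻¹ * y = s⁻¹ * (y * s) * s⁻¹ := by group
        _ = y * s⁻¹ := by rw [← h6]; group
    calc g * y = s * (s⁻¹ * g * s) * (s⁻¹ * y) := by group
      _ = s * ((s⁻¹ * g * s) * y) * s⁻¹ := by rw [h7]; group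
      _ = (s * y) * (s⁻¹ * g * s) * s⁻¹ := by rw [h5]; group
      _ = y * g := by rw [h6]; group

/-- the second step of (GL) -/
theorem second {i : ι} {Y : Subgroup G} (hY : ∀ x ∈ Y, ∀ y ∈ Y, x * y = y * x) {a b y : G} (ha : a ∈ V i)
    (hb : b ∈ V i) (ha1 : a ≠ 1) (hb1 : b ≠ 1) (hab : a ≠ b) (haY : a ∈ Y) (hbY : b ∈ Y)
    (tb : ∀ g ∈ KK b, Tv Y b g) (hy : y ∈ Y) (h1 : ∀ g ∈ KK a, g * y = y * g) :
    (∀ g ∈ XX V i, g * y = y * g) ∨ (∀ g ∈ XX V i, g * (y * a) = y * a * g) := by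
  obtain ⟨s, hs, hsb⟩ := h.move ha hb ha1 hb1 hab
  obtain ⟨g₀, hg₀, hg₀a⟩ := h.move hb ha hb1 ha1 (Ne.symm hab)
  have haa := h.sq i a ha
  have hbb := h.sq i b hb
  have hcomm := h.comm i i a ha b hb
  have hbu : ∀ u ∈ Y, b * u = u * b := fun u hu => hY b hbY u hu
  -- the elements of `W_b` which centralise `a`
  have key : ∀ g ∈ KK b, g * a = a * g → g * y = y * g := by
    intro g hg hga
    by_contra hcon
    have h2 : g * y * g⁻¹ = b * y := (tb g hg).conj_one hy hcon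
    have h3 : s * (g * s⁻¹ * g⁻¹) ∈ KK a := by
      refine mul_mem hs ?_
      have h4 := KK_conj (h := g) ((KK a).inv_mem hs)
      rwa [conj_of_comm hga] at h4
    have h4 := conj_of_comm (h1 _ h3)
    have hsy := conj_of_comm (h1 _ hs)
    have hgb := conj_of_comm (KK_comm hg)
    have hsa := conj_of_comm (KK_comm hs)
    -- `s (b y) s⁻¹ = a b y`
    have h5 : s * (g * y * g⁻¹) * s⁻¹ = a * b * y := by
      rw [h2]
      calc s * (b * y) * s⁻¹ = (s * b * s⁻¹) * (s * y * s⁻¹) := by group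
        _ = a * b * y := by rw [hsb, hsy]
    have h6 : s * (g * y * g⁻¹) * s⁻¹ =
        (s * (g * s⁻¹ * g⁻¹)) * (g * (s * y * s⁻¹) * g⁻¹) * (s * (g * s⁻¹ * g⁻¹))⁻¹ := by group
    rw [h6, hsy, h2] at h5
    have h7 : (s * (g * s⁻¹ * g⁻¹)) * b * (s * (g * s⁻¹ * g⁻¹))⁻¹ = b := by
      have e1 : g⁻¹ * b * g = b := by
        calc g⁻¹ * b * g = g⁻¹ * (g * b * g⁻¹) * g := by rw [hgb]
          _ = b := by group
      have e2 : s⁻¹ * b * s = a * b := by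
        have e3 : s * (a * b) * s⁻¹ = b := by
          calc s * (a * b) * s⁻¹ = (s * a * s⁻¹) * (s * b * s⁻¹) := by group
            _ = a * (a * b) := by rw [hsa, hsb]
            _ = b := by rw [← mul_assoc, haa, one_mul]
        calc s⁻¹ * b * s = s⁻¹ * (s * (a * b) * s⁻¹) * s := by rw [e3]
          _ = a * b := by group
      have e4 : g * (a * b) * g⁻¹ = a * b := by
        calc g * (a * b) * g⁻¹ = (g * a * g⁻¹) * (g * b * g⁻¹) := by group
          _ = a * b := by rw [conj_of_comm hga, hgb]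
      calc (s * (g * s⁻¹ * g⁻¹)) * b * (s * (g * s⁻¹ * g⁻¹))⁻¹
          = s * (g * (s⁻¹ * (g⁻¹ * b * g) * s) * g⁻¹) * s⁻¹ := by group
        _ = s * (a * b) * s⁻¹ := by rw [e1, e2, e4]
        _ = (s * a * s⁻¹) * (s * b * s⁻¹) := by group
        _ = a * (a * b) := by rw [hsa, hsb]
        _ = b := by rw [← mul_assoc, haa, one_mul]
    have h8 : (s * (g * s⁻¹ * g⁻¹)) * (b * y) * (s * (g * s⁻¹ * g⁻¹))⁻¹ =
        ((s * (g * s⁻¹ * g⁻¹)) * b * (s * (g * s⁻¹ * g⁻¹))⁻¹) *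
          ((s * (g * s⁻¹ * g⁻¹)) * y * (s * (g * s⁻¹ * g⁻¹))⁻¹) := by group
    rw [h8, h7, h4] at h5
    have h9 := mul_right_cancel h5
    exact ha1 (mul_eq_right.1 h9.symm)
  have hg₀' : ¬ g₀ * a = a * g₀ := by
    intro h2
    rw [conj_of_comm h2] at hg₀a
    exact hb1 (mul_eq_right.1 hg₀a.symm)
  by_cases h2 : g₀ * y = y * g₀
  · left
    refine h.cent_X ha hb ha1 hb1 hab h1 fun g hg => ?_
    by_cases h3 : g * a = a * g
    · exact key g hg h3
    · have h4 := (mul_fix hb1 hbb (tb g hg) (tb g₀ hg₀) haY).2 (iff_of_false h3 hg₀')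
      have h5 := key _ (mul_mem hg hg₀) h4
      exact ((mul_fix hb1 hbb (tb g hg) (tb g₀ hg₀) hy).1 h5).2 h2
  · right
    refine h.cent_X ha hb ha1 hb1 hab (fun g hg => ?_) fun g hg => ?_
    · calc g * (y * a) = (g * y) * a := by group
        _ = y * (g * a) := by rw [h1 g hg]; group
        _ = y * a * g := by rw [KK_comm hg]; group
    · rw [fix_mul hb1 hbb (tb g hg) hbu hy haY]
      by_cases h3 : g * a = a * g
      · exact iff_of_true (key g hg h3) h3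
      · refine iff_of_false (fun h5 => ?_) h3
        have h4 := (mul_fix hb1 hbb (tb g hg) (tb g₀ hg₀) haY).2 (iff_of_false h3 hg₀')
        have h6 := key _ (mul_mem hg hg₀) h4
        exact h2 (((mul_fix hb1 hbb (tb g hg) (tb g₀ hg₀) hy).1 h6).1 h5)

/-- (GL) for one block -/
theorem glue_one {i : ι} {Y : Subgroup G} (hY : ∀ x ∈ Y, ∀ y ∈ Y, x * y = y * x) (hGl : Gl V i Y) {y : G}
    (hy : y ∈ Y) : ∃ d ∈ DD V i, ∀ g ∈ XX V i, g * (y * d) = y * d * g := by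
  obtain ⟨a, ha, b, hb, ha1, hb1, hab⟩ := h.exists_two i
  have haY := hGl.le (V_le_DD i ha)
  have hbY := hGl.le (V_le_DD i hb)
  obtain ⟨d, hd, h1⟩ := exists_cent ha1 (h.sq i a ha) (fun u hu => hY a haY u hu) hGl.le
    (fun g hg => hGl.tv a ha ha1 g hg) (fun g hg hgd => hGl.ker a ha ha1 g hg hgd) hy
  rcases h.second hY ha hb ha1 hb1 hab haY hbY (hGl.tv b hb hb1) (mul_mem hy (hGl.le hd)) h1 with h2 | h2
  · exact ⟨d, hd, h2⟩
  · refine ⟨d * a, mul_mem hd (V_le_DD i ha), ?_⟩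
    rw [← mul_assoc]
    exact h2

/-- **(GL).** -/
theorem glue {Y : Subgroup G} (hY : ∀ x ∈ Y, ∀ y ∈ Y, x * y = y * x) (J : Finset ι)
    (hGl : ∀ i ∈ J, Gl V i Y) {y : G} (hy : y ∈ Y) :
    ∃ d ∈ closure {x | ∃ i ∈ J, x ∈ DD V i}, d ∈ Y ∧ ∀ i ∈ J, ∀ g ∈ XX V i, g * (y * d) = y * d * g := by
  classical
  induction J using Finset.induction_on with
  | empty => exact ⟨1, one_mem _, one_mem _, by simp⟩
  | insert i J hiJ ih =>
    obtain ⟨d, hd, hdY, h1⟩ := ih fun j hj => hGl j (Finset.mem_insert_of_mem hj)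
    obtain ⟨d', hd', h2⟩ := h.glue_one hY (hGl i (Finset.mem_insert_self i J)) (mul_mem hy hdY)
    have hd'Y := (hGl i (Finset.mem_insert_self i J)).le hd'
    refine ⟨d * d', mul_mem ?_ ?_, mul_mem hdY hd'Y, ?_⟩
    · refine closure_mono ?_ hd
      rintro x ⟨j, hj, hx⟩
      exact ⟨j, Finset.mem_insert_of_mem hj, hx⟩
    · exact subset_closure ⟨i, Finset.mem_insert_self i J, hd'⟩
    · intro j hj g hg
      rw [← mul_assoc y d d']
      rcases Finset.mem_insert.1 hj with rfl | hj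
      · exact h2 g hg
      · have hji : j ≠ i := fun h3 => hiJ (h3 ▸ hj)
        have h3 := h1 j hj g hg
        have h4 := h.cent_DD hji g hg d' hd'
        calc g * (y * d * d') = (g * (y * d)) * d' := by group
          _ = y * d * (g * d') := by rw [h3]; group
          _ = y * d * d' * g := by rw [h4]; group

end Fr

end Cfsg.Agent.Omega.IId.Big

end

section


/-!
# CvBig (ii), `q = 2` (bb OMEGA 21130, helper165): the frame with `D`

`V i` (`i ∈ ι`) the natural four-groups, `v i ∈ V i` the fixed point of `N_S(V i)`, `Q = O₂(P)`, `Ω₁Z(Q)` may be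
larger than `⨆ V i`.

* `Sd S Q V v` : the frame; `CX V j` : the centraliser of all `W_p`, `p ∈ V j`;
* `Sd.mem_qz_of`, `Sd.zc_le_Q` : (F);
* `Sd.one'` : **LEMMA 1'** : `f ∈ Ω₁Z(Q_{v i})`, `[f, Q] = ⟨w⟩` of order 2 ⇒ `w ∈ CX V j` for all `j ≠ i`;
* `Sd.kp` : no 2-group `> C_S(v i)` in `C_G(v i)` permutes the `v l`.
-/

set_option autoImplicit false
set_option linter.unusedSectionVars false

namespace Cfsg.Agent.Omega.IId.Surv

open Subgroup Cfsg
open Cfsg.Agent.ZN (o2 zc)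
open Cfsg.Agent.MinSimple.VModule (le_o2 le_normalizer_o2 mem_zc o2_isPGroup o2_le)
open Triangle (KK KK_conj KK_le_o2 mem_cent mem_KK mem_zpowers_iff_of_sq cent_conj o2_cent_conj)
open Big (Fr Vo cz qz conj_mem norm_of comm_of_conj conj_of_comm isPGroup_of_sq le_Vo Vo_le cent_of_closure
  norm_o2 le_o2_of sq_of_closure)
open Big.Syl (YY mem_YY YY_le exists_conj_le)

universe u

variable {G : Type u} [Group G]

/-- The frame with `D`. -/
structure Sd {ι : Type} (S Q : Subgroup G) (V : ι → Subgroup G) (v : ι → G) : Prop where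
  fr : Fr (⨆ i, V i) V
  vV : ∀ i, v i ∈ V i
  v1 : ∀ i, v i ≠ 1
  perm : ∀ s ∈ S, ∀ i, ∃ j, (∀ x ∈ V i, s * x * s⁻¹ ∈ V j) ∧ s * v i * s⁻¹ = v j
  tr : ∀ i j, ∃ s ∈ S, s * v i * s⁻¹ = v j
  KS : ∀ i, KK (v i) ≤ S
  VK : ∀ i j, ∀ p ∈ V i, p ≠ 1 → V j ≤ KK p
  QS : Q ≤ S
  QV : ∀ i, ∀ x ∈ V i, ∀ q ∈ Q, q * x = x * q
  QQ : centralizer (Q : Set G) ≤ Q
  NQ : ∀ N : Subgroup G, IsPGroup 2 N → (∀ i, ∀ x ∈ V i, ∀ n ∈ N, n * x = x * n) →
    (∀ c : G, (∀ i, ∀ x ∈ V i, c * x = x * c) → ∀ n ∈ N, c * n * c⁻¹ ∈ N) → N ≤ Q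
  KQ : ∀ i, ∀ p ∈ V i, p ≠ 1 → KK p ≤ normalizer (Q : Set G)
  SQ : S ≤ normalizer (Q : Set G)
  SY : ∀ s ∈ S, (∀ i, ∀ x ∈ V i, s * x = x * s) → ∀ z ∈ zc Q, s * z = z * s

/-- the centraliser of all `W_p`, `p ∈ V j`, `p ≠ 1` -/
def CX {ι : Type} (V : ι → Subgroup G) (j : ι) : Subgroup G where
  carrier := {z | ∀ p ∈ V j, p ≠ 1 → ∀ g ∈ KK p, g * z = z * g}
  one_mem' := fun p _ _ g _ => by rw [mul_one, one_mul]
  mul_mem' := fun {a b} ha hb p hp hp1 g hg => by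
    calc g * (a * b) = (g * a) * b := by group
      _ = a * (g * b) := by rw [ha p hp hp1 g hg]; group
      _ = a * b * g := by rw [hb p hp hp1 g hg]; group
  inv_mem' := fun {a} ha p hp hp1 g hg => ((show Commute g a from ha p hp hp1 g hg).inv_right).eq

theorem mem_CX {ι : Type} {V : ι → Subgroup G} {j : ι} {z : G} :
    z ∈ CX V j ↔ ∀ p ∈ V j, p ≠ 1 → ∀ g ∈ KK p, g * z = z * g := Iff.rfl

namespace Sd

variable {ι : Type} {S Q : Subgroup G} {V : ι → Subgroup G} {v : ι → G} (h : Sd S Q V v)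
include h

theorem cent_sup {g x : G} (hg : ∀ i, ∀ x ∈ V i, g * x = x * g) (hx : x ∈ ⨆ i, V i) : g * x = x * g := by
  have h1 : (⨆ i, V i) ≤ centralizer ({g} : Set G) := iSup_le fun i x hx => mem_cent.2 (hg i x hx).symm
  exact (mem_cent.1 (h1 hx)).symm

theorem sup_comm {x y : G} (hx : x ∈ ⨆ i, V i) (hy : y ∈ ⨆ i, V i) : x * y = y * x := by
  refine h.cent_sup (fun i z hz => ?_) hy
  exact (h.cent_sup (g := z) (fun j w hw => h.fr.comm i j z hz w hw) hx).symm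

theorem sup_sq {x : G} (hx : x ∈ ⨆ i, V i) : x * x = 1 := by
  rw [iSup_eq_closure] at hx
  refine sq_of_closure ?_ ?_ hx
  · intro y hy
    obtain ⟨i, hi⟩ := Set.mem_iUnion.1 hy
    exact h.fr.sq i y hi
  · intro a ha b hb
    rw [← iSup_eq_closure] at ha hb
    exact h.sup_comm ha hb

theorem Q_sup {q x : G} (hq : q ∈ Q) (hx : x ∈ ⨆ i, V i) : q * x = x * q :=
  h.cent_sup (fun i x hx => h.QV i x hx q hq) hx


variable [Finite G]

/-! #### (F) -/

theorem V_le_Q (i : ι) : V i ≤ Q := by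
  refine h.NQ _ (isPGroup_of_sq fun x hx => h.fr.sq i x hx) (fun j x hx n hn => h.fr.comm i j n hn x hx)
    fun c hc n hn => ?_
  rw [conj_of_comm (hc i n hn)]
  exact hn

theorem sup_le_Q : (⨆ i, V i) ≤ Q := iSup_le h.V_le_Q

omit [Finite G] in
theorem V_le_zc {i j : ι} (hij : j ≠ i) {p : G} (hp : p ∈ V i) (hp1 : p ≠ 1) : V j ≤ zc (qz p) := fun x hx =>
  mem_zc.2 ⟨h.fr.VQ i j p hp hp1 hx, fun q hq => h.fr.Qc i j hij p hp hp1 q hq x hx, by
    rw [pow_two]; exact h.fr.sq j x hx⟩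

/-- an element of `C_G(p)` normalises `Ω₁Z(Q_p)` -/
theorem zc_conj {p c x : G} (hc : c * p = p * c) (hx : x ∈ zc (qz p)) : c * x * c⁻¹ ∈ zc (qz p) :=
  conj_mem ((le_normalizer_o2 (cz p)).trans (MinSimple.VModule.normalizer_le_normalizer_zc _)) (mem_cent.2 hc) hx

omit [Finite G] in
theorem zc_V {i : ι} {p : G} (hp : p ∈ V i) (hp1 : p ≠ 1) {y : G} (hy : y ∈ zc (qz p)) (j : ι) {x : G}
    (hx : x ∈ V j) : y * x = x * y := ((mem_zc.1 hy).2.1 x (h.fr.VQ i j p hp hp1 hx)).symm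

theorem zc_le_Q {i : ι} {p : G} (hp : p ∈ V i) (hp1 : p ≠ 1) : zc (qz p) ≤ Q := by
  refine h.NQ _ ((o2_isPGroup _).to_le (MinSimple.VModule.zc_le _)) (fun j x hx n hn => h.zc_V hp hp1 hn j hx)
    fun c hc n hn => h.zc_conj (hc i p hp) hn

theorem qz_inf_le {i : ι} {p : G} (hp : p ∈ V i) {r : G} (hr : r ∈ qz p)
    (hrV : ∀ j, ∀ x ∈ V j, r * x = x * r) : r ∈ Q := by
  have h1 : qz p ⊓ centralizer ((⨆ i, V i : Subgroup G) : Set G) ≤ Q := by
    refine h.NQ _ ((o2_isPGroup _).to_le inf_le_left) (fun j x hx n hn => ?_) fun c hc n hn => ?_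
    · exact (mem_centralizer_iff.1 hn.2 x ((le_iSup V j) hx)).symm
    · refine ⟨conj_mem (le_normalizer_o2 _) (mem_cent.2 (hc i p hp)) hn.1, mem_centralizer_iff.2 fun x hx => ?_⟩
      have h2 := mem_centralizer_iff.1 hn.2 x hx
      have h3 : c * x = x * c := h.cent_sup hc hx
      have h4 : c⁻¹ * x = x * c⁻¹ := ((show Commute c x from h3).inv_left).eq
      calc x * (c * n * c⁻¹) = (x * c) * n * c⁻¹ := by group
        _ = c * (x * n) * c⁻¹ := by rw [← h3]; group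
        _ = c * n * (x * c⁻¹) := by rw [h2]; group
        _ = c * n * c⁻¹ * x := by rw [← h4]; group
  exact h1 ⟨hr, mem_centralizer_iff.2 fun x hx => (h.cent_sup hrV hx).symm⟩

/-- `U_r ∩ C(U_p) ≤ Q_p`, `p ∈ V j`, `r ∈ V i`, `i ≠ j` -/
theorem mem_qz_of {i j : ι} (hij : i ≠ j) {r p y : G} (hr : r ∈ V i) (hr1 : r ≠ 1) (hp : p ∈ V j)
    (hp1 : p ≠ 1) (hy : y ∈ zc (qz r)) (hyp : ∀ c ∈ zc (qz p), y * c = c * y) : y ∈ qz p := by
  set N : Subgroup G := cz p ⊓ centralizer (zc (qz p) : Set G) with hN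
  set A : Subgroup G := zc (qz r) ⊓ centralizer (zc (qz p) : Set G) with hA
  have hrp : r ∈ zc (qz p) := h.V_le_zc hij hp hp1 hr
  have hAN : A ≤ N := fun a ha => ⟨mem_cent.2 (h.zc_V hr hr1 ha.1 j hp), ha.2⟩
  have key : A ≤ qz p := by
    refine le_o2_of ((o2_isPGroup _).to_le (inf_le_left.trans (MinSimple.VModule.zc_le _))) hAN ?_ inf_le_left ?_
    · apply norm_of
      rintro n ⟨-, hn2⟩ a ⟨ha1, ha2⟩
      refine ⟨h.zc_conj (mem_centralizer_iff.1 hn2 r hrp).symm ha1, ?_⟩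
      exact (centralizer (zc (qz p) : Set G)).mul_mem (mul_mem hn2 ha2)
        ((centralizer (zc (qz p) : Set G)).inv_mem hn2)
    · apply norm_of
      rintro c hc n ⟨hn1, hn2⟩
      refine ⟨mul_mem (mul_mem hc hn1) ((cz p).inv_mem hc), mem_centralizer_iff.2 fun x hx => ?_⟩
      have hx' : c⁻¹ * x * c ∈ zc (qz p) := by
        have := h.zc_conj (c := c⁻¹) (mem_cent.1 ((cz p).inv_mem hc)) hx
        rwa [inv_inv] at this
      have h1 := mem_centralizer_iff.1 hn2 _ hx'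
      calc x * (c * n * c⁻¹) = c * ((c⁻¹ * x * c) * n) * c⁻¹ := by group
        _ = c * n * c⁻¹ * x := by rw [h1]; group
  exact key ⟨hy, mem_centralizer_iff.2 fun c hc => (hyp c hc).symm⟩


omit [Finite G] in
theorem fixV [Finite G] {i : ι} {p b r : G} (hp : p ∈ V i) (hp1 : p ≠ 1) (hb : b ∈ V i) (hb1 : b ≠ 1) (hpb : p ≠ b)
    (hrp : r * p = p * r) (hrb : r * b = b * r) {x : G} (hx : x ∈ V i) : r * x = x * r := by
  rcases h.fr.cases4 hp hb hp1 hb1 hpb hx with rfl | rfl | rfl | rfl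
  · simp
  · exact hrp
  · exact hrb
  · calc r * (p * b) = (r * p) * b := by group
      _ = p * (r * b) := by rw [hrp]; group
      _ = p * b * r := by rw [hrb]; group

theorem mem_Q_of {i : ι} {p b r : G} (hp : p ∈ V i) (hp1 : p ≠ 1) (hb : b ∈ V i) (hb1 : b ≠ 1) (hpb : p ≠ b)
    (hr : r ∈ qz p) (hrb : r * b = b * r) : r ∈ Q := by
  refine h.qz_inf_le hp hr fun j x hx => ?_
  by_cases hj : j = i
  · subst hj
    exact h.fixV hp hp1 hb hb1 hpb (mem_cent.1 (o2_le _ hr)) hrb hx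
  · exact h.fr.Qc i j hj p hp hp1 r hr x hx

/-- `w ∈ W_p` moves `b ∈ V i`: `Q_p ⊆ Q ∪ w Q`. -/
theorem split {i : ι} {p b w : G} (hp : p ∈ V i) (hp1 : p ≠ 1) (hb : b ∈ V i) (hb1 : b ≠ 1) (hpb : p ≠ b)
    (hw : w ∈ KK p) (hwb : w * b * w⁻¹ = p * b) {r : G} (hr : r ∈ qz p) : r ∈ Q ∨ w⁻¹ * r ∈ Q := by
  have hwq := h.fr.KK_le_q hp hp1 hw
  have hpp := h.fr.sq i p hp
  have hpi : p⁻¹ = p := inv_eq_of_mul_eq_one_left hpp
  have h2 := (mem_KK.1 (h.VK i i p hp hp1 hb)).2 r hr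
  rcases (mem_zpowers_iff_of_sq hpp).1 h2 with h3 | h3
  · left
    refine h.mem_Q_of hp hp1 hb hb1 hpb hr ?_
    calc r * b = (b * r * b⁻¹ * r⁻¹)⁻¹ * (b * r) := by group
      _ = b * r := by rw [h3]; group
  · right
    refine h.mem_Q_of hp hp1 hb hb1 hpb (mul_mem (inv_mem hwq) hr) ?_
    have h4 : r * b * r⁻¹ = p * b := by
      calc r * b * r⁻¹ = (b * r * b⁻¹ * r⁻¹)⁻¹ * b := by group
        _ = p * b := by rw [h3, hpi]
    apply comm_of_conj
    calc w⁻¹ * r * b * (w⁻¹ * r)⁻¹ = w⁻¹ * (r * b * r⁻¹) * w := by group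
      _ = w⁻¹ * (w * b * w⁻¹) * w := by rw [h4, hwb]
      _ = b := by group

/-- `Ω₁Z(Q) ≤ Q_p` -/
theorem zz_mem_qz {i : ι} {p : G} (hp : p ∈ V i) (hp1 : p ≠ 1) {z : G} (hzz : z * z = 1)
    (hz : ∀ q ∈ Q, q * z = z * q) : z ∈ qz p := by
  obtain ⟨b, hb, hb1, hpb⟩ := h.fr.exists_other (i := i) p
  obtain ⟨w, hw, hwb⟩ := h.fr.move hp hb hp1 hb1 hpb
  have hzQ : z ∈ Q := h.QQ (mem_centralizer_iff.2 hz)
  have hwq := h.fr.KK_le_q hp hp1 hw
  have hwn := h.KQ i p hp hp1 hw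
  have hpp := h.fr.sq i p hp
  obtain ⟨z', hz'⟩ : ∃ z', z' = w * z * w⁻¹ := ⟨_, rfl⟩
  have hz'Q : z' ∈ Q := by rw [hz']; exact (mem_normalizer_iff.1 hwn z).1 hzQ
  have hz'c : ∀ q ∈ Q, q * z' = z' * q := by
    intro q hq
    have h1 : w⁻¹ * q * w ∈ Q := by
      have := (mem_normalizer_iff.1 (inv_mem hwn) q).1 hq
      rwa [inv_inv] at this
    have h2 := hz _ h1
    calc q * z' = w * ((w⁻¹ * q * w) * z) * w⁻¹ := by rw [hz']; group
      _ = z' * q := by rw [h2, hz']; group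
  have hzz' : z' * z' = 1 := by
    calc z' * z' = w * (z * z) * w⁻¹ := by rw [hz']; group
      _ = 1 := by rw [hzz]; group
  have hwp : w * p * w⁻¹ = p := conj_of_comm (Fr.KK_comm hw)
  have hww : w * w ∈ Q := by
    refine h.mem_Q_of hp hp1 hb hb1 hpb (mul_mem hwq hwq) (comm_of_conj ?_)
    calc w * w * b * (w * w)⁻¹ = w * (w * b * w⁻¹) * w⁻¹ := by group
      _ = w * (p * b) * w⁻¹ := by rw [hwb]
      _ = (w * p * w⁻¹) * (w * b * w⁻¹) := by group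
      _ = (p * p) * b := by rw [hwp, hwb]; group
      _ = b := by rw [hpp, one_mul]
  have hcz : z' * z = z * z' := hz z' hz'Q
  have hcQ : ∀ q ∈ Q, q * (z' * z) = z' * z * q := by
    intro q hq
    calc q * (z' * z) = (q * z') * z := by group
      _ = z' * (q * z) := by rw [hz'c q hq]; group
      _ = z' * z * q := by rw [hz q hq]; group
  have hwc : w * (z' * z) = z' * z * w := by
    apply comm_of_conj
    have h1 : w * w * z * (w * w)⁻¹ = z := conj_of_comm (hz _ hww)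
    calc w * (z' * z) * w⁻¹ = (w * w * z * (w * w)⁻¹) * (w * z * w⁻¹) := by rw [hz']; group
      _ = z * z' := by rw [h1, hz']
      _ = z' * z := hcz.symm
  have hcR : ∀ r ∈ qz p, r * (z' * z) = z' * z * r := by
    intro r hr
    rcases h.split hp hp1 hb hb1 hpb hw hwb hr with h1 | h1
    · exact hcQ r h1
    · calc r * (z' * z) = w * ((w⁻¹ * r) * (z' * z)) := by group
        _ = w * (z' * z) * (w⁻¹ * r) := by rw [hcQ _ h1]; group
        _ = z' * z * r := by rw [hwc]; group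
  apply YY_le (h.fr.c2 i p hp hp1)
  refine mem_YY.2 ⟨mem_cent.2 (h.QV i p hp z hzQ), fun r hr => ?_, fun r hr hr2 => ?_⟩
  · rcases h.split hp hp1 hb hb1 hpb hw hwb hr with h1 | h1
    · have h2 : z * r * z⁻¹ * r⁻¹ = 1 := by rw [← hz r h1]; group
      rw [h2]
      exact one_mem _
    · have h2 : z * r * z⁻¹ * r⁻¹ = z' * z := by
        have h3 := hz _ (inv_mem h1)
        have hzi : z⁻¹ = z := inv_eq_of_mul_eq_one_left hzz
        calc z * r * z⁻¹ * r⁻¹ = z * w * (w⁻¹ * r) * (z⁻¹ * (w⁻¹ * r)⁻¹) * w⁻¹ := by group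
          _ = z * w * (w⁻¹ * r) * ((w⁻¹ * r)⁻¹ * z) * w⁻¹ := by rw [hzi, ← h3]
          _ = z * (w * z * w⁻¹) := by group
          _ = z' * z := by rw [← hz', hcz]
      rw [h2]
      exact mem_centralizer_iff.2 hcR
  · refine conj_of_comm (hz r ?_).symm
    exact h.qz_inf_le hp hr fun j x hx => (mem_centralizer_iff.1 hr2 x (h.fr.VQ i j p hp hp1 hx)).symm


/-! #### The groups `CX V j` -/

theorem v_inj {i j : ι} (hij : v i = v j) : i = j := by
  by_contra hne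
  exact h.v1 i (h.fr.disj hne (h.vV i) (hij ▸ h.vV j))

theorem fix_line {s : G} (hs : s ∈ S) {i : ι} (hsi : s * v i = v i * s) {x : G} (hx : x ∈ V i) :
    s * x * s⁻¹ ∈ V i := by
  obtain ⟨j, hj, hvj⟩ := h.perm s hs i
  rw [conj_of_comm hsi] at hvj
  have := h.v_inj hvj
  subst this
  exact hj x hx

theorem fix_act {s : G} (hs : s ∈ S) {i : ι} (hsi : s * v i = v i * s) {x : G} (hx : x ∈ V i) :
    s * x * s⁻¹ = x ∨ s * x * s⁻¹ = v i * x := by
  by_cases hx1 : x = 1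
  · left
    rw [hx1]
    simp
  by_cases hxv : x = v i
  · left
    rw [hxv]
    exact conj_of_comm hsi
  rcases h.fr.cases4 (h.vV i) hx (h.v1 i) hx1 (Ne.symm hxv) (h.fix_line hs hsi hx) with h1 | h1 | h1 | h1
  · exfalso
    apply hx1
    calc x = s⁻¹ * (s * x * s⁻¹) * s := by group
      _ = 1 := by rw [h1]; group
  · exfalso
    apply hxv
    calc x = s⁻¹ * (s * x * s⁻¹) * s := by group
      _ = s⁻¹ * (v i * s) := by rw [h1]; group
      _ = v i := by rw [← hsi]; group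
  · exact Or.inl h1
  · exact Or.inr h1

theorem V_CX {m j : ι} (hmj : m ≠ j) : V m ≤ CX V j := fun x hx p hp hp1 g hg =>
  h.fr.Qc j m hmj p hp hp1 g (h.fr.KK_le_q hp hp1 hg) x hx

theorem v_CX {m j : ι} (hmj : m ≠ j) : v m ∈ CX V j := h.V_CX hmj (h.vV m)

theorem eq_one_of_CX {j : ι} {x : G} (hx : x ∈ V j) (hc : x ∈ CX V j) : x = 1 := by
  by_contra hx1
  obtain ⟨p, hp, hp1, hxp⟩ := h.fr.exists_other (i := j) x
  obtain ⟨w, hw, hwx⟩ := h.fr.move hp hx hp1 hx1 (Ne.symm hxp)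
  rw [conj_of_comm (hc p hp hp1 w hw)] at hwx
  exact hp1 (mul_eq_right.1 hwx.symm)

theorem v_notCX (j : ι) : v j ∉ CX V j := fun hc => h.v1 j (h.eq_one_of_CX (h.vV j) hc)

theorem CX_conj {s z : G} (hs : s ∈ S) (hz : ∀ j, z ∈ CX V j) (j : ι) : s * z * s⁻¹ ∈ CX V j := by
  intro p hp hp1 g hg
  obtain ⟨l, hl, -⟩ := h.perm s⁻¹ (inv_mem hs) j
  have h1 : s⁻¹ * p * s⁻¹⁻¹ ≠ 1 := fun h0 => hp1 (by
    calc p = s * (s⁻¹ * p * s⁻¹⁻¹) * s⁻¹ := by group
      _ = 1 := by rw [h0]; group)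
  have h2 := hz l _ (hl p hp) h1 _ (KK_conj (h := s⁻¹) hg)
  rw [inv_inv] at h2
  calc g * (s * z * s⁻¹) = s * ((s⁻¹ * g * s) * z) * s⁻¹ := by group
    _ = s * z * s⁻¹ * g := by rw [h2]; group

theorem zq_comm {q z : G} (hz : z ∈ zc Q) (hq : q ∈ Q) : q * z = z * q := (mem_zc.1 hz).2.1 q hq

theorem zq_sq {z : G} (hz : z ∈ zc Q) : z * z = 1 := by
  have := (mem_zc.1 hz).2.2
  rwa [pow_two] at this

theorem mem_zq {z : G} (hz : ∀ q ∈ Q, q * z = z * q) (hzz : z * z = 1) : z ∈ zc Q :=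
  mem_zc.2 ⟨h.QQ (mem_centralizer_iff.2 hz), hz, by rw [pow_two]; exact hzz⟩

theorem V_zq (i : ι) : V i ≤ zc Q := fun x hx => h.mem_zq (h.QV i x hx) (h.fr.sq i x hx)

theorem v_zq (i : ι) : v i ∈ zc Q := h.V_zq i (h.vV i)

theorem zq_mul_comm {x z : G} (hx : x ∈ zc Q) (hz : z ∈ zc Q) : x * z = z * x :=
  h.zq_comm hz (mem_zc.1 hx).1

theorem zq_q {i : ι} {p : G} (hp : p ∈ V i) (hp1 : p ≠ 1) : zc Q ≤ qz p := fun _ hz =>
  h.zz_mem_qz hp hp1 (h.zq_sq hz) fun _ hq => h.zq_comm hz hq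

theorem zq_act {i : ι} {p g z : G} (hp : p ∈ V i) (hp1 : p ≠ 1) (hg : g ∈ KK p) (hz : z ∈ zc Q) :
    g * z * g⁻¹ = z ∨ g * z * g⁻¹ = p * z := h.fr.KK_act hp hg (h.zq_q hp hp1 hz)

/-- an element of `Ω₁Z(Q)` which commutes with `W_p` commutes with `Q_p` -/
theorem comm_qz {j : ι} {p r z : G} (hp : p ∈ V j) (hp1 : p ≠ 1) (hz : z ∈ zc Q)
    (hg : ∀ g ∈ KK p, g * z = z * g) (hr : r ∈ qz p) : r * z = z * r := by
  obtain ⟨b, hb, hb1, hpb⟩ := h.fr.exists_other (i := j) p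
  obtain ⟨w, hw, hwb⟩ := h.fr.move hp hb hp1 hb1 hpb
  rcases h.split hp hp1 hb hb1 hpb hw hwb hr with h1 | h1
  · exact h.zq_comm hz h1
  · calc r * z = w * ((w⁻¹ * r) * z) := by group
      _ = (w * z) * (w⁻¹ * r) := by rw [h.zq_comm hz h1]; group
      _ = z * r := by rw [hg w hw]; group

/-! #### LEMMA 1' -/

/-- **LEMMA 1'.** -/
theorem one' {i : ι} {f w : G} (hf : f ∈ zc (qz (v i))) (hw1 : w ≠ 1)
    (hQ : ∀ q ∈ Q, q * f * q⁻¹ = f ∨ q * f * q⁻¹ = w * f) (hex : ∃ q ∈ Q, q * f * q⁻¹ = w * f) :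
    w ∈ zc Q ∧ ∀ j, j ≠ i → w ∈ CX V j := by
  obtain ⟨q₀, hq₀, hq₀f⟩ := hex
  have hvi := h.vV i
  have hvi1 := h.v1 i
  have hQv : ∀ q ∈ Q, q * v i = v i * q := fun q hq => h.QV i _ hvi q hq
  have hwU : w ∈ zc (qz (v i)) := by
    have h1 : w = (q₀ * f * q₀⁻¹) * f⁻¹ := by rw [hq₀f]; group
    rw [h1]
    exact mul_mem (h.zc_conj (hQv q₀ hq₀) hf) (inv_mem hf)
  have hww : w * w = 1 := by
    have := (mem_zc.1 hwU).2.2
    rwa [pow_two] at this
  have hwi : w⁻¹ = w := inv_eq_of_mul_eq_one_left hww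
  have hwQ : ∀ r ∈ Q, r * w = w * r := by
    intro r hr
    apply comm_of_conj
    have e1 : r * q₀ * f * (r * q₀)⁻¹ = (r * w * r⁻¹) * (r * f * r⁻¹) := by
      calc r * q₀ * f * (r * q₀)⁻¹ = r * (q₀ * f * q₀⁻¹) * r⁻¹ := by group
        _ = (r * w * r⁻¹) * (r * f * r⁻¹) := by rw [hq₀f]; group
    have hne : r * w * r⁻¹ ≠ 1 := fun h0 => hw1 (by
      calc w = r⁻¹ * (r * w * r⁻¹) * r := by group
        _ = 1 := by rw [h0]; group)
    rcases hQ r hr with h1 | h1 <;> rcases hQ (r * q₀) (mul_mem hr hq₀) with h2 | h2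
    · exfalso
      rw [e1, h1] at h2
      exact hne (mul_eq_right.1 h2)
    · rw [e1, h1] at h2
      exact mul_right_cancel h2
    · rw [e1, h1, ← mul_assoc] at h2
      have h3 := mul_eq_right.1 h2
      exact (eq_inv_of_mul_eq_one_left h3).trans hwi
    · exfalso
      rw [e1, h1] at h2
      exact hne (mul_eq_right.1 h2)
  have hwz := h.mem_zq hwQ hww
  have hyV : ∀ j, ∀ x ∈ V j, f * x = x * f := fun j x hx => h.zc_V hvi hvi1 hf j hx
  refine ⟨hwz, fun j hj p hp hp1 g hg => ?_⟩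
  by_contra hcon
  have hgq := h.fr.KK_le_q hp hp1 hg
  have hgp : g * p = p * g := Fr.KK_comm hg
  have hpp := h.fr.sq j p hp
  have hgw : g * w * g⁻¹ = p * w := by
    rcases h.zq_act hp hp1 hg hwz with h1 | h1
    · exact absurd (comm_of_conj h1) hcon
    · exact h1
  have hpw : p ≠ w := by
    rintro rfl
    exact hcon hgp
  have hyp : f * p = p * f := hyV j p hp
  -- (1)
  have s1 : ∀ c ∈ zc (qz p), f * c = c * f := by
    intro c hc
    have hcQ := h.zc_le_Q hp hp1 hc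
    rcases hQ c hcQ with h1 | h1
    · exact (comm_of_conj h1).symm
    · exfalso
      have h2 : w ∈ zc (qz p) := by
        have h3 : w = c * (f * c⁻¹ * f⁻¹) := by
          calc w = (w * f) * f⁻¹ := by group
            _ = c * (f * c⁻¹ * f⁻¹) := by rw [← h1]; group
        rw [h3]
        exact mul_mem hc (h.zc_conj hyp (inv_mem hc))
      exact hcon ((mem_zc.1 h2).2.1 g hgq)
  -- (2)
  have hfq : f ∈ qz p := h.mem_qz_of hj.symm hvi hvi1 hp hp1 hf s1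
  -- (3)
  have hgn := h.KQ j p hp hp1 hg
  have hq₁ : g * q₀ * g⁻¹ ∈ Q := (mem_normalizer_iff.1 hgn q₀).1 hq₀
  have hpq : (g * q₀ * g⁻¹) * p = p * (g * q₀ * g⁻¹) := h.QV j p hp _ hq₁
  have h5 : (g * q₀ * g⁻¹) * f * (g * q₀ * g⁻¹)⁻¹ = p * w * f := by
    rcases h.fr.KK_act hp hg hfq with h1 | h1
    · calc (g * q₀ * g⁻¹) * f * (g * q₀ * g⁻¹)⁻¹
          = (g * q₀ * g⁻¹) * (g * f * g⁻¹) * (g * q₀ * g⁻¹)⁻¹ := by rw [h1]
        _ = g * (q₀ * f * q₀⁻¹) * g⁻¹ := by group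
        _ = (g * w * g⁻¹) * (g * f * g⁻¹) := by rw [hq₀f]; group
        _ = p * w * f := by rw [hgw, h1]
    · have h6 : f = p * (g * f * g⁻¹) := by rw [h1, ← mul_assoc, hpp, one_mul]
      have hpi : (g * q₀ * g⁻¹) * p * (g * q₀ * g⁻¹)⁻¹ = p := conj_of_comm hpq
      have hpw2 : p * w = w * p := (h.zq_mul_comm hwz (h.V_zq j hp)).symm
      calc (g * q₀ * g⁻¹) * f * (g * q₀ * g⁻¹)⁻¹
          = (g * q₀ * g⁻¹) * (p * (g * f * g⁻¹)) * (g * q₀ * g⁻¹)⁻¹ := by rw [← h6]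
        _ = ((g * q₀ * g⁻¹) * p * (g * q₀ * g⁻¹)⁻¹) * (g * (q₀ * f * q₀⁻¹) * g⁻¹) := by group
        _ = p * ((g * w * g⁻¹) * (g * f * g⁻¹)) := by rw [hpi, hq₀f]; group
        _ = p * ((w * p) * (p * f)) := by rw [hgw, h1, hpw2]
        _ = p * w * (p * p) * f := by group
        _ = p * w * f := by rw [hpp, mul_one]
  rcases hQ _ hq₁ with h6 | h6
  · rw [h5] at h6
    have h8 := mul_eq_right.1 h6
    exact hpw ((eq_inv_of_mul_eq_one_left h8).trans hwi)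
  · rw [h5] at h6
    have h8 := mul_right_cancel h6
    exact hp1 (mul_eq_right.1 h8)

end Sd

/-! #### KP -/

/-- the elements which permute the `v l` -/
def LL {ι : Type} (v : ι → G) : Subgroup G where
  carrier := {x | (∀ l, ∃ m, x * v l * x⁻¹ = v m) ∧ ∀ l, ∃ m, x⁻¹ * v l * x = v m}
  one_mem' := ⟨fun l => ⟨l, by group⟩, fun l => ⟨l, by group⟩⟩
  mul_mem' := by
    rintro a b ⟨ha, ha'⟩ ⟨hb, hb'⟩
    refine ⟨fun l => ?_, fun l => ?_⟩
    · obtain ⟨m, hm⟩ := hb l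
      obtain ⟨n, hn⟩ := ha m
      refine ⟨n, ?_⟩
      calc a * b * v l * (a * b)⁻¹ = a * (b * v l * b⁻¹) * a⁻¹ := by group
        _ = v n := by rw [hm, hn]
    · obtain ⟨m, hm⟩ := ha' l
      obtain ⟨n, hn⟩ := hb' m
      refine ⟨n, ?_⟩
      calc (a * b)⁻¹ * v l * (a * b) = b⁻¹ * (a⁻¹ * v l * a) * b := by group
        _ = v n := by rw [hm, hn]
  inv_mem' := by
    rintro a ⟨ha, ha'⟩
    exact ⟨fun l => by rw [inv_inv]; exact ha' l, fun l => by rw [inv_inv]; exact ha l⟩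

theorem mem_LL {ι : Type} {v : ι → G} {x : G} :
    x ∈ LL v ↔ (∀ l, ∃ m, x * v l * x⁻¹ = v m) ∧ ∀ l, ∃ m, x⁻¹ * v l * x = v m := Iff.rfl

theorem Sd.S_LL {ι : Type} {S Q : Subgroup G} {V : ι → Subgroup G} {v : ι → G} (h : Sd S Q V v) :
    S ≤ LL v := by
  intro s hs
  refine mem_LL.2 ⟨fun l => ?_, fun l => ?_⟩
  · obtain ⟨m, -, hm⟩ := h.perm s hs l
    exact ⟨m, hm⟩
  · obtain ⟨m, -, hm⟩ := h.perm s⁻¹ (inv_mem hs) l
    rw [inv_inv] at hm
    exact ⟨m, hm⟩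

/-- **KP**: a 2-group `X ≥ C_S(v i)` in `C_G(v i)` which permutes the `v l` is `C_S(v i)`. -/
theorem Sd.kp [Finite G] {ι : Type} {S : Sylow 2 G} {Q : Subgroup G} {V : ι → Subgroup G} {v : ι → G}
    (h : Sd (S : Subgroup G) Q V v) (i : ι) {X : Subgroup G} (hX : IsPGroup 2 X) (hXc : X ≤ cz (v i))
    (hTX : (S : Subgroup G) ⊓ cz (v i) ≤ X) (hXL : X ≤ LL v) :
    X ≤ (S : Subgroup G) ⊓ cz (v i) := by
  obtain ⟨m, hm, hmX⟩ := exists_conj_le S h.S_LL hX hXL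
  obtain ⟨n, hn⟩ := (mem_LL.1 hm).1 i
  set T : Subgroup G := (S : Subgroup G) ⊓ cz (v i) with hT
  obtain ⟨s, hs, hsn⟩ := h.tr i n
  have h1 : X.map (MulAut.conj m).toMonoidHom ≤ T.map (MulAut.conj s).toMonoidHom := by
    rintro _ ⟨x, hx, rfl⟩
    have hxm : m * x * m⁻¹ ∈ (S : Subgroup G) := hmX x hx
    have hxv : x * v i = v i * x := mem_cent.1 (hXc hx)
    refine ⟨s⁻¹ * (m * x * m⁻¹) * s, mem_inf.2 ⟨mul_mem (mul_mem (inv_mem hs) hxm) hs, mem_cent.2 ?_⟩, ?_⟩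
    · apply comm_of_conj
      have h2 : m * x * m⁻¹ * v n * (m * x * m⁻¹)⁻¹ = v n := by
        rw [← hn]
        calc m * x * m⁻¹ * (m * v i * m⁻¹) * (m * x * m⁻¹)⁻¹ = m * (x * v i * x⁻¹) * m⁻¹ := by group
          _ = m * v i * m⁻¹ := by rw [conj_of_comm hxv]
      calc s⁻¹ * (m * x * m⁻¹) * s * v i * (s⁻¹ * (m * x * m⁻¹) * s)⁻¹
          = s⁻¹ * (m * x * m⁻¹ * (s * v i * s⁻¹) * (m * x * m⁻¹)⁻¹) * s := by group
        _ = s⁻¹ * v n * s := by rw [hsn, h2]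
        _ = v i := by rw [← hsn]; group
    · show s * (s⁻¹ * (m * x * m⁻¹) * s) * s⁻¹ = m * x * m⁻¹
      group
  have h2 : Nat.card X ≤ Nat.card T := by
    have e1 : Nat.card (X.map (MulAut.conj m).toMonoidHom) = Nat.card X :=
      card_map_of_injective (MulAut.conj m).injective
    have e2 : Nat.card (T.map (MulAut.conj s).toMonoidHom) = Nat.card T :=
      card_map_of_injective (MulAut.conj s).injective
    rw [← e1, ← e2]
    exact card_le_of_le h1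
  exact (eq_of_le_of_card_ge hTX h2).ge

end Cfsg.Agent.Omega.IId.Surv

end
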