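import Cfsg.Agent.Mrg.Omega.IId.Big.Fix
import Cfsg.Agent.Mrg.Omega.IId.Big.Supply
import Cfsg.Agent.Mrg.Omega.NOne.LemmaT
import Cfsg.Agent.Mrg.Omega.IId.Big.Of
import Cfsg.Agent.Mrg.Omega.IId.TwoK
import Cfsg.Agent.Mrg.Omega.IId.Big.SylB

section


/-!
# II.d, THEOREM A (bb OMEGA 17530): (A3)-(A5), END

`S` a Sylow 2-subgroup of `G`, `Fr S V`, (H2), at least three blocks.

* `DA = ∏ D_i`, `Do i = ∏_{j ≠ i} D_j`, `YY = ⟨U_v⟩`;
* `Fr.YY_eq` : `YY = DA`;
* `Fr.cent_KK` : `C_{DA}(W_v) ≤ ⟨v⟩ D^i`;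
* `Fr.cent_DA` : `C_G(DA) = DA`;
* `Fr.zq` : `Z(Q_v) ≤ ⟨v⟩ D^i`;
* `Fr.norm_cz` : `C_G(v) ≤ N_G(DA)`;
* **`Fr.kill_two`**, **`Fr.kill_one`** : the two ends (partners with `k' ≥ 2`, `k' = 1`).
-/

set_option autoImplicit false
set_option linter.unusedSectionVars false

namespace Cfsg.Agent.Omega.IId.Big

open Subgroup Cfsg
open Cfsg.Agent.ZN (o2 zc)
open Cfsg.Agent.MinSimple.VModule (le_o2 le_normalizer_o2 mem_zc o2_isPGroup o2_le)
open Triangle (KK KK_conj KK_le_o2 mem_cent mem_KK mem_zpowers_iff_of_sq cent_conj o2_cent_conj)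

universe u

variable {G : Type u} [Group G]

section tools

theorem norm_inf_cent {H K A : Subgroup G} (hK : H ≤ normalizer (K : Set G)) (hA : H ≤ normalizer (A : Set G)) :
    H ≤ normalizer ((K ⊓ centralizer (A : Set G) : Subgroup G) : Set G) := by
  apply norm_of
  rintro c hc b ⟨hb1, hb2⟩
  refine ⟨conj_mem hK hc hb1, mem_centralizer_iff.2 fun n hn => ?_⟩
  have hn' : c⁻¹ * n * c ∈ A := by
    have := conj_mem hA (inv_mem hc) hn
    rwa [inv_inv] at this
  have h1 := mem_centralizer_iff.1 hb2 _ hn'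
  calc n * (c * b * c⁻¹) = c * ((c⁻¹ * n * c) * b) * c⁻¹ := by group
    _ = c * b * c⁻¹ * n := by rw [h1]; group

theorem norm_cent {H A : Subgroup G} (hA : H ≤ normalizer (A : Set G)) :
    H ≤ normalizer (centralizer (A : Set G) : Set G) := by
  have h1 : H ≤ normalizer ((⊤ : Subgroup G) : Set G) := norm_of fun _ _ _ _ => mem_top _
  have := norm_inf_cent h1 hA
  rwa [top_inf_eq] at this

theorem norm_closure {s : Set G} {g : G} {B : Subgroup G} (h : ∀ x ∈ s, g * x * g⁻¹ ∈ B) {x : G}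
    (hx : x ∈ closure s) : g * x * g⁻¹ ∈ B := by
  have h1 : closure s ≤ B.comap (MulAut.conj g).toMonoidHom := by
    rw [closure_le]
    intro y hy
    exact h y hy
  exact h1 hx

end tools

section defs

variable {ι : Type} (V : ι → Subgroup G)

/-- `∏ D_i` -/
def DA : Subgroup G := closure {x | ∃ i, x ∈ DD V i}

/-- `D^i = ∏_{j ≠ i} D_j` -/
def Do (i : ι) : Subgroup G := closure {x | ∃ j, j ≠ i ∧ x ∈ DD V j}

/-- `⟨U_v⟩` -/
def YY : Subgroup G := closure {x | ∃ i, ∃ v ∈ V i, v ≠ 1 ∧ x ∈ UU V i v}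

variable {V}

theorem DD_le_DA {i : ι} : DD V i ≤ DA V := fun _ hx => subset_closure ⟨i, hx⟩

theorem DD_le_Do {i j : ι} (hj : j ≠ i) : DD V j ≤ Do V i := fun _ hx => subset_closure ⟨j, hj, hx⟩

theorem V_le_DD' {i : ι} : V i ≤ DD V i :=
  fun _ hx => mem_DD.2 fun _ hl _ _ _ => V_le_UU (Ne.symm hl) hx

theorem V_le_DA {i : ι} : V i ≤ DA V := V_le_DD'.trans DD_le_DA

theorem Do_le_DA {i : ι} : Do V i ≤ DA V := Subgroup.closure_mono fun _ ⟨j, _, hx⟩ => ⟨j, hx⟩

theorem Do_le_UU {i : ι} {v : G} (hv : v ∈ V i) (hv1 : v ≠ 1) : Do V i ≤ UU V i v := by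
  rw [Do, closure_le]
  rintro x ⟨j, hj, hx⟩
  exact mem_DD.1 hx i (Ne.symm hj) v hv hv1

end defs

namespace Fr

variable {ι : Type} [Finite ι] {S : Sylow 2 G} {V : ι → Subgroup G} [Finite G] (h : Fr (S : Subgroup G) V)
include h

omit [Finite ι] in
theorem DD_comm (hk : ∀ i j : ι, ∃ l, l ≠ i ∧ l ≠ j) {i j : ι} {x y : G} (hx : x ∈ DD V i) (hy : y ∈ DD V j) :
    x * y = y * x := by
  obtain ⟨l, hl1, hl2⟩ := hk i j
  obtain ⟨p, hp, -, -, hp1, -, -⟩ := h.exists_two l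
  exact h.U_comm hp hp1 (mem_DD.1 hx l hl1 p hp hp1) (mem_DD.1 hy l hl2 p hp hp1)

/-- all `U_v` commute -/
theorem UU_comm (hH : H2 V) (hk : ∀ i j : ι, ∃ l, l ≠ i ∧ l ≠ j) {i j : ι} {v p : G} (hv : v ∈ V i) (hv1 : v ≠ 1)
    (hp : p ∈ V j) (hp1 : p ≠ 1) {x y : G} (hx : x ∈ UU V i v) (hy : y ∈ UU V j p) : x * y = y * x := by
  by_cases hij : i = j
  · subst hij
    exact h.U_comm_U hH hk hv hv1 hp hp1 hx hy
  · exact h.U_cent hp hp1 hy (hH i j hij v hv hv1 p hp hp1 hx)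

theorem YY_comm (hH : H2 V) (hk : ∀ i j : ι, ∃ l, l ≠ i ∧ l ≠ j) {x y : G} (hx : x ∈ YY V) (hy : y ∈ YY V) :
    x * y = y * x := by
  refine cent_of_closure ?_ hy
  rintro w ⟨j, p, hp, hp1, hw⟩
  refine (cent_of_closure ?_ hx).symm
  rintro w' ⟨i, v, hv, hv1, hw'⟩
  exact h.UU_comm hH hk hp hp1 hv hv1 hw hw'

theorem YY_sq (hH : H2 V) (hk : ∀ i j : ι, ∃ l, l ≠ i ∧ l ≠ j) {x : G} (hx : x ∈ YY V) : x * x = 1 := by
  refine sq_of_closure ?_ (fun x hx y hy => h.YY_comm hH hk hx hy) hx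
  rintro w ⟨i, v, hv, hv1, hw⟩
  exact h.U_sq hv hv1 hw

theorem YY_two (hH : H2 V) (hk : ∀ i j : ι, ∃ l, l ≠ i ∧ l ≠ j) : IsPGroup 2 (YY V) :=
  isPGroup_of_sq fun _ hx => h.YY_sq hH hk hx

omit [Finite ι] in
/-- (A3) -/
theorem norm_DD {i : ι} {v c x : G} (hcU : ∀ u ∈ UU V i v, c * u = u * c) (hx : x ∈ DD V i) :
    c * x * c⁻¹ ∈ DD V i := by
  refine mem_DD.2 fun j hj p hp hp1 => ?_
  have h1 : c ∈ cz p := mem_cent.2 (hcU p (V_le_UU hj hp))
  exact conj_mem cz_norm_UU h1 (mem_DD.1 hx j hj p hp hp1)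

omit [Finite ι] in
theorem Cc_norm {i : ι} {v : G} :
    cz v ≤ normalizer ((cz v ⊓ centralizer (UU V i v : Set G) : Subgroup G) : Set G) :=
  norm_inf_cent (le_normalizer) cz_norm_UU

/-- (A3) -/
theorem U_le_qz (hH : H2 V) (hk : ∀ i j : ι, ∃ l, l ≠ i ∧ l ≠ j) {i j : ι} {v p : G} (hv : v ∈ V i) (hv1 : v ≠ 1)
    (hp : p ∈ V j) (hp1 : p ≠ 1) : UU V j p ≤ qz v := by
  by_cases hij : j = i
  · subst hij
    have hC2n : (cz v ⊓ centralizer (UU V j v : Set G) : Subgroup G) ≤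
        normalizer (((cz v ⊓ centralizer (UU V j v : Set G)) ⊓ centralizer (DD V j : Set G) : Subgroup G) : Set G) :=
      norm_inf_cent le_normalizer (norm_of fun c hc x hx =>
        h.norm_DD (v := v) (fun u hu => (mem_centralizer_iff.1 hc.2 u hu).symm) hx)
    have h1 : UU V j p ≤ (cz v ⊓ centralizer (UU V j v : Set G)) ⊓ centralizer (DD V j : Set G) := by
      intro x hx
      refine ⟨⟨mem_cent.2 (h.U_le_cent hp hp1 hx hv), mem_centralizer_iff.2 fun u hu => ?_⟩,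
        mem_centralizer_iff.2 fun d hd => ?_⟩
      · exact h.UU_comm hH hk hv hv1 hp hp1 hu hx
      · obtain ⟨l, hl, -⟩ := hk j j
        obtain ⟨t, ht, -, -, ht1, -, -⟩ := h.exists_two l
        exact h.UU_comm hH hk ht ht1 hp hp1 (mem_DD.1 hd l hl t ht ht1) hx
    have h2 : ((cz v ⊓ centralizer (UU V j v : Set G)) ⊓ centralizer (DD V j : Set G) : Subgroup G) ≤
        normalizer (UU V j p : Set G) := by
      refine le_trans ?_ cz_norm_UU
      rintro x ⟨-, hx⟩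
      exact mem_cent.2 (mem_centralizer_iff.1 hx p (V_le_DD' hp)).symm
    exact ((le_o2 h1 (h.U_two hp hp1) h2).trans (o2_le_o2_of inf_le_left hC2n)).trans
      (o2_le_o2_of inf_le_left h.Cc_norm)
  · exact hH j i hij p hp hp1 v hv hv1

theorem YY_le_qz (hH : H2 V) (hk : ∀ i j : ι, ∃ l, l ≠ i ∧ l ≠ j) {i : ι} {v : G} (hv : v ∈ V i) (hv1 : v ≠ 1) :
    YY V ≤ qz v := by
  rw [YY, closure_le]
  rintro x ⟨j, p, hp, hp1, hx⟩
  exact h.U_le_qz hH hk hv hv1 hp hp1 hx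

omit [Finite ι] in
theorem DD_le_YY (hk : ∀ i j : ι, ∃ l, l ≠ i ∧ l ≠ j) {i : ι} : DD V i ≤ YY V := by
  intro x hx
  obtain ⟨j, hj, -⟩ := hk i i
  obtain ⟨p, hp, -, -, hp1, -, -⟩ := h.exists_two j
  exact subset_closure ⟨j, p, hp, hp1, mem_DD.1 hx j hj p hp hp1⟩

omit [Finite ι] in
theorem S_norm_YY : (S : Subgroup G) ≤ normalizer (YY V : Set G) := by
  apply norm_of
  intro s hs x hx
  refine norm_closure ?_ hx
  rintro y ⟨i, v, hv, hv1, hy⟩
  obtain ⟨j, hj⟩ := h.perm s hs i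
  refine subset_closure ⟨j, s * v * s⁻¹, (hj v).1 hv, fun h2 => hv1 ?_, h.perm_UU hj hs hy⟩
  have e : v = s⁻¹ * (s * v * s⁻¹) * s := by group
  rw [e, h2]; group

/-- (A4) -/
theorem gl_YY (hH : H2 V) (hk : ∀ i j : ι, ∃ l, l ≠ i ∧ l ≠ j) (i : ι) : Gl V i (YY V) where
  tv := fun _ hv hv1 _ hg => ⟨KK_comm hg, fun _ hu => h.KK_act hv hg (h.YY_le_qz hH hk hv hv1 hu)⟩
  le := h.DD_le_YY hk
  ker := by
    intro v hv hv1 g hg hgD y hy
    refine cent_of_closure ?_ hy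
    rintro u ⟨j, p, hp, hp1, hu⟩
    by_cases hj : j = i
    · subst hj
      by_cases hpv : p = v
      · subst hpv
        exact h.U_cent hv hv1 hu (h.KK_le_q hv hv1 hg)
      · by_contra hcon
        have h1 := h.KK_act hv hg (h.U_le_qz hH hk hv hv1 hp hp1 hu)
        have h2 : g ∈ cz p := mem_cent.2 (hgD p (V_le_DD j hp))
        have h3 := conj_mem cz_norm_UU h2 hu
        rcases h1 with h1 | h1
        · exact hcon (comm_of_conj h1)
        · rw [h1] at h3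
          have h4 : v ∈ UU V j p := by
            have := mul_mem h3 (inv_mem hu)
            rwa [mul_inv_cancel_right] at this
          obtain ⟨k, hk', h5⟩ := h.move hp hv hp1 hv1 hpv
          have h6 := h.U_cent hp hp1 h4 (h.KK_le_q hp hp1 hk')
          rw [conj_of_comm h6] at h5
          exact hp1 (mul_eq_right.1 h5.symm)
    · exact h.cent_U hH hk hj hp hp1 hv hv1 hg hgD u hu

theorem YY_le_DA (hH : H2 V) (hk : ∀ i j : ι, ∃ l, l ≠ i ∧ l ≠ j) : YY V ≤ DA V := by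
  classical
  have := Fintype.ofFinite ι
  intro y hy
  obtain ⟨d, hd, hdY, h1⟩ := h.glue (fun x hx y hy => h.YY_comm hH hk hx hy) Finset.univ
    (fun i _ => h.gl_YY hH hk i) hy
  have h2 : y * d = 1 := h.fix_bot (A := YY V) (h.YY_two hH hk) h.S_norm_YY
    (mul_mem hy hdY) (fun i g hg => h1 i (Finset.mem_univ i) g hg)
  have h3 : d ∈ DA V := by
    rw [DA]
    refine Subgroup.closure_mono ?_ hd
    rintro x ⟨i, _, hx⟩
    exact ⟨i, hx⟩
  rw [eq_inv_of_mul_eq_one_left h2]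
  exact inv_mem h3

theorem YY_eq (hH : H2 V) (hk : ∀ i j : ι, ∃ l, l ≠ i ∧ l ≠ j) : YY V = DA V := by
  refine le_antisymm (h.YY_le_DA hH hk) ?_
  rw [DA, closure_le]
  rintro x ⟨i, hx⟩
  exact h.DD_le_YY hk hx

/-! ### (A5) -/

/-- `C_{DA}(W_v) ≤ ⟨v⟩ D^i` -/
theorem cent_KK (hH : H2 V) (hk : ∀ i j : ι, ∃ l, l ≠ i ∧ l ≠ j) {i : ι} {v : G} (hv : v ∈ V i) (hv1 : v ≠ 1)
    {y : G} (hy : y ∈ DA V) (hc : ∀ g ∈ KK v, g * y = y * g) : y ∈ Do V i ∨ v * y ∈ Do V i := by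
  have hy' : y ∈ closure {x | ∃ j, (fun _ : ι => True) j ∧ x ∈ DD V j} := by
    rw [DA] at hy
    refine Subgroup.closure_mono ?_ hy
    rintro x ⟨j, hx⟩
    exact ⟨j, trivial, hx⟩
  obtain ⟨a, ha, b, hb, rfl⟩ := split (A := DD V) (fun i j _ x hx y hy => h.DD_comm hk hx hy) (fun _ => True) i hy'
  have hb' : b ∈ Do V i := by
    rw [Do]
    refine Subgroup.closure_mono ?_ hb
    rintro x ⟨j, ⟨_, hj⟩, hx⟩
    exact ⟨j, hj, hx⟩
  have hbX : ∀ g ∈ XX V i, g * b = b * g := by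
    intro g hg
    refine cent_of_closure ?_ hb'
    rintro y ⟨j, hj, hy⟩
    exact h.cent_DD (Ne.symm hj) g hg y hy
  have h1 : ∀ g ∈ KK v, g * a = a * g := by
    intro g hg
    have h3 := hc g hg
    have h4 := hbX g (KK_le_XX hv hv1 hg)
    have h5 : g * a * b = a * g * b := by
      calc g * a * b = g * (a * b) := by group
        _ = a * (b * g) := by rw [h3]; group
        _ = a * g * b := by rw [← h4]; group
    exact mul_right_cancel h5
  have haY : a ∈ YY V := h.DD_le_YY hk ha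
  have hvY : V i ≤ YY V := V_le_DD'.trans (h.DD_le_YY hk)
  obtain ⟨v', hv', hv1', hvv'⟩ := h.exists_other (i := i) v
  have key : ∀ t ∈ DD V i, (∀ g ∈ XX V i, g * t = t * g) → t = 1 := by
    intro t ht h3
    refine h.fix_bot (A := YY V) (h.YY_two hH hk) h.S_norm_YY (h.DD_le_YY hk ht) fun j g hg => ?_
    by_cases hji : j = i
    · subst hji; exact h3 g hg
    · exact h.cent_DD hji g hg t ht
  rcases h.second (Y := YY V) (fun x hx y hy => h.YY_comm hH hk hx hy) hv hv' hv1 hv1' hvv' (hvY hv) (hvY hv')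
    ((h.gl_YY hH hk i).tv v' hv' hv1') haY h1 with h2 | h2
  · left
    rw [key a ha h2, one_mul]
    exact hb'
  · right
    have h3 := key (a * v) (mul_mem ha (V_le_DD' hv)) h2
    have h4 : v * (a * b) = (a * v) * b := by
      rw [← mul_assoc, h.DD_comm hk (V_le_DD' hv) ha]
    rw [h4, h3, one_mul]
    exact hb'

theorem DA_comm (hH : H2 V) (hk : ∀ i j : ι, ∃ l, l ≠ i ∧ l ≠ j) {x y : G} (hx : x ∈ DA V) (hy : y ∈ DA V) :
    x * y = y * x := by
  rw [← h.YY_eq hH hk] at hx hy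
  exact h.YY_comm hH hk hx hy

theorem DA_le_qz (hH : H2 V) (hk : ∀ i j : ι, ∃ l, l ≠ i ∧ l ≠ j) {i : ι} {v : G} (hv : v ∈ V i) (hv1 : v ≠ 1) :
    DA V ≤ qz v := by
  rw [← h.YY_eq hH hk]
  exact h.YY_le_qz hH hk hv hv1

theorem S_norm_DA (hH : H2 V) (hk : ∀ i j : ι, ∃ l, l ≠ i ∧ l ≠ j) :
    (S : Subgroup G) ≤ normalizer (DA V : Set G) := by
  rw [← h.YY_eq hH hk]
  exact h.S_norm_YY

theorem DA_two (hH : H2 V) (hk : ∀ i j : ι, ∃ l, l ≠ i ∧ l ≠ j) : IsPGroup 2 (DA V) := by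
  rw [← h.YY_eq hH hk]
  exact h.YY_two hH hk

theorem UU_le_DA (hH : H2 V) (hk : ∀ i j : ι, ∃ l, l ≠ i ∧ l ≠ j) {i : ι} {v : G} (hv : v ∈ V i) (hv1 : v ≠ 1) :
    UU V i v ≤ DA V := by
  rw [← h.YY_eq hH hk]
  exact fun x hx => subset_closure ⟨i, v, hv, hv1, hx⟩

/-- `U_v ≤ ⟨v⟩ D^i` -/
theorem UU_le (hH : H2 V) (hk : ∀ i j : ι, ∃ l, l ≠ i ∧ l ≠ j) {i : ι} {v : G} (hv : v ∈ V i) (hv1 : v ≠ 1)
    {u : G} (hu : u ∈ UU V i v) : u ∈ Do V i ∨ v * u ∈ Do V i :=
  h.cent_KK hH hk hv hv1 (h.UU_le_DA hH hk hv hv1 hu) fun _ hg => h.U_cent hv hv1 hu (h.KK_le_q hv hv1 hg)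

omit [Finite ι] in
/-- `C_v ∩ C(U_v)` normalises `DA` -/
theorem Cc_norm_DA {i : ι} {v : G} (hv : v ∈ V i) (hv1 : v ≠ 1) :
    centralizer (UU V i v : Set G) ≤ normalizer (DA V : Set G) := by
  apply norm_of
  intro c hc x hx
  have hcU : ∀ u ∈ UU V i v, c * u = u * c := fun u hu => (mem_centralizer_iff.1 hc u hu).symm
  refine norm_closure ?_ hx
  rintro y ⟨j, hy⟩
  by_cases hji : j = i
  · subst hji
    exact DD_le_DA (h.norm_DD hcU hy)
  · rw [conj_of_comm (hcU y (mem_DD.1 hy i (Ne.symm hji) v hv hv1))]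
    exact DD_le_DA hy

theorem OO_le_qz (hH : H2 V) (hk : ∀ i j : ι, ∃ l, l ≠ i ∧ l ≠ j) {i : ι} {v : G} (hv : v ∈ V i) (hv1 : v ≠ 1) :
    o2 (centralizer (DA V : Set G)) ≤ qz v := by
  have h1 : centralizer (DA V : Set G) ≤ cz v ⊓ centralizer (UU V i v : Set G) := by
    intro x hx
    refine ⟨mem_cent.2 (mem_centralizer_iff.1 hx v (V_le_DA hv)).symm, ?_⟩
    exact mem_centralizer_iff.2 fun u hu => mem_centralizer_iff.1 hx u (h.UU_le_DA hH hk hv hv1 hu)
  have h2 : (cz v ⊓ centralizer (UU V i v : Set G) : Subgroup G) ≤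
      normalizer (centralizer (DA V : Set G) : Set G) :=
    norm_cent (inf_le_right.trans (h.Cc_norm_DA hv hv1))
  exact (o2_le_o2_of h1 h2).trans (o2_le_o2_of inf_le_left h.Cc_norm)

theorem S_norm_OO (hH : H2 V) (hk : ∀ i j : ι, ∃ l, l ≠ i ∧ l ≠ j) :
    (S : Subgroup G) ≤ normalizer (o2 (centralizer (DA V : Set G)) : Set G) :=
  norm_o2 (norm_cent (h.S_norm_DA hH hk))

omit [Finite ι] h in
theorem OO_cent {x d : G} (hx : x ∈ o2 (centralizer (DA V : Set G))) (hd : d ∈ DA V) : x * d = d * x :=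
  (mem_centralizer_iff.1 (o2_le _ hx) d hd).symm

theorem OO_sq (hH : H2 V) (hk : ∀ i j : ι, ∃ l, l ≠ i ∧ l ≠ j) {x : G}
    (hx : x ∈ o2 (centralizer (DA V : Set G))) : x * x = 1 := by
  refine h.fix_bot (o2_isPGroup _) (h.S_norm_OO hH hk) (mul_mem hx hx) fun i => cent_of_XX ?_
  intro v hv hv1 g hg
  apply comm_of_conj
  have h1 := OO_cent hx (V_le_DA hv)
  rcases h.KK_act hv hg (h.OO_le_qz hH hk hv hv1 hx) with h2 | h2
  · calc g * (x * x) * g⁻¹ = (g * x * g⁻¹) * (g * x * g⁻¹) := by group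
      _ = x * x := by rw [h2]
  · calc g * (x * x) * g⁻¹ = (g * x * g⁻¹) * (g * x * g⁻¹) := by group
      _ = v * (x * v) * x := by rw [h2]; group
      _ = (v * v) * (x * x) := by rw [h1]; group
      _ = x * x := by rw [h.sq i v hv, one_mul]

theorem OO_comm (hH : H2 V) (hk : ∀ i j : ι, ∃ l, l ≠ i ∧ l ≠ j) {x y : G}
    (hx : x ∈ o2 (centralizer (DA V : Set G))) (hy : y ∈ o2 (centralizer (DA V : Set G))) : x * y = y * x := by
  have h1 := h.OO_sq hH hk hx
  have h2 := h.OO_sq hH hk hy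
  have h3 := h.OO_sq hH hk (mul_mem hx hy)
  calc x * y = x * (x * y * (x * y)) * y := by rw [h3, mul_one]
    _ = (x * x) * (y * x) * (y * y) := by group
    _ = y * x := by rw [h1, h2, one_mul, mul_one]

theorem DA_le_OO (hH : H2 V) (hk : ∀ i j : ι, ∃ l, l ≠ i ∧ l ≠ j) : DA V ≤ o2 (centralizer (DA V : Set G)) := by
  refine le_o2 ?_ (h.DA_two hH hk) ?_
  · intro x hx
    exact mem_centralizer_iff.2 fun y hy => h.DA_comm hH hk hy hx
  · apply norm_of
    intro c hc x hx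
    rw [conj_of_comm (mem_centralizer_iff.1 hc x hx).symm]
    exact hx

theorem gl_OO (hH : H2 V) (hk : ∀ i j : ι, ∃ l, l ≠ i ∧ l ≠ j) (i : ι) :
    Gl V i (o2 (centralizer (DA V : Set G))) where
  tv := fun _ hv hv1 _ hg => ⟨KK_comm hg, fun _ hu => h.KK_act hv hg (h.OO_le_qz hH hk hv hv1 hu)⟩
  le := DD_le_DA.trans (h.DA_le_OO hH hk)
  ker := by
    intro v hv hv1 g hg hgD y hy
    have hgA : g ∈ centralizer (DA V : Set G) := by
      refine mem_centralizer_iff.2 fun x hx => ?_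
      refine (cent_of_closure ?_ hx).symm
      rintro d ⟨j, hd⟩
      by_cases hji : j = i
      · subst hji; exact hgD d hd
      · exact h.cent_DD (Ne.symm hji) g (KK_le_XX hv hv1 hg) d hd
    have hcv : centralizer (DA V : Set G) ≤ cz v := fun x hx =>
      mem_cent.2 (mem_centralizer_iff.1 hx v (V_le_DA hv)).symm
    have h1 : centralizer (DA V : Set G) ⊓ KK v ≤ o2 (centralizer (DA V : Set G)) := by
      refine le_o2 inf_le_left ((h.KK_two hv hv1).to_le inf_le_right) ?_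
      apply norm_of
      rintro c hc b ⟨hb1, hb2⟩
      exact ⟨mul_mem (mul_mem hc hb1) (Subgroup.inv_mem _ hc), conj_mem (norm_KK hcv) hc hb2⟩
    exact h.OO_comm hH hk (h1 ⟨hgA, hg⟩) hy

theorem OO_le_DA (hH : H2 V) (hk : ∀ i j : ι, ∃ l, l ≠ i ∧ l ≠ j) : o2 (centralizer (DA V : Set G)) ≤ DA V := by
  classical
  have := Fintype.ofFinite ι
  intro y hy
  obtain ⟨d, hd, hdY, h1⟩ := h.glue (fun x hx y hy => h.OO_comm hH hk hx hy) Finset.univ
    (fun i _ => h.gl_OO hH hk i) hy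
  have h2 : y * d = 1 := h.fix_bot (o2_isPGroup _) (h.S_norm_OO hH hk)
    (mul_mem hy hdY) (fun i g hg => h1 i (Finset.mem_univ i) g hg)
  have h3 : d ∈ DA V := by
    rw [DA]
    refine Subgroup.closure_mono ?_ hd
    rintro x ⟨i, _, hx⟩
    exact ⟨i, hx⟩
  rw [eq_inv_of_mul_eq_one_left h2]
  exact inv_mem h3

/-- **(A5)** : `C_G(DA) = DA` -/
theorem cent_DA (hG : IsCharacteristicTwoType G) (hH : H2 V) (hk : ∀ i j : ι, ∃ l, l ≠ i ∧ l ≠ j) (i : ι) :
    centralizer (DA V : Set G) ≤ DA V := by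
  obtain ⟨a, ha, -, -, ha1, -, -⟩ := h.exists_two i
  have hne : DA V ≠ ⊥ := fun h1 => ha1 (mem_bot.1 (h1 ▸ (V_le_DA ha : a ∈ DA V)))
  have h1 := MinSimple.Basic.char2_normalizer hG (h.DA_two hH hk) hne
  have h2 : centralizer (DA V : Set G) ≤ normalizer (DA V : Set G) := by
    apply norm_of
    intro c hc x hx
    rw [conj_of_comm (mem_centralizer_iff.1 hc x hx).symm]
    exact hx
  have h3 := NOne.LemmaT.char2_of_normal h1 h2 (norm_cent le_rfl)
  refine le_trans ?_ (h.OO_le_DA hH hk)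
  refine le_trans (le_inf le_rfl ?_) h3
  intro x hx
  refine mem_centralizer_iff.2 fun y hy => ?_
  exact mem_centralizer_iff.1 hx y (h.OO_le_DA hH hk hy)

/-- `Z(Q_v) ≤ ⟨v⟩ D^i` -/
theorem zq (hG : IsCharacteristicTwoType G) (hH : H2 V) (hk : ∀ i j : ι, ∃ l, l ≠ i ∧ l ≠ j) {i : ι} {v : G}
    (hv : v ∈ V i) (hv1 : v ≠ 1) {y : G} (hy : ∀ q ∈ qz v, q * y = y * q) : y ∈ Do V i ∨ v * y ∈ Do V i := by
  refine h.cent_KK hH hk hv hv1 (h.cent_DA hG hH hk i ?_) fun g hg => hy g (h.KK_le_q hv hv1 hg)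
  exact mem_centralizer_iff.2 fun d hd => hy d (h.DA_le_qz hH hk hv hv1 hd)

omit [Finite ι] in
/-- `X^i` centralises `D^i` -/
theorem X_Do {i : ι} {g x : G} (hg : g ∈ XX V i) (hx : x ∈ Do V i) : g * x = x * g := by
  refine cent_of_closure ?_ hx
  rintro y ⟨j, hj, hy⟩
  exact h.cent_DD (Ne.symm hj) g hg y hy

/-- **END, `k' ≥ 2`.** -/
theorem kill_two (hG : IsCharacteristicTwoType G) (hH : H2 V) (hk : ∀ i j : ι, ∃ l, l ≠ i ∧ l ≠ j) {i : ι} {v : G}
    (hv : v ∈ V i) (hv1 : v ≠ 1) {A B : Subgroup G} (hvA : v ∈ A) {b₁ b₂ : G} (hb₁ : b₁ ∈ B) (hb₂ : b₂ ∈ B)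
    (h₁ : b₁ ≠ 1) (h₂ : b₂ ≠ 1) (h₁₂ : b₁ ≠ b₂) (hB : ∀ b ∈ B, ∀ q ∈ qz v, q * b = b * q)
    (hA : ∀ b ∈ B, b ≠ 1 → A ≤ qz b ∧ ∀ a ∈ A, ∀ q ∈ qz b, q * a = a * q)
    {a x : G} (ha : a ∈ A) (hx : x ∈ V i) (hax : a * x ≠ x * a) : False := by
  have hvq : v ∈ qz v := h.VQ i i v hv hv1 hv
  have hvv := h.sq i v hv
  -- some `d ∈ B`, `d ∈ D^i`
  obtain ⟨d, hd, hd1, hdD⟩ : ∃ d ∈ B, d ≠ 1 ∧ d ∈ Do V i := by
    rcases h.zq hG hH hk hv hv1 (hB b₁ hb₁) with e1 | e1
    · exact ⟨b₁, hb₁, h₁, e1⟩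
    rcases h.zq hG hH hk hv hv1 (hB b₂ hb₂) with e2 | e2
    · exact ⟨b₂, hb₂, h₂, e2⟩
    have h3 := hB b₁ hb₁ v hvq
    have h4 : b₁ ∈ YY V := by
      rw [h.YY_eq hH hk]
      have h5 := mul_mem (inv_mem (V_le_DA hv)) (Do_le_DA e1)
      rwa [inv_mul_cancel_left] at h5
    have h5 := h.YY_sq hH hk h4
    refine ⟨b₁ * b₂, mul_mem hb₁ hb₂, fun h6 => h₁₂ ?_, ?_⟩
    · exact mul_left_cancel (h5.trans h6.symm)
    · have h6 := mul_mem e1 e2
      have e : v * b₁ * (v * b₂) = b₁ * b₂ := by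
        calc v * b₁ * (v * b₂) = v * (b₁ * v) * b₂ := by group
          _ = (v * v) * (b₁ * b₂) := by rw [← h3]; group
          _ = b₁ * b₂ := by rw [hvv, one_mul]
      rwa [e] at h6
  obtain ⟨hAd, hAc⟩ := hA d hd hd1
  have hXd : XX V i ≤ cz d := fun g hg => mem_cent.2 (h.X_Do hg hdD)
  obtain ⟨v', hv', hv1', hvv'⟩ := h.exists_other (i := i) v
  obtain ⟨g, hg, hgv⟩ := h.move hv' hv hv1' hv1 (Ne.symm hvv')
  have hgd : g ∈ cz d := hXd (KK_le_XX hv' hv1' hg)
  -- `g v g⁻¹` centralises `Q_d`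
  have h3 : ∀ q ∈ qz d, q * (v' * v) = v' * v * q := by
    intro q hq
    rw [← hgv]
    have h4 : g⁻¹ * q * g ∈ qz d := by
      have := conj_mem (le_normalizer_o2 (cz d)) (inv_mem hgd) hq
      rwa [inv_inv] at this
    have h5 := hAc v hvA _ h4
    calc q * (g * v * g⁻¹) = g * ((g⁻¹ * q * g) * v) * g⁻¹ := by group
      _ = g * v * g⁻¹ * q := by rw [h5]; group
  have h4 : ∀ q ∈ qz d, q * v = v * q := hAc v hvA
  have h5 : ∀ q ∈ qz d, q * v' = v' * q := by
    intro q hq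
    have h6 := h3 q hq
    have h7 := h4 q hq
    have h8 : q * v' * v = v' * q * v := by
      calc q * v' * v = q * (v' * v) := by group
        _ = v' * (v * q) := by rw [h6]; group
        _ = v' * q * v := by rw [← h7]; group
    exact mul_right_cancel h8
  apply hax
  have haq := hAd ha
  rcases h.cases4 hv hv' hv1 hv1' hvv' hx with rfl | rfl | rfl | rfl
  · simp
  · exact h4 a haq
  · exact h5 a haq
  · have h6 : Commute a v := h4 a haq
    have h7 : Commute a v' := h5 a haq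
    exact (h6.mul_right h7).eq

/-- `v`, `p ∈ V i`, `p ≠ 1`: `X^i` moves `v` to `p` -/
theorem exists_conj {i : ι} {v p : G} (hv : v ∈ V i) (hp : p ∈ V i) (hv1 : v ≠ 1) (hp1 : p ≠ 1) :
    ∃ g ∈ XX V i, g * v * g⁻¹ = p := by
  by_cases hvp : v = p
  · exact ⟨1, one_mem _, by rw [hvp]; group⟩
  · have hvv := h.sq i v hv
    have hpp := h.sq i p hp
    have hc := h.comm i i v hv p hp
    have h1 : p * v ≠ 1 := fun h2 => hvp (mul_left_cancel (hpp.trans h2.symm)).symm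
    have h2 : p * v ≠ v := fun h2 => hp1 (mul_eq_right.1 h2)
    obtain ⟨g, hg, h3⟩ := h.move (mul_mem hp hv) hv h1 hv1 h2
    refine ⟨g, KK_le_XX (mul_mem hp hv) h1 hg, ?_⟩
    rw [h3, mul_assoc, hvv, mul_one]

/-- **`C_G(v) ≤ N_G(DA)`.** -/
theorem norm_cz (hG : IsCharacteristicTwoType G) (hH : H2 V) (hk : ∀ i j : ι, ∃ l, l ≠ i ∧ l ≠ j) {i : ι} {v : G}
    (hv : v ∈ V i) (hv1 : v ≠ 1) : cz v ≤ normalizer (DA V : Set G) := by
  have hvv := h.sq i v hv
  obtain ⟨v', hv', hv1', hvv'⟩ := h.exists_other (i := i) v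
  obtain ⟨j, hji, -⟩ := hk i i
  obtain ⟨p₁, hp₁, p₂, hp₂, hp₁1, hp₂1, hp₁₂⟩ := h.exists_two j
  -- (a) `c V_i c⁻¹ ≤ DA`
  have ha : ∀ c ∈ cz v, ∀ x ∈ V i, c * x * c⁻¹ ∈ DA V := by
    intro c hc
    have hcv : c * v = v * c := mem_cent.1 hc
    have hq : ∀ p ∈ V j, c⁻¹ * p * c ∈ Do V i ∨ v * (c⁻¹ * p * c) ∈ Do V i := by
      intro p hp
      have h1 : c⁻¹ * p * c ∈ UU V i v := by
        have := conj_mem (cz_norm_UU (V := V) (i := i)) (inv_mem hc) (V_le_UU hji hp)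
        rwa [inv_inv] at this
      exact h.UU_le hH hk hv hv1 h1
    obtain ⟨p, hp, hp1, hpD⟩ : ∃ p ∈ V j, p ≠ 1 ∧ c⁻¹ * p * c ∈ Do V i := by
      rcases hq p₁ hp₁ with e1 | e1
      · exact ⟨p₁, hp₁, hp₁1, e1⟩
      rcases hq p₂ hp₂ with e2 | e2
      · exact ⟨p₂, hp₂, hp₂1, e2⟩
      refine ⟨p₁ * p₂, mul_mem hp₁ hp₂, fun h6 => hp₁₂ (mul_left_cancel ((h.sq j p₁ hp₁).trans h6.symm)), ?_⟩
      have h6 := mul_mem e1 e2
      have h7 : c⁻¹ * v = v * c⁻¹ := by
        calc c⁻¹ * v = c⁻¹ * (v * c) * c⁻¹ := by group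
          _ = v * c⁻¹ := by rw [← hcv]; group
      have h8 : c⁻¹ * p₁ * c * v = v * (c⁻¹ * p₁ * c) := by
        calc c⁻¹ * p₁ * c * v = c⁻¹ * p₁ * (c * v) := by group
          _ = c⁻¹ * (p₁ * v) * c := by rw [hcv]; group
          _ = (c⁻¹ * v) * p₁ * c := by rw [h.comm j i p₁ hp₁ v hv]; group
          _ = v * (c⁻¹ * p₁ * c) := by rw [h7]; group
      have e : v * (c⁻¹ * p₁ * c) * (v * (c⁻¹ * p₂ * c)) = c⁻¹ * (p₁ * p₂) * c := by
        calc v * (c⁻¹ * p₁ * c) * (v * (c⁻¹ * p₂ * c)) = v * (c⁻¹ * p₁ * c * v) * (c⁻¹ * p₂ * c) := by group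
          _ = v * (v * (c⁻¹ * p₁ * c)) * (c⁻¹ * p₂ * c) := by rw [h8]
          _ = (v * v) * (c⁻¹ * (p₁ * p₂) * c) := by group
          _ = c⁻¹ * (p₁ * p₂) * c := by rw [hvv, one_mul]
      rwa [e] at h6
    intro x hx
    by_cases hx1 : x = 1
    · subst hx1
      simp
    obtain ⟨g, hg, h1⟩ := h.exists_conj hv hx hv1 hx1
    have h2 : c * g * c⁻¹ ∈ cz p := by
      refine mem_cent.2 ?_
      have h3 := h.X_Do hg hpD
      calc c * g * c⁻¹ * p = c * (g * (c⁻¹ * p * c)) * c⁻¹ := by group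
        _ = p * (c * g * c⁻¹) := by rw [h3]; group
    have h3 : v ∈ UU V j p := V_le_UU (Ne.symm hji) hv
    have h4 := conj_mem cz_norm_UU h2 h3
    have e : c * g * c⁻¹ * v * (c * g * c⁻¹)⁻¹ = c * x * c⁻¹ := by
      have h5 : c⁻¹ * v * c = v := by
        calc c⁻¹ * v * c = c⁻¹ * (v * c) := by group
          _ = v := by rw [← hcv]; group
      calc c * g * c⁻¹ * v * (c * g * c⁻¹)⁻¹ = c * (g * (c⁻¹ * v * c) * g⁻¹) * c⁻¹ := by group
        _ = c * x * c⁻¹ := by rw [h5, h1]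
    rw [e] at h4
    exact h.UU_le_DA hH hk hp hp1 h4
  -- (b) `D₀`
  have hVD0 : V i ≤ cl (V i ⊔ Do V i) (cz v) := le_sup_left.trans le_cl
  have hDoD0 : Do V i ≤ cl (V i ⊔ Do V i) (cz v) := le_sup_right.trans le_cl
  have hD0 : cl (V i ⊔ Do V i) (cz v) ≤ DA V := by
    refine cl_le fun c hc x hx => ?_
    have h1 : V i ⊔ Do V i ≤ (DA V).comap (MulAut.conj c).toMonoidHom := by
      refine sup_le (fun y hy => ha c hc y hy) fun y hy => ?_
      exact h.UU_le_DA hH hk hv hv1 (conj_mem cz_norm_UU hc (Do_le_UU hv hv1 hy))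
    exact h1 hx
  set D₀ : Subgroup G := cl (V i ⊔ Do V i) (cz v) with hD₀
  -- (d) `X^i` normalises `D₀`
  have hX : XX V i ≤ normalizer (D₀ : Set G) := by
    refine XX_le fun p hp hp1 => norm_of fun g hg x hx => ?_
    rcases h.KK_act hp hg (h.DA_le_qz hH hk hp hp1 (hD0 hx)) with h1 | h1
    · rw [h1]; exact hx
    · rw [h1]; exact mul_mem (hVD0 hp) hx
  -- (e) `C_p` normalises `D₀`
  have hcp : ∀ p ∈ V i, p ≠ 1 → cz p ≤ normalizer (D₀ : Set G) := by
    intro p hp hp1 c hc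
    obtain ⟨g, hg, h1⟩ := h.exists_conj hv hp hv1 hp1
    have h2 : g⁻¹ * c * g ∈ cz v := by
      refine mem_cent.2 ?_
      have h3 : c * p = p * c := mem_cent.1 hc
      rw [← h1] at h3
      calc g⁻¹ * c * g * v = g⁻¹ * (c * (g * v * g⁻¹)) * g := by group
        _ = v * (g⁻¹ * c * g) := by rw [h3]; group
    have h3 := mul_mem (mul_mem (hX hg) (cl_norm h2)) (inv_mem (hX hg))
    have e : g * (g⁻¹ * c * g) * g⁻¹ = c := by group
    rwa [e] at h3
  -- (f) `N₀`, `A₀`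
  have hN0 : ∀ p ∈ V i, p ≠ 1 → o2 (centralizer (D₀ : Set G)) ≤ qz p := by
    intro p hp hp1
    refine o2_le_o2_of (fun x hx => ?_) (norm_cent (hcp p hp hp1))
    exact mem_cent.2 (mem_centralizer_iff.1 hx p (hVD0 hp)).symm
  have hNU : centralizer (D₀ : Set G) ≤ centralizer (UU V i v : Set G) := by
    intro x hx
    refine mem_centralizer_iff.2 fun u hu => mem_centralizer_iff.1 hx u ?_
    rcases h.UU_le hH hk hv hv1 hu with h1 | h1
    · exact hDoD0 h1
    · have h2 := mul_mem (inv_mem (hVD0 hv)) (hDoD0 h1)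
      rwa [inv_mul_cancel_left] at h2
  have hDA0 : DA V ≤ o2 (centralizer (D₀ : Set G)) := by
    refine le_o2 (fun x hx => ?_) (h.DA_two hH hk) (hNU.trans (h.Cc_norm_DA hv hv1))
    exact mem_centralizer_iff.2 fun y hy => h.DA_comm hH hk (hD0 hy) hx
  -- (h) `A₀ ≤ C(DA) ≤ DA`
  have hA0 : o2 (centralizer (D₀ : Set G)) ≤ DA V := by
    intro a haA
    have haN := o2_le _ haA
    have hac : ∀ y ∈ D₀, a * y = y * a := fun y hy => (mem_centralizer_iff.1 haN y hy).symm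
    refine h.cent_DA hG hH hk i (mem_centralizer_iff.2 fun y hy => ?_)
    refine (cent_of_closure ?_ hy).symm
    rintro x ⟨l, hx⟩
    by_cases hli : l = i
    · subst hli
      have hw : a * x * a⁻¹ * x⁻¹ ∈ DD V l :=
        mul_mem (h.norm_DD (v := v) (fun u hu => (mem_centralizer_iff.1 (hNU haN) u hu).symm) hx) (inv_mem hx)
      have h1 : a * x * a⁻¹ * x⁻¹ = 1 := by
        refine h.fix_bot (A := YY V) (h.YY_two hH hk) h.S_norm_YY (h.DD_le_YY hk hw) fun m => ?_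
        by_cases hml : m = l
        · subst hml
          refine cent_of_XX fun p hp hp1 g hg => ?_
          have e1 := h.KK_act hp hg (hN0 p hp hp1 haA)
          have e2 := h.KK_act hp hg (h.DA_le_qz hH hk hp hp1 (DD_le_DA hx))
          have c1 : Commute p a := (hac p (hVD0 hp)).symm
          have c2 : Commute p x := h.DD_comm hk (V_le_DD' hp) hx
          have hpp := h.sq m p hp
          apply comm_of_conj
          have e3 : g * (a * x * a⁻¹ * x⁻¹) * g⁻¹ =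
              (g * a * g⁻¹) * (g * x * g⁻¹) * (g * a * g⁻¹)⁻¹ * (g * x * g⁻¹)⁻¹ := by group
          rw [e3]
          have k1 : ∀ y : G, Commute p y → (p * a) * y * (p * a)⁻¹ = a * y * a⁻¹ := by
            intro y hy
            have k2 : Commute p (a * y * a⁻¹) := (c1.mul_right hy).mul_right c1.inv_right
            calc (p * a) * y * (p * a)⁻¹ = p * (a * y * a⁻¹) * p⁻¹ := by group
              _ = a * y * a⁻¹ := by rw [k2.eq, mul_inv_cancel_right]
          have k3 : a * (p * x) * a⁻¹ * (p * x)⁻¹ = a * x * a⁻¹ * x⁻¹ := by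
            calc a * (p * x) * a⁻¹ * (p * x)⁻¹ = (a * p) * x * a⁻¹ * x⁻¹ * p⁻¹ := by group
              _ = p * (a * x * a⁻¹ * x⁻¹) * p⁻¹ := by rw [← c1.eq]; group
              _ = a * x * a⁻¹ * x⁻¹ := by
                  have k2 : Commute p (a * x * a⁻¹ * x⁻¹) :=
                    ((c1.mul_right c2).mul_right c1.inv_right).mul_right c2.inv_right
                  rw [k2.eq, mul_inv_cancel_right]
          rcases e1 with e1 | e1 <;> rcases e2 with e2 | e2 <;> rw [e1, e2]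
          · exact k3
          · rw [k1 x c2]
          · rw [k1 (p * x) ((Commute.refl p).mul_right c2)]
            exact k3
        · intro g hg
          exact h.cent_DD hml g hg _ hw
      calc a * x = (a * x * a⁻¹ * x⁻¹) * (x * a) := by group
        _ = x * a := by rw [h1, one_mul]
    · exact hac x (hDoD0 (DD_le_Do hli hx))
  have hEq : o2 (centralizer (D₀ : Set G)) = DA V := le_antisymm hA0 hDA0
  rw [← hEq]
  exact norm_o2 (norm_cent (hcp v hv hv1))

/-- **END, `k' = 1`.** -/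
theorem kill_one (hG : IsCharacteristicTwoType G) (hH : H2 V) (hk : ∀ i j : ι, ∃ l, l ≠ i ∧ l ≠ j) {z : G}
    (hz : z ∈ zc (S : Subgroup G)) (hz1 : z ≠ 1) (hzu : ∀ x ∈ zc (S : Subgroup G), x = 1 ∨ x = z)
    (hzi : ∀ i, ∃ a ∈ V i, ∃ c ∈ Vo V i, a ≠ 1 ∧ z = a * c)
    {i : ι} {v : G} (hv : v ∈ V i) (hv1 : v ≠ 1) {T : Sylow 2 G} (hT : (T : Subgroup G) ≤ cz v) : False := by
  obtain ⟨w, hw, x₀, hx₀, hwx⟩ := h.WV i v hv hv1
  have hvv := h.sq i v hv
  have hzS : z ∈ (S : Subgroup G) := (mem_zc.1 hz).1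
  have hzc : ∀ s ∈ (S : Subgroup G), s * z = z * s := (mem_zc.1 hz).2.1
  have hzz : z ^ 2 = 1 := (mem_zc.1 hz).2.2
  have hvT : v ∈ (T : Subgroup G) := by
    have h1 : zpowers v ≤ (T : Subgroup G) := by
      refine MinPar.le_of_le_normalizer T ?_ ?_
      · refine isPGroup_of_sq fun x hx => ?_
        rcases (mem_zpowers_iff_of_sq hvv).1 hx with rfl | rfl
        · simp
        · exact hvv
      · apply norm_of
        intro t ht x hx
        rcases (mem_zpowers_iff_of_sq hvv).1 hx with rfl | rfl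
        · simp
        · rw [conj_of_comm (mem_cent.1 (hT ht))]; exact hx
    exact h1 (mem_zpowers v)
  have hVi : (⨆ i, V i) ≤ DA V := iSup_le fun i => V_le_DA
  refine End.one (S := S) (S' := T) (DD := DA V) (DD V) (v := v) (z := z) (w := w) (x₀ := x₀) ?_ (fun i => DD_le_DA)
    (fun x hx y hy => h.DA_comm hH hk hx hy) ?_ ?_ ?_ (hVi (h.zS hz)) ?_ ?_ hv1 hvv hvT
    (fun s hs => mem_cent.1 (hT hs)) ?_ ?_ ?_ (V_le_DA hx₀) hwx
  · -- `DA ≤ ⨆ D_i`
    rw [DA, closure_le]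
    rintro x ⟨j, hx⟩
    exact le_iSup (DD V) j hx
  · -- disjoint
    intro j l hjl
    rw [eq_bot_iff]
    rintro x ⟨hx1, hx2⟩
    refine mem_bot.2 (h.fix_bot (A := YY V) (h.YY_two hH hk) h.S_norm_YY (h.DD_le_YY hk hx1) fun m g hg => ?_)
    by_cases hmj : m = j
    · subst hmj; exact h.cent_DD hjl g hg x hx2
    · exact h.cent_DD hmj g hg x hx1
  · intro s hs j
    obtain ⟨l, -, hl⟩ := h.perm_DD hs j
    exact ⟨l, hl⟩
  · intro j
    obtain ⟨a, ha, b, hb, ha1, hb1, hab⟩ := h.exists_two j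
    exact ⟨a, V_le_DD' ha, b, V_le_DD' hb, hab, ha1, hb1⟩
  · -- `z ∉ D_j`
    intro j hzj
    obtain ⟨l, hlj, -⟩ := hk j j
    obtain ⟨a, ha, c, hc, ha1, rfl⟩ := hzi l
    obtain ⟨a', ha', ha1', haa'⟩ := h.exists_other (i := l) a
    obtain ⟨g, hg, h1⟩ := h.move ha' ha ha1' ha1 (Ne.symm haa')
    have h2 : g * (a * c) = a * c * g := h.cent_DD hlj g (KK_le_XX ha' ha1' hg) _ hzj
    have h3 : g * c = c * g := by
      refine cent_of_closure ?_ hc
      rintro y ⟨m, hm, hy⟩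
      exact mem_cent.1 (h.X_le hm hy (KK_le_XX ha' ha1' hg))
    have h4 : g * a = a * g := by
      have h5 : g * a * c = a * g * c := by
        calc g * a * c = g * (a * c) := by group
          _ = a * (c * g) := by rw [h2]; group
          _ = a * g * c := by rw [← h3]; group
      exact mul_right_cancel h5
    rw [conj_of_comm h4] at h1
    exact ha1' (mul_eq_right.1 h1.symm)
  · intro x hx hxx hxc
    exact hzu x (mem_zc.2 ⟨hx, hxc, by rw [pow_two]; exact hxx⟩)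
  · intro c hc x hx
    exact conj_mem (h.norm_cz hG hH hk hv hv1) (mem_cent.2 hc) hx
  · intro x hx
    exact h.KK_act hv hw (h.DA_le_qz hH hk hv hv1 hx)
  · -- `m⁻¹ w m ∈ S`
    intro m hm
    have h1 : m⁻¹ * w * m ∈ KK z := by
      have h2 := KK_conj (h := m⁻¹) hw
      have e : m⁻¹ * v * m⁻¹⁻¹ = z := by rw [← hm]; group
      rw [e, inv_inv] at h2
      exact h2
    have h2 : KK z ≤ qz z :=
      KK_le_o2 (by rw [← pow_two]; exact hzz) (MinSimple.Basic.char2_centralizer hG hzz hz1)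
    have h3 : qz z ≤ (S : Subgroup G) :=
      MinPar.le_of_le_normalizer S (o2_isPGroup _) fun s hs =>
        le_normalizer_o2 _ (mem_cent.2 (hzc s hs))
    exact h3 (h2 h1)

end Fr

end Cfsg.Agent.Omega.IId.Big

end

section


/-!
# WrBig, `q = 2`: the plug

* `CaseB` : (H2) holds in a frame with `k ≥ 3` natural factors (partner-free);
* `killTwo`, `killOne` : END of THEOREM A (#16750, #17530; helper428) for `k' ≥ 2` resp. `k' = 1`;
* `two_false`, `wrBigTwo_of` : `WrBigTwo K` from THEOREM C and CASE B;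
* `wrBigTwo_of_cases` : the same with CASE 1 (`stab M i` Sylow in `N_G(line M i)`, `WrBigTwoSyl`) separated, CASE B only
  in CASE 2 (`CaseBN`).
-/

set_option autoImplicit false
set_option linter.unusedSectionVars false

namespace Cfsg.Agent.Omega.IId.Big

open Subgroup Pointwise Cfsg Cfsg.Agent.ZN Cfsg.Agent.ZN.ChoiceBase
open Cfsg.Agent.Omega.MinPar Cfsg.Agent.Omega.Frame Cfsg.Agent.Omega.FFThm Cfsg.Agent.Omega.FrameMulti
open Triangle (KK mem_cent)
open Supply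

universe u

/-- **CASE B**: (H2) for `k ≥ 3` natural factors over the field of order 2. -/
def CaseB : Prop :=
  ∀ (G : Type u) [Group G] [Finite G] (S : Sylow 2 G) (P : Subgroup G) (F : Type) [Field F] [Finite F]
    [CharP F 2] (k : ℕ) (M : NatK F (S : Subgroup G) P (zl (S : Subgroup G) P) ⊥ k),
    IsCharacteristicTwoType G → IsParS (S : Subgroup G) P → CC M → Nat.card F = 2 →
      Fr (S : Subgroup G) (fac M) → 2 < k → H2 (fac M)

section

variable {G : Type u} [Group G] [Finite G] {F : Type} [Field F] [Finite F] [CharP F 2] {S : Sylow 2 G}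
  {P : Subgroup G} {k : ℕ}

omit [Finite G] [Finite F] [CharP F 2] in
theorem part_le_of (M : NatK F (S : Subgroup G) P (zl (S : Subgroup G) P) ⊥ k) (s : Finset (Fin k))
    {B : Subgroup G} (hB : ∀ l ∈ s, fac M l ≤ B) : part M (s : Set (Fin k)) ≤ B := by
  classical
  induction s using Finset.induction_on with
  | empty => rw [Finset.coe_empty, part_empty]; exact bot_le
  | insert i s _ ih =>
    intro v hv
    obtain ⟨a, ha, h1, h2⟩ := exists_component M hv.1 i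
    have h3 : a⁻¹ * v ∈ part M (s : Set (Fin k)) := by
      refine ⟨h2.1, fun j hj => ?_⟩
      by_cases hji : j = i
      · exact h2.2 j (fun h => h hji)
      · rw [M.mul _ (inv_mem ha.1) _ hv.1, e_inv M ha.1, Pi.add_apply, Pi.neg_apply,
          ha.2 j hji, hv.2 j (fun h => by
            rw [Finset.coe_insert, Set.mem_insert_iff] at h
            rcases h with h | h
            · exact hji h
            · exact hj h), neg_zero, add_zero]
    have h4 : v = a * (a⁻¹ * v) := by group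
    rw [h4]
    exact mul_mem (hB i (Finset.mem_insert_self _ _) ha)
      (ih (fun l hl => hB l (Finset.mem_insert_of_mem hl)) h3)

omit [Finite G] [Finite F] [CharP F 2] in
theorem part_compl_le (M : NatK F (S : Subgroup G) P (zl (S : Subgroup G) P) ⊥ k) (i : Fin k) :
    part M {i}ᶜ ≤ Vo (fac M) i := by
  classical
  have h := part_le_of M (Finset.univ.erase i) (B := Vo (fac M) i)
    (fun l hl => le_Vo (V := fac M) (Finset.ne_of_mem_erase hl))
  have e : ((Finset.univ.erase i : Finset (Fin k)) : Set (Fin k)) = {i}ᶜ := by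
    ext j
    simp
  rwa [e] at h

theorem three_blocks (hk : 2 < k) (i j : Fin k) : ∃ l, l ≠ i ∧ l ≠ j := by
  by_contra hcon
  push Not at hcon
  have h1 : (Finset.univ : Finset (Fin k)) ⊆ {i, j} := by
    intro l _
    rw [Finset.mem_insert, Finset.mem_singleton]
    by_cases h : l = i
    · exact Or.inl h
    · exact Or.inr (hcon l h)
  have h2 := Finset.card_le_card h1
  have h3 : ({i, j} : Finset (Fin k)).card ≤ 2 := Finset.card_le_two
  rw [Finset.card_univ, Fintype.card_fin] at h2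
  omega

/-- END of THEOREM A, `k' ≥ 2`. -/
theorem killTwo (M : NatK F (S : Subgroup G) P (zl (S : Subgroup G) P) ⊥ k)
    (hc : IsCharacteristicTwoType G) (hfr : Fr (S : Subgroup G) (fac M)) (hk : 2 < k) (hH : H2 (fac M))
    {i : Fin k} {v : G} (hv : v ∈ fac M i) (hv1 : v ≠ 1) {A B : Subgroup G} (h : Part (fac M i) v A B) :
    False := by
  obtain ⟨b₁, hb₁, b₂, hb₂, h1, h2, h12⟩ := h.two
  obtain ⟨a, ha, x, hx, hax⟩ := h.ne
  exact hfr.kill_two hc hH (three_blocks hk) hv hv1 h.vA hb₁ hb₂ h1 h2 h12 h.Bc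
    (fun b hb hb1 => ⟨h.Aq b hb hb1, h.Ac b hb hb1⟩) ha hx hax

/-- END of THEOREM A, `k' = 1`. -/
theorem killOne (M : NatK F (S : Subgroup G) P (zl (S : Subgroup G) P) ⊥ k)
    (hc : IsCharacteristicTwoType G) (hP : IsParS (S : Subgroup G) P) (hF : Nat.card F = 2)
    (hfr : Fr (S : Subgroup G) (fac M)) (hk : 2 < k) (hH : H2 (fac M))
    {i : Fin k} {v : G} (hv : v ∈ fac M i) (hv1 : v ≠ 1) {T : Sylow 2 G}
    (hT : (T : Subgroup G) ≤ centralizer ({v} : Set G)) : False := by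
  classical
  obtain ⟨x, z, B, hx⟩ := ThmC.TwoOf.exists_blk hF hc hP M (by omega)
  have hzV : z ∈ zl (S : Subgroup G) P := by
    have h1 := B.zV
    rwa [ThmC.TwoOf.iSup_fac] at h1
  have hVA : zl (S : Subgroup G) P ≤ zc (o2 P) :=
    Cfsg.Agent.MinSimple.VModule.zl_le_zc hP.le S.isPGroup'
      (MinSimple.Basic.not_dvd_relIndex S hP.le) (IsLoc.char2 S hc hP.isLoc)
  have hzc : zc (S : Subgroup G) ≤ zl (S : Subgroup G) P := zc_le_zl
  have hzS : z ∈ (S : Subgroup G) := B.QS (zc_le _ (hVA hzV))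
  refine hfr.kill_one hc hH (three_blocks hk) (z := z)
    (ZN.mem_zc.2 ⟨hzS, B.zS, by rw [pow_two]; exact sq M hzV⟩) B.z1 (fun y hy => ?_) (fun j => ?_) hv hv1 hT
  · exact B.fix y (hVA (hzc hy)) (ZN.mem_zc.1 hy).2.1
  · obtain ⟨a, ha, h1, h2⟩ := exists_component M hzV j
    refine ⟨a, ha, a⁻¹ * z, part_compl_le M j h2, fun h0 => B.z1 ?_, by group⟩
    rw [h0, e_one] at h1
    exact eq_one_of_cent M hzV B.zS h1.symm

end

section

variable {G : Type u} [Group G] [Finite G] {F : Type} [Field F] [Finite F] [CharP F 2] {S : Sylow 2 G}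
  {P : Subgroup G} {k : ℕ} {F' : Type} [Field F'] [Finite F'] [CharP F' 2] {S' : Sylow 2 G}
  {P' : Subgroup G} {k' : ℕ}

/-- **`k ≥ 3`, `q = 2`**: the contradiction. -/
theorem two_false (hc : IsCharacteristicTwoType G) (hStmt : ThmC.Stmt G)
    (h : Pair S S' P P')
    (hT : NoOver (zl (S : Subgroup G) P) P) (hT' : NoOver (zl (S' : Subgroup G) P') P')
    (M : NatK F (S : Subgroup G) P (zl (S : Subgroup G) P) ⊥ k)
    (M' : NatK F' (S' : Subgroup G) P' (zl (S' : Subgroup G) P') ⊥ k') (hk : 2 < k) (hk' : 1 ≤ k')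
    (hF : Nat.card F = 2)
    (hR : ∃ i, ⁅zl (S : Subgroup G) P, zl (S' : Subgroup G) P'⁆ = line M i)
    (hH2 : CC M → Fr (S : Subgroup G) (fac M) → H2 (fac M)) : False := by
  obtain ⟨i, hi⟩ := hR
  obtain ⟨v, hv, hv1⟩ := exists_line M i
  obtain ⟨-, -, hcF, -⟩ := exists_partner hc h hT hT' M M' hk' hi
  have hC : CC M := ThmC.TwoOf.cc hStmt hc h.star M hF
  have hC' : CC M' := ThmC.TwoOf.cc hStmt hc h.star' M' (hcF.trans hF)
  have hfr : Fr (S : Subgroup G) (fac M) := fr_of hc h.star hC hF zc_le_zl (line_le M i hv) hv1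
    (exists_move hc h hT hT' hk' hC' hF hi hv hv1)
  have hH := hH2 hC hfr
  rcases Nat.lt_or_ge k' 2 with hk2 | hk2
  · have hk1 : k' = 1 := by omega
    exact killOne M hc h.star hF hfr hk hH (line_le M i hv) hv1
      (sylow_cent hc h hT hT' hk1 M' hF hi hv)
  · obtain ⟨A, B, hAB⟩ := exists_part hc h hT hT' hk2 hC' hF hi hv hv1
    exact killTwo M hc hfr hk hH (line_le M i hv) hv1 hAB

end

/-- **`WrBigTwo K`** from THEOREM C, CASE B and THEOREM A. -/
theorem wrBigTwo_of {K : Cls.{u}} (hStmt : ∀ (G : Type u) [Group G] [Finite G], ThmC.Stmt G)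
    (hB : CaseB.{u}) : WrBigTwo K := by
  intro G _ _ S S' hH P P' hp F F' _ _ _ _ _ _ k k' M M' hk hk' hF _ hcard
  have hc := hH.ctx.char2
  have hT := (hH.typed' hp).1.noOver
  have hT' := (hH.typed' hp).2.noOver
  obtain ⟨I, hI⟩ := exists_ind M hp.le (hp.off hc hT')
  obtain ⟨i, -, hi⟩ := hI.eq_line (hp.le.trans hp.star.le) (hcard.trans hF.symm)
  exact (two_false hc (hStmt G) hp hT hT' M M' hk hk' hF ⟨i, hi⟩ fun hC hfr =>
    hB G S P F k M hc hp.star hC hF hfr hk).elim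

/-- **CASE B in CASE 2**: (H2) for `k ≥ 3` natural factors over the field of order 2, `stab M i` not Sylow in
`C_G(v)`, `line M i = {1, v}`. -/
def CaseBN : Prop :=
  ∀ (G : Type u) [Group G] [Finite G] (S : Sylow 2 G) (P : Subgroup G) (F : Type) [Field F] [Finite F]
    [CharP F 2] (k : ℕ) (M : NatK F (S : Subgroup G) P (zl (S : Subgroup G) P) ⊥ k),
    IsCharacteristicTwoType G → IsParS (S : Subgroup G) P → CC M → Nat.card F = 2 →
      Fr (S : Subgroup G) (fac M) → 2 < k →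
      ∀ i, 2 ∣ (stab M i).relIndex (normalizer (line M i : Set G)) → H2 (fac M)

/-- **CASE 1** of `WrBigTwo K`. -/
def WrBigTwoSyl (K : Cls.{u}) : Prop :=
  ∀ (G : Type u) [Group G] [Finite G] (S S' : Sylow 2 G), Hyp K S → ∀ (P P' : Subgroup G), Pair S S' P P' →
    ∀ (F F' : Type) [Field F] [Finite F] [CharP F 2] [Field F'] [Finite F'] [CharP F' 2] (k k' : ℕ)
      (M : NatK F (S : Subgroup G) P (zl (S : Subgroup G) P) ⊥ k)
      (_ : NatK F' (S' : Subgroup G) P' (zl (S' : Subgroup G) P') ⊥ k'), 2 < k → 1 ≤ k' →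
      Nat.card F = 2 → Nat.card F' = 2 →
      ∀ i, ⁅zl (S : Subgroup G) P, zl (S' : Subgroup G) P'⁆ = line M i →
        ¬ 2 ∣ (stab M i).relIndex (normalizer (line M i : Set G)) → IsKnownSimple' G

/-- **`WrBigTwo K`** from THEOREM C, CASE 1 and CASE B in CASE 2. -/
theorem wrBigTwo_of_cases {K : Cls.{u}} (hStmt : ∀ (G : Type u) [Group G] [Finite G], ThmC.Stmt G)
    (h1 : WrBigTwoSyl K) (hB : CaseBN.{u}) : WrBigTwo K := by
  intro G _ _ S S' hH P P' hp F F' _ _ _ _ _ _ k k' M M' hk hk' hF hF' hcard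
  have hc := hH.ctx.char2
  have hT := (hH.typed' hp).1.noOver
  have hT' := (hH.typed' hp).2.noOver
  obtain ⟨I, hI⟩ := exists_ind M hp.le (hp.off hc hT')
  obtain ⟨i, -, hi⟩ := hI.eq_line (hp.le.trans hp.star.le) (hcard.trans hF.symm)
  by_cases hd : 2 ∣ (stab M i).relIndex (normalizer (line M i : Set G))
  · refine (two_false hc (hStmt G) hp hT hT' M M' hk hk' hF ⟨i, hi⟩ fun hC hfr => ?_).elim
    exact hB G S P F k M hc hp.star hC hF hfr hk i hd
  · exact h1 G S S' hH P P' hp F F' k k' M M' hk hk' hF hF' i hi hd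

end Cfsg.Agent.Omega.IId.Big

end

section


/-!
# WrBig, `q = 2`, CASE 2 is impossible (bb OMEGA 18977, helper245), III: the plug

`M : NatK F S P (zl S P) ⊥ k`, `|F| = 2`, `k ≥ 2`, `CC M` (THEOREM C), the frame `Fr S (fac M)`.

* `exists_sc` : the frame `Sc S O₂(P) (fac M) v`, `v i ∈ line M i`;
* `stab_sylow` : **CASE 2 is impossible** : `stab M i` contains a Sylow 2-subgroup of `N_G(line M i)`;
* `caseBN` : `CaseBN` of `Plug.lean`;
* `wrBigTwo_of_syl` : `WrBigTwo K` from THEOREM C and CASE 1.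
-/

set_option autoImplicit false
set_option linter.unusedSectionVars false

namespace Cfsg.Agent.Omega.IId.Big.Syl

open Subgroup Pointwise Cfsg Cfsg.Agent.ZN Cfsg.Agent.ZN.ChoiceBase
open Cfsg.Agent.MinSimple.VModule hiding le_normalizer_zl le_o2 le_normalizer_o2 mem_zc
open Cfsg.Agent.Omega.MinPar Cfsg.Agent.Omega.Frame Cfsg.Agent.Omega.FFThm Cfsg.Agent.Omega.FrameMulti
open Triangle (KK KK_conj KK_le_o2 mem_cent mem_KK mem_zpowers_iff_of_sq cent_conj o2_cent_conj)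
open Supply

universe u

/-- A maximal 2-subgroup is a Sylow 2-subgroup. -/
theorem not_dvd_of_max {G : Type*} [Group G] [Finite G] {T K : Subgroup G} (hT : IsPGroup 2 T) (hTK : T ≤ K)
    (hmax : ∀ R : Subgroup G, IsPGroup 2 R → R ≤ K → T ≤ R → R ≤ T) : ¬ 2 ∣ T.relIndex K := by
  have hp : Fact (Nat.Prime 2) := ⟨Nat.prime_two⟩
  obtain ⟨R, hR⟩ := (hT.comap_subtype (K := K)).exists_le_sylow
  have h1 : (R : Subgroup K) = T.subgroupOf K := by
    refine le_antisymm (fun r hr => ?_) hR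
    have h2 := hmax ((R : Subgroup K).map K.subtype) (R.isPGroup'.map _) (map_subtype_le _)
      (fun u hu => ⟨⟨u, hTK hu⟩, hR (mem_subgroupOf.2 hu), rfl⟩)
    exact mem_subgroupOf.2 (h2 ⟨r, hr, rfl⟩)
  rw [relIndex, ← h1]
  exact R.not_dvd_index

section

variable {G : Type u} [Group G] [Finite G] {F : Type} [Field F] [Finite F] [CharP F 2] {S : Sylow 2 G}
  {P : Subgroup G} {k : ℕ} {M : NatK F (S : Subgroup G) P (zl (S : Subgroup G) P) ⊥ k}

/-- a 2-subgroup of `C_G(V)` normal in `C_G(V)` lies in `O₂(P)` -/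
theorem le_o2_of_cent (hc : IsCharacteristicTwoType G) (hP : IsParS (S : Subgroup G) P) {N : Subgroup G}
    (hN : IsPGroup 2 N) (hNC : N ≤ centralizer (zl (S : Subgroup G) P : Set G))
    (hn : centralizer (zl (S : Subgroup G) P : Set G) ≤ normalizer (N : Set G)) : N ≤ ZN.o2 P := by
  have hp : Fact (Nat.Prime 2) := ⟨Nat.prime_two⟩
  have hSP : (S : Subgroup G) ≤ P := hP.isLoc.le
  set C : Subgroup G := centralizer (zl (S : Subgroup G) P : Set G) with hC
  have h1 : N ≤ ZN.o2 C := le_o2 hNC hN hn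
  have hPC : P ≤ normalizer (C : Set G) := by
    apply norm_of
    intro p hp c hc
    refine mem_centralizer_iff.2 fun x hx => ?_
    have hx' : p⁻¹ * x * p ∈ zl (S : Subgroup G) P := by
      have := conj_mem (MinSimple.VModule.le_normalizer_zl (S : Subgroup G) P) (inv_mem hp) hx
      rwa [inv_inv] at this
    have h2 := mem_centralizer_iff.1 hc _ hx'
    calc x * (p * c * p⁻¹) = p * ((p⁻¹ * x * p) * c) * p⁻¹ := by group
      _ = p * c * p⁻¹ * x := by rw [h2]; group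
  have hPo : P ≤ normalizer (ZN.o2 C : Set G) := norm_o2 hPC
  have h2 : ZN.o2 C ≤ (S : Subgroup G) := by
    have h3 : IsPGroup 2 ((S : Subgroup G) ⊔ ZN.o2 C : Subgroup G) :=
      IsPGroup.to_sup_of_normal_right' S.isPGroup' (o2_isPGroup C) (hSP.trans hPo)
    rw [← S.is_maximal' h3 le_sup_left]
    exact le_sup_right
  exact h1.trans (le_o2 (h2.trans hSP) (o2_isPGroup C) hPo)

/-- **The frame.** -/
theorem exists_sc (hc : IsCharacteristicTwoType G) (hP : IsParS (S : Subgroup G) P) (hC : CC M)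
    (hF : Nat.card F = 2) (hfr : Fr (S : Subgroup G) (fac M)) :
    ∃ v : Fin k → G, (∀ i, v i ∈ line M i) ∧ Sc (S : Subgroup G) (ZN.o2 P) (fac M) v := by
  have hSP : (S : Subgroup G) ≤ P := hP.isLoc.le
  choose v hv hv1 using exists_line M
  have hSyl := MinSimple.Basic.not_dvd_relIndex S hP.le
  have hcP := IsLoc.char2 S hc hP.isLoc
  have hVA : zl (S : Subgroup G) P ≤ zc (ZN.o2 P) := zl_le_zc hP.le S.isPGroup' hSyl hcP
  have hline : ∀ s (hs : s ∈ (S : Subgroup G)) i, s * v i * s⁻¹ = v (sg M (hSP hs) i) := by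
    intro s hs i
    have h1 : s * v i * s⁻¹ ∈ line M (sg M (hSP hs) i) := by
      rw [← conj_line M hSP hs]
      exact ⟨v i, hv i, rfl⟩
    rcases mem_line_two M hF (hv _) (hv1 _) h1 with h2 | h2
    · exfalso
      apply hv1 i
      calc v i = s⁻¹ * (s * v i * s⁻¹) * s := by group
        _ = 1 := by rw [h2]; group
    · exact h2
  have hKS : ∀ i, KK (v i) ≤ (S : Subgroup G) := fun i =>
    (KK_le_o2 (fac_sq (line_le M i (hv i))) (cz_char2 hc (fac_sq (line_le M i (hv i))) (hv1 i))).trans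
      ((o2_le_stab hP hC hF (hv i) (hv1 i)).1.trans (stab_le M i))
  have hPo : P ≤ normalizer (ZN.o2 P : Set G) := le_normalizer_o2 P
  refine ⟨v, hv, ?_⟩
  refine
    { fr := hfr
      vV := fun i => line_le M i (hv i)
      v1 := hv1
      perm := ?_
      tr := ?_
      VK := fun i j p hp hp1 => (fac_le M j).trans (zl_le_KK hP hC hF hp hp1)
      KS := hKS
      QS := hP.isLoc.o2_le S
      QV := fun i x hx q hq => (MinSimple.VModule.mem_zc.1 (hVA hx.1)).2.1 q hq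
      QQ := ThmC.TwoOf.centralizer_o2_le hc S hP
      NQ := ?_
      KQ := ?_
      SQ := hSP.trans hPo }
  · intro s hs i
    refine ⟨sg M (hSP hs) i, fun x hx => ?_, hline s hs i⟩
    rw [← conj_fac M (hSP hs)]
    exact ⟨x, hx, rfl⟩
  · intro i j
    obtain ⟨s, hs, h1⟩ := exists_trans M hSP i j
    refine ⟨s, hs, ?_⟩
    rw [conj_fac M (hSP hs)] at h1
    rw [hline s hs i, fac_inj M h1]
  · intro N hN h1 h2
    refine le_o2_of_cent hc hP hN (fun n hn => mem_centralizer_iff.2 fun x hx => ?_) (norm_of fun c hcc n hn => ?_)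
    · have h3 : zl (S : Subgroup G) P ≤ centralizer ({n} : Set G) :=
        (fac_le_iSup M).trans (iSup_le fun i y hy => mem_cent.2 (h1 i y hy n hn).symm)
      exact mem_cent.1 (h3 hx)
    · exact h2 c (fun i x hx => (mem_centralizer_iff.1 hcc x hx.1).symm) n hn
  · intro i p hp hp1
    obtain ⟨g, hg, h1, -⟩ := exists_P_conj hSP (line_le M i (hv i)) (hv1 i) hp hp1
    refine le_trans (fun w hw => ?_) hPo
    have h2 := KK_conj (h := g⁻¹) hw
    rw [← h1] at h2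
    have e : g⁻¹ * (g * v i * g⁻¹) * g⁻¹⁻¹ = v i := by group
    rw [e] at h2
    have h3 := mul_mem (mul_mem hg (hSP (hKS i h2))) (inv_mem hg)
    have e2 : g * (g⁻¹ * w * g⁻¹⁻¹) * g⁻¹ = w := by group
    rwa [e2] at h3

/-- **CASE 2 is impossible**: `stab M i` is a Sylow 2-subgroup of `N_G(line M i)`. -/
theorem stab_sylow (hc : IsCharacteristicTwoType G) (hP : IsParS (S : Subgroup G) P) (hC : CC M)
    (hF : Nat.card F = 2) (hfr : Fr (S : Subgroup G) (fac M)) (hk : 2 ≤ k) (i : Fin k) :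
    ¬ 2 ∣ (stab M i).relIndex (normalizer (line M i : Set G)) := by
  have hSP : (S : Subgroup G) ≤ P := hP.isLoc.le
  obtain ⟨v, hv, h⟩ := exists_sc hc hP hC hF hfr
  have hnt : Nontrivial (Fin k) := Fin.nontrivial_iff_two_le.2 hk
  have h1 : stab M i = (S : Subgroup G) ⊓ cz (v i) := by
    apply le_antisymm
    · exact fun s hs => mem_inf.2 ⟨stab_le M i hs, mem_cent.2 (stab_comm_line M hSP hF (hv i) hs)⟩
    · intro s hs
      have hsi : s * v i = v i * s := mem_cent.1 hs.2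
      refine mem_inf.2 ⟨hs.1, mem_normalizer_iff.2 fun x => ⟨fun hx => h.fix_line hs.1 hsi hx, fun hx => ?_⟩⟩
      have h2 := h.fix_line (inv_mem hs.1) ((show Commute s (v i) from hsi).inv_left).eq hx
      have e : s⁻¹ * (s * x * s⁻¹) * s⁻¹⁻¹ = x := by group
      rwa [e] at h2
  rw [normalizer_line_eq M hF (hv i) (h.v1 i), h1]
  exact not_dvd_of_max (S.isPGroup'.to_le inf_le_left) inf_le_right fun R hR hRc hTR => h.sylow i hR hRc hTR

end

/-- **`CaseBN`**: CASE 2 is impossible. -/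
theorem caseBN : CaseBN.{u} := by
  intro G _ _ S P F _ _ _ k M hc hP hC hF hfr hk i hd
  exact absurd hd (stab_sylow hc hP hC hF hfr (by omega) i)

/-- **`WrBigTwo K`** from THEOREM C and CASE 1. -/
theorem wrBigTwo_of_syl {K : Cls.{u}} (hStmt : ∀ (G : Type u) [Group G] [Finite G], ThmC.Stmt G)
    (h1 : WrBigTwoSyl K) : WrBigTwo K := wrBigTwo_of_cases hStmt h1 caseBN

end Cfsg.Agent.Omega.IId.Big.Syl

end

section


/-!
# WrBig, `q = 2`: the cut of CASE 1 (helper110 #18842)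

* `UnmTwo K` : CASE 1 (`stab M i` Sylow in `N_G(line M i)`), `⟨V_i^{N(line M i)}⟩` nonabelian: contradiction (one member,
  no partner);
* `MixTwo K` : a pair of two members with the same number of factors, both in CASE 1 on the same line,
  `[V_i, V'_j] ≠ 1`, both `⟨V_i^{N(line)}⟩`, `⟨V'_j^{N(line)}⟩` abelian: contradiction;
* `wrBigTwoSyl_of`, `wrBigTwo_of_all`.
-/

set_option autoImplicit false
set_option linter.unusedSectionVars false

namespace Cfsg.Agent.Omega.IId.Big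

open Subgroup Pointwise Cfsg Cfsg.Agent.ZN Cfsg.Agent.ZN.ChoiceBase
open Cfsg.Agent.Omega.MinPar Cfsg.Agent.Omega.Frame Cfsg.Agent.Omega.FFThm Cfsg.Agent.Omega.FrameMulti
open Triangle (KK mem_cent)
open Supply

universe u

/-- **CASE 1, unmixed**: `⟨V_i^{N(line M i)}⟩` is nonabelian. (helper110, 730, 813, 924) -/
def UnmTwo (K : Cls.{u}) : Prop :=
  ∀ (G : Type u) [Group G] [Finite G] (S : Sylow 2 G), Hyp K S → ∀ (P : Subgroup G) (F : Type) [Field F]
    [Finite F] [CharP F 2] (k : ℕ) (M : NatK F (S : Subgroup G) P (zl (S : Subgroup G) P) ⊥ k),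
    IsParS (S : Subgroup G) P → CC M → Nat.card F = 2 → Fr (S : Subgroup G) (fac M) → 2 < k →
      ∀ i, ¬ 2 ∣ (stab M i).relIndex (normalizer (line M i : Set G)) →
        (∃ c ∈ normalizer (line M i : Set G), ∃ a ∈ fac M i, ∃ b ∈ fac M i,
          a * (c * b * c⁻¹) ≠ c * b * c⁻¹ * a) → False

/-- **CASE 1, mixed**: both members are in CASE 1 on the same line, both closures are abelian. (helper349) -/
def MixTwo (K : Cls.{u}) : Prop :=
  ∀ (G : Type u) [Group G] [Finite G] (S S' : Sylow 2 G), Hyp K S → ∀ (P P' : Subgroup G), Pair S S' P P' →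
    ∀ (F F' : Type) [Field F] [Finite F] [CharP F 2] [Field F'] [Finite F'] [CharP F' 2] (k : ℕ)
      (M : NatK F (S : Subgroup G) P (zl (S : Subgroup G) P) ⊥ k)
      (M' : NatK F' (S' : Subgroup G) P' (zl (S' : Subgroup G) P') ⊥ k), CC M → CC M' → Nat.card F = 2 →
      Nat.card F' = 2 → Fr (S : Subgroup G) (fac M) → Fr (S' : Subgroup G) (fac M') → 2 < k →
      ∀ i j, line M i = line M' j → ⁅zl (S : Subgroup G) P, zl (S' : Subgroup G) P'⁆ = line M i →
        ¬ 2 ∣ (stab M i).relIndex (normalizer (line M i : Set G)) →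
        ¬ 2 ∣ (stab M' j).relIndex (normalizer (line M' j : Set G)) →
        (∃ a ∈ fac M i, ∃ b ∈ fac M' j, a * b ≠ b * a) →
        (∀ c ∈ normalizer (line M i : Set G), ∀ a ∈ fac M i, ∀ b ∈ fac M i,
          a * (c * b * c⁻¹) = c * b * c⁻¹ * a) →
        (∀ c ∈ normalizer (line M' j : Set G), ∀ a ∈ fac M' j, ∀ b ∈ fac M' j,
          a * (c * b * c⁻¹) = c * b * c⁻¹ * a) → False

section

variable {G : Type u} [Group G] [Finite G]

/-- two 2-subgroups of `N`, `T` Sylow in `N`, `|T'| ≤ |T|`; if `|T'| < |T|` then `T'` is not Sylow in `N`. -/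
theorem card_le_of_syl {T T' N : Subgroup G} (hTN : T ≤ N) (hT2 : IsPGroup 2 T) (hT'N : T' ≤ N)
    (hT'2 : IsPGroup 2 T') (h : ¬ 2 ∣ T.relIndex N) :
    Nat.card T' ≤ Nat.card T ∧ (Nat.card T' < Nat.card T → 2 ∣ T'.relIndex N) := by
  have : Fact (Nat.Prime 2) := ⟨Nat.prime_two⟩
  obtain ⟨a, ha⟩ := IsPGroup.iff_card.1 hT2
  obtain ⟨b, hb⟩ := IsPGroup.iff_card.1 hT'2
  have h1 := Lib.SylowNormalInf.card_mul_relIndex T N hTN
  have h2 := Lib.SylowNormalInf.card_mul_relIndex T' N hT'N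
  have h3 : 2 ^ b * T'.relIndex N = 2 ^ a * T.relIndex N := by rw [← hb, ← ha, h1, h2]
  have hco : Nat.Coprime (2 ^ b) (T.relIndex N) :=
    Nat.Coprime.pow_left b ((Nat.Prime.coprime_iff_not_dvd Nat.prime_two).2 h)
  have h4 : 2 ^ b ∣ 2 ^ a := hco.dvd_of_dvd_mul_right (h3 ▸ Dvd.intro _ rfl)
  have hba : b ≤ a := (Nat.pow_dvd_pow_iff_le_right (by norm_num)).1 h4
  refine ⟨by rw [ha, hb]; exact Nat.pow_le_pow_right (by norm_num) hba, fun hlt => ?_⟩
  have hlt' : b < a := by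
    rw [ha, hb] at hlt
    exact (Nat.pow_lt_pow_iff_right (by norm_num)).1 hlt
  obtain ⟨c, rfl⟩ : ∃ c, a = b + (c + 1) := ⟨a - b - 1, by omega⟩
  have h5 : 2 ^ b * T'.relIndex N = 2 ^ b * (2 ^ (c + 1) * T.relIndex N) := by
    rw [h3, pow_add]
    ring
  have h6 := Nat.eq_of_mul_eq_mul_left (by positivity) h5
  rw [h6]
  exact Dvd.dvd.mul_right (dvd_pow_self 2 (by omega)) _

end

/-- **CASE 1** from `UnmTwo`, `MixTwo` and CASE B in CASE 2. -/
theorem wrBigTwoSyl_of {K : Cls.{u}} (hStmt : ∀ (G : Type u) [Group G] [Finite G], ThmC.Stmt G)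
    (hB : CaseBN.{u}) (hU : UnmTwo K) (hM : MixTwo K) : WrBigTwoSyl K := by
  intro G _ _ S S' hH P P' hp F F' _ _ _ _ _ _ k k' M M' hk hk' hF hF' i hi hd
  exfalso
  have hc := hH.ctx.char2
  have hT := (hH.typed' hp).1.noOver
  have hT' := (hH.typed' hp).2.noOver
  obtain ⟨j, hl, -, a, ha, b, hb, hne⟩ := exists_partner hc hp hT hT' M M' hk' hi
  obtain ⟨v, hv, hv1⟩ := exists_line M i
  have hv' : v ∈ line M' j := hl ▸ hv
  have hC : CC M := ThmC.TwoOf.cc (hStmt G) hc hp.star M hF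
  have hC' : CC M' := ThmC.TwoOf.cc (hStmt G) hc hp.star' M' hF'
  have hi' : ⁅zl (S' : Subgroup G) P', zl (S : Subgroup G) P⁆ = line M' j := by
    rw [commutator_comm, hi, hl]
  have hSP := hp.star.isLoc.le
  have hSP' := hp.star'.isLoc.le
  -- the number of factors
  have hTN : stab M i ≤ normalizer (line M i : Set G) := fun x hx => stab_normalizes_line M hSP i hx
  have hTN' : stab M' j ≤ normalizer (line M i : Set G) := by
    rw [hl]
    exact fun x hx => stab_normalizes_line M' hSP' j hx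
  have hT2 : IsPGroup 2 (stab M i) := S.isPGroup'.to_le (stab_le M i)
  have hT2' : IsPGroup 2 (stab M' j) := S'.isPGroup'.to_le (stab_le M' j)
  obtain ⟨hle, hlt⟩ := card_le_of_syl hTN hT2 hTN' hT2' hd
  have hSS : Nat.card (S' : Subgroup G) = Nat.card (S : Subgroup G) := by
    rw [S.card_eq_multiplicity, S'.card_eq_multiplicity]
  have e1 := card_stab M hSP i
  have e2 := card_stab M' hSP' j
  have hpos : 0 < Nat.card (stab M i) := Nat.card_pos
  have hpos' : 0 < Nat.card (stab M' j) := Nat.card_pos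
  have hkk : k ≤ k' := by
    by_contra hcon
    push Not at hcon
    have h1 : k' * Nat.card (stab M' j) < k * Nat.card (stab M i) :=
      lt_of_lt_of_le (Nat.mul_lt_mul_of_pos_right hcon hpos') (Nat.mul_le_mul_left k hle)
    omega
  rcases Nat.lt_or_ge k k' with hlt' | hge
  · -- `M'` is in CASE 2
    have hcard : Nat.card (stab M' j) < Nat.card (stab M i) := by
      by_contra hcon
      push Not at hcon
      have h1 : k * Nat.card (stab M i) < k' * Nat.card (stab M' j) :=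
        lt_of_lt_of_le (Nat.mul_lt_mul_of_pos_right hlt' hpos) (Nat.mul_le_mul_left k' hcon)
      omega
    have hd' : 2 ∣ (stab M' j).relIndex (normalizer (line M' j : Set G)) := by
      rw [← hl]
      exact hlt hcard
    exact two_false hc (hStmt G) hp.symm hT' hT M' M (by omega) (by omega) hF' ⟨j, hi'⟩ fun hC' hfr' =>
      hB G S' P' F' k' M' hc hp.star' hC' hF' hfr' (by omega) j hd'
  · obtain rfl : k' = k := le_antisymm hge hkk
    have hcard : Nat.card (stab M' j) = Nat.card (stab M i) := by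
      refine Nat.eq_of_mul_eq_mul_left (by omega : 0 < k') ?_
      rw [← e1, ← e2, hSS]
    have hd' : ¬ 2 ∣ (stab M' j).relIndex (normalizer (line M' j : Set G)) := by
      rw [← hl]
      have h1 := Lib.SylowNormalInf.card_mul_relIndex _ _ hTN
      have h2 := Lib.SylowNormalInf.card_mul_relIndex _ _ hTN'
      have h3 : (stab M' j).relIndex (normalizer (line M i : Set G)) =
          (stab M i).relIndex (normalizer (line M i : Set G)) := by
        refine Nat.eq_of_mul_eq_mul_left hpos ?_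
        rw [h1, ← h2, hcard]
      rwa [h3]
    have hfr : Fr (S : Subgroup G) (fac M) := fr_of hc hp.star hC hF zc_le_zl (line_le M i hv) hv1
      (exists_move hc hp hT hT' hk' hC' hF hi hv hv1)
    have hfr' : Fr (S' : Subgroup G) (fac M') := fr_of hc hp.star' hC' hF' zc_le_zl (line_le M' j hv') hv1
      (exists_move hc hp.symm hT' hT (by omega) hC hF' hi' hv' hv1)
    by_cases hab : ∃ c ∈ normalizer (line M i : Set G), ∃ a ∈ fac M i, ∃ b ∈ fac M i,
        a * (c * b * c⁻¹) ≠ c * b * c⁻¹ * a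
    · exact hU G S hH P F _ M hp.star hC hF hfr hk i hd hab
    by_cases hab' : ∃ c ∈ normalizer (line M' j : Set G), ∃ a ∈ fac M' j, ∃ b ∈ fac M' j,
        a * (c * b * c⁻¹) ≠ c * b * c⁻¹ * a
    · exact hU G S' (hH.conj S') P' F' _ M' hp.star' hC' hF' hfr' hk j hd' hab'
    push Not at hab hab'
    exact hM G S S' hH P P' hp F F' _ M M' hC hC' hF hF' hfr hfr' hk i j hl hi hd hd'
      ⟨a, ha, b, hb, fun h0 => hne h0.symm⟩ hab hab'

/-- **`WrBigTwo K`** from THEOREM C, CASE B in CASE 2, `UnmTwo` and `MixTwo`. -/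
theorem wrBigTwo_of_all {K : Cls.{u}} (hStmt : ∀ (G : Type u) [Group G] [Finite G], ThmC.Stmt G)
    (hB : CaseBN.{u}) (hU : UnmTwo K) (hM : MixTwo K) : WrBigTwo K :=
  wrBigTwo_of_cases hStmt (wrBigTwoSyl_of hStmt hB hU hM) hB

end Cfsg.Agent.Omega.IId.Big

end
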