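import Cfsg.Agent.Mrg.Omega.ThmC.TwoE
import Cfsg.Agent.Omega.IId.Big.RedTool
import Cfsg.Agent.Mrg.Omega.ThmC.TwoOut
import Cfsg.Agent.Mrg.Omega.ThmC.TwoEnd

section


/-!
# (RED) (bb OMEGA 17245 (2)): THEOREM C, `q = 2`, for a functor

`Fn S Z z o L F` : `F ≤ L` normal subgroups of `C_G(z o)`, `L / F` a 2-group, `F` centralises `E = Ω₁Z(S⁰)`.
THEOREM C is the case `F = 1`, `L = O₂(C_G(z o))`.

`K = L ∩ S`, `FK = F K`, `FKQ = F K Q`, the module `Ω₁Z(FKQ)`, `Lp = N_L(FKQ)`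
(generalisation of helper732's `ThmC/TwoK`).
-/

set_option autoImplicit false
set_option linter.unusedSectionVars false

namespace Cfsg.Agent.Omega.IId.Big.Red

open scoped Pointwise
open Subgroup Cfsg Cfsg.Agent.MinSimple.VModule Cfsg.Agent.Omega.ThmC
open Cfsg.Agent.ZN (zc o2)
open Cfsg.Agent.Omega.IITwo.Count (conj_mem conj_mem' mem_norm)

universe u

variable {G : Type u} [Group G]

/-- The functor. -/
structure Fn (S : Subgroup G) {ι : Type} (Z : ι → Subgroup G) (z : ι → G) (o : ι) (L F : Subgroup G) : Prop where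
  LC : L ≤ centralizer ({z o} : Set G)
  nL : centralizer ({z o} : Set G) ≤ normalizer (L : Set G)
  nF : centralizer ({z o} : Set G) ≤ normalizer (F : Set G)
  FL : F ≤ L
  two : ∀ w ∈ L, ∃ n : ℕ, w ^ 2 ^ n ∈ F
  FE : F ≤ centralizer (zc (S0 S Z) : Set G)

/-- `F K`, `K = L ∩ S`. -/
def FK (S L F : Subgroup G) : Subgroup G := F ⊔ (L ⊓ S)

/-- `F K Q`. -/
def FKQ (S L F Q : Subgroup G) : Subgroup G := FK S L F ⊔ Q

/-- `N_L(FKQ)`. -/
def Lp (S L F Q : Subgroup G) : Subgroup G := L ⊓ normalizer (FKQ S L F Q : Set G)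

theorem pow_mul_mem {L : Subgroup G} {q w : G} (hq : q ∈ normalizer (L : Set G)) (hw : w ∈ L) (n : ℕ) :
    ∃ w' ∈ L, (q * w) ^ n = q ^ n * w' := by
  induction n with
  | zero => exact ⟨1, one_mem _, by simp⟩
  | succ n ih =>
    obtain ⟨w', hw', e⟩ := ih
    have h1 : q⁻¹ * w' * q ∈ L := by
      have := (mem_normalizer_iff.1 (inv_mem hq) w').1 hw'
      rwa [inv_inv] at this
    refine ⟨q⁻¹ * w' * q * w, mul_mem h1 hw, ?_⟩
    rw [pow_succ, e, pow_succ]
    group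

section
variable {S : Sylow 2 G} {Q : Subgroup G} {ι : Type} {Z : ι → Subgroup G} {x z : ι → G} {L F : Subgroup G}
variable [Finite G] [Finite ι] (D : Dat S Q Z x z) {o : ι} (h : Fn (S : Subgroup G) Z z o L F)

include D

theorem X_z_ne (l : ι) : D.X l • Md.mk (z l) (D.le l (D.zm l)) ≠ Md.mk (z l) (D.le l (D.zm l)) := by
  intro e
  set a : Md Q := Md.mk (z l) (D.le l (D.zm l)) with ha
  have h1 := D.X_three (l := l) (a := a) (D.zm l)
  rw [e, e, Md.two, zero_add] at h1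
  exact D.z1 l (by simpa [ha] using congrArg Md.val h1)

include h

/-- `w ∈ L ∩ S` commutes with `x l`, `l ≠ o`, on `Ω₁Z(Q)`. -/
theorem comm_x {w : G} (hw : w ∈ L) (hs : w ∈ (S : Subgroup G)) {l : ι} (hl : l ≠ o) :
    Md.cjE (D.SN hs) * D.X l = D.X l * Md.cjE (D.SN hs) := by
  set A : MulAut ↥(zc Q) := Md.cjE (D.SN hs) with hA
  have h1 : A * D.X l * A⁻¹ = D.X (D.sg w l) ∨ A * D.X l * A⁻¹ = (D.X (D.sg w l))⁻¹ := by
    have hval : ∀ a : Md Q, ((A * D.X l * A⁻¹) • a).val = (w * x l * w⁻¹) * a.val * (w * x l * w⁻¹)⁻¹ := by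
      intro a
      have h0 : A • A⁻¹ • a = a := smul_inv_smul _ _
      have h2 : (A⁻¹ • a).val = w⁻¹ * a.val * w := by
        have h3 : w * (A⁻¹ • a).val * w⁻¹ = a.val := congrArg Md.val h0
        rw [← h3]
        generalize (A⁻¹ • a).val = b
        group
      have h4 : ((A * D.X l * A⁻¹) • a).val = w * (x l * (A⁻¹ • a).val * (x l)⁻¹) * w⁻¹ := by
        rw [mul_smul, mul_smul]; rfl
      rw [h4, h2]
      group
    rcases (D.sg_spec hs l).2 with h | h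
    · left
      apply Md.ext_smul
      intro a
      exact Md.ext (by rw [hval, h _ a.val_mem, Dat.val_X])
    · right
      apply Md.ext_smul
      intro a
      apply Md.ext
      rw [hval, h _ a.val_mem]
      have h0 : D.X (D.sg w l) • (D.X (D.sg w l))⁻¹ • a = a := smul_inv_smul _ _
      have h3 : x (D.sg w l) * ((D.X (D.sg w l))⁻¹ • a).val * (x (D.sg w l))⁻¹ = a.val := congrArg Md.val h0
      rw [← h3]
      generalize ((D.X (D.sg w l))⁻¹ • a).val = b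
      group
  have hcube : ∀ m, (D.X m) ^ 3 = 1 := fun m => Md.faith (fun a => by
    rw [pow_succ, pow_two, mul_smul, mul_smul]; exact D.X_cube m a)
  have hC3 : ((D.X l)⁻¹ * (A * D.X l * A⁻¹)) ^ 3 = 1 := by
    rcases h1 with h | h
    · rw [h]
      have hc0 : Commute (D.X l) (D.X (D.sg w l)) := D.X_comm l _
      have hc : Commute (D.X l)⁻¹ (D.X (D.sg w l)) := hc0.inv_left
      rw [hc.mul_pow, inv_pow, hcube, hcube, inv_one, one_mul]
    · rw [h]
      have hc0 : Commute (D.X l) (D.X (D.sg w l)) := D.X_comm l _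
      have hc : Commute (D.X l)⁻¹ (D.X (D.sg w l))⁻¹ := hc0.inv_left.inv_right
      rw [hc.mul_pow, inv_pow, inv_pow, hcube, hcube, inv_one, one_mul]
  have hwl : (x l)⁻¹ * w * x l ∈ L := conj_mem' (h.nL (D.x_mem_C hl)) hw
  have hc : (x l)⁻¹ * w * x l * w⁻¹ ∈ L := mul_mem hwl (inv_mem hw)
  obtain ⟨n, hn⟩ := h.two _ hc
  have hcN : (x l)⁻¹ * w * x l * w⁻¹ ∈ normalizer (zc Q : Set G) :=
    mul_mem (mul_mem (mul_mem (inv_mem (D.xN l)) (D.SN hs)) (D.xN l)) (inv_mem (D.SN hs))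
  have hCe : (D.X l)⁻¹ * (A * D.X l * A⁻¹) = Md.cjE hcN := by
    have e1 : (⟨(x l)⁻¹ * w * x l * w⁻¹, hcN⟩ : normalizer (zc Q : Set G)) =
        (⟨x l, D.xN l⟩ : normalizer (zc Q : Set G))⁻¹ * (⟨w, D.SN hs⟩ * ⟨x l, D.xN l⟩ * ⟨w, D.SN hs⟩⁻¹) := by
      apply Subtype.ext
      simp [mul_assoc]
    have e2 := congrArg (zc Q).normalizerMonoidHom e1
    simp only [map_mul, map_inv] at e2
    exact e2.symm
  -- `C ^ 2 ^ n` fixes `z l`
  set a : Md Q := Md.mk (z l) (D.le l (D.zm l)) with ha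
  set C : MulAut ↥(zc Q) := (D.X l)⁻¹ * (A * D.X l * A⁻¹) with hC
  have hCn : (C ^ 2 ^ n) • a = a := by
    have e0 : C ^ 2 ^ n = Md.cjE (pow_mem hcN (2 ^ n)) := by
      rw [hCe]
      exact ((zc Q).normalizerMonoidHom.map_pow ⟨_, hcN⟩ _).symm
    rw [e0]
    refine Md.ext ?_
    rw [Md.val_cjE]
    have e1 := mem_centralizer_iff.1 (h.FE hn) _ (D.z_mem_E l)
    rw [mul_inv_eq_iff_eq_mul]
    exact e1.symm
  have hCa : C • a = a := by
    have e1 : C = (C ^ 2 ^ n) ^ 2 ^ n := by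
      rw [← pow_mul, ← Nat.mul_pow]
      have e2 : (2 * 2) ^ n = 3 * (((2 * 2) ^ n - 1) / 3) + 1 := by
        have e3 : 3 ∣ (2 * 2) ^ n - 1 := by
          have := Nat.sub_dvd_pow_sub_pow 4 1 n
          simpa using this
        have e4 : 0 < (2 * 2) ^ n := by positivity
        rw [Nat.mul_div_cancel' e3]
        omega
      rw [e2, pow_succ, pow_mul, hC3, one_pow, one_mul]
    have e3 : ∀ k : ℕ, ((C ^ 2 ^ n) ^ k) • a = a := by
      intro k
      induction k with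
      | zero => rw [pow_zero, one_smul]
      | succ k ih => rw [pow_succ, mul_smul, hCn, ih]
    rw [e1]
    exact e3 _
  have hXa : (A * D.X l * A⁻¹) • a = D.X l • a := by
    rw [hC, mul_smul, inv_smul_eq_iff] at hCa
    exact hCa
  have hne := X_z_ne D l
  rw [← ha] at hne
  have hAX : A * D.X l * A⁻¹ = D.X l := by
    rcases h1 with h1 | h1
    · rcases eq_or_ne (D.sg w l) l with h2 | h2
      · rw [h1, h2]
      · rw [h1, D.X_other (a := a) h2 (D.zm l)] at hXa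
        exact absurd hXa.symm hne
    · rw [h1] at hXa
      exfalso
      rcases eq_or_ne (D.sg w l) l with h2 | h2
      · rw [h2, inv_smul_eq_iff] at hXa
        -- `a = X X a`
        have h3 := D.X_cube l a
        rw [← hXa] at h3
        exact hne h3
      · have h3 : (D.X (D.sg w l))⁻¹ • a = a := by
          rw [inv_smul_eq_iff]
          exact (D.X_other (a := a) h2 (D.zm l)).symm
        rw [h3] at hXa
        exact hne hXa.symm
  rw [mul_inv_eq_iff_eq_mul] at hAX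
  exact hAX

theorem comm_x' {w : G} (hw : w ∈ L) (hs : w ∈ (S : Subgroup G)) {l : ι} (hl : l ≠ o) {v : G}
    (hv : v ∈ zc Q) : w * (x l * v * (x l)⁻¹) * w⁻¹ = x l * (w * v * w⁻¹) * (x l)⁻¹ := by
  have h := comm_x D h hw hs hl
  have h1 : (Md.cjE (D.SN hs) * D.X l) • Md.mk v hv = (D.X l * Md.cjE (D.SN hs)) • Md.mk v hv := by rw [h]
  rw [mul_smul, mul_smul] at h1
  exact congrArg Md.val h1

/-- `L ∩ S ≤ S⁰`. -/
theorem inf_le_S0 : L ⊓ (S : Subgroup G) ≤ S0 (S : Subgroup G) Z := by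
  intro w hw
  rw [mem_inf] at hw
  rw [D.mem_S0_iff hw.2]
  intro l
  rcases eq_or_ne l o with rfl | hl
  · exact D.sg_of_z hw.2 (mem_cs.mp (h.LC hw.1))
  · refine D.sg_eq' hw.2 fun v hv => ?_
    have h1 := comm_x' D h hw.1 hw.2 hl (D.le l hv)
    have h2 := comm_x' D h hw.1 hw.2 hl (conj_mem (D.xN l) (D.le l hv))
    have h3 : pr (x l) (w * v * w⁻¹) = w * pr (x l) v * w⁻¹ := by
      unfold pr
      rw [← h1, ← h2]; group
    rw [D.pr_self hv] at h3
    have h4 := D.pi_mem l (Md.mk (w * v * w⁻¹) (conj_mem (D.SN hw.2) (D.le l hv)))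
    rw [D.val_pi, Md.val_mk, h3] at h4
    exact h4

omit [Finite ι] h in
theorem not_dvd_S0 : ¬ 2 ∣ (S0 (S : Subgroup G) Z).relIndex (centralizer (zc (S0 (S : Subgroup G) Z) : Set G)) := by
  have h1 : centralizer (zc (S0 (S : Subgroup G) Z) : Set G) ≤
      normalizer (zc (S0 (S : Subgroup G) Z) : Set G) := centralizer_le_normalizer _
  have h2 : (S : Subgroup G) ≤ normalizer (centralizer (zc (S0 (S : Subgroup G) Z) : Set G) : Set G) := by
    intro g hg
    refine mem_norm fun c hc => ?_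
    rw [mem_centralizer_iff]
    intro v hv
    have h3 := mem_centralizer_iff.mp hc _ (conj_mem' (D.S_le_nor_E hg) hv)
    calc v * (g * c * g⁻¹) = g * ((g⁻¹ * v * g) * c) * g⁻¹ := by group
      _ = g * (c * (g⁻¹ * v * g)) * g⁻¹ := by rw [h3]
      _ = g * c * g⁻¹ * v := by group
  have h3 := odd_inf (P := (S : Subgroup G)) D.S_le_nor_E h1 h2
    (Cfsg.Agent.MinSimple.Basic.not_dvd_relIndex S D.S_le_nor_E)
  rwa [inf_comm, D.inf_cE] at h3

/-- `C_L(E) = F K`. -/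
theorem cent_E : L ⊓ centralizer (zc (S0 (S : Subgroup G) Z) : Set G) ≤ FK (S : Subgroup G) L F := by
  have h1 : S0 (S : Subgroup G) Z ≤
      normalizer ((L ⊓ centralizer (zc (S0 (S : Subgroup G) Z) : Set G) : Subgroup G) : Set G) := by
    intro s hs
    refine mem_norm fun w hw => ?_
    rw [mem_inf] at hw ⊢
    refine ⟨conj_mem (h.nL (D.S0_le_C hs)) hw.1, ?_⟩
    exact mul_mem (mul_mem (le_centralizer_zc _ hs) hw.2) (inv_mem (le_centralizer_zc _ hs))
  have h2 := le_sup_inf (P := S0 (S : Subgroup G) Z) (F := F) (le_centralizer_zc _) inf_le_right h1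
    (not_dvd_S0 D) (le_inf h.FL h.FE) (inf_le_left.trans (h.LC.trans h.nF)) (fun m hm => h.two m (mem_inf.1 hm).1)
  exact h2.trans (sup_le_sup_left (le_inf (inf_le_left.trans inf_le_left) (inf_le_right.trans Dat.S0_le)) F)

omit D [Finite G] [Finite ι] in
theorem FK_le : FK (S : Subgroup G) L F ≤ L := sup_le h.FL inf_le_left

omit h D [Finite G] [Finite ι] in
theorem F_le_FK : F ≤ FK (S : Subgroup G) L F := le_sup_left

omit h D [Finite G] [Finite ι] in
theorem K_le_FK : L ⊓ (S : Subgroup G) ≤ FK (S : Subgroup G) L F := le_sup_right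

omit h D [Finite G] [Finite ι] in
theorem FK_le_FKQ : FK (S : Subgroup G) L F ≤ FKQ (S : Subgroup G) L F Q := le_sup_left

omit h D [Finite G] [Finite ι] in
theorem Q_le_FKQ : Q ≤ FKQ (S : Subgroup G) L F Q := le_sup_right

omit h in
theorem ZK_le : zc (FKQ (S : Subgroup G) L F Q) ≤ zc Q := zc_le_of_le D.CQ Q_le_FKQ

omit h in
theorem mem_ZK {v : G} : v ∈ zc (FKQ (S : Subgroup G) L F Q) ↔
    v ∈ zc Q ∧ ∀ s ∈ FKQ (S : Subgroup G) L F Q, s * v = v * s :=
  mem_zc_iff_of_le D.CQ Q_le_FKQ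

theorem E_le_ZK : zc (S0 (S : Subgroup G) Z) ≤ zc (FKQ (S : Subgroup G) L F Q) := by
  intro v hv
  rw [mem_ZK D]
  refine ⟨D.E_le hv, ?_⟩
  have key : FKQ (S : Subgroup G) L F Q ≤ centralizer ({v} : Set G) := by
    refine sup_le (sup_le (fun f hf => ?_) fun k hk => ?_) fun q hq => ?_
    · exact mem_cs.2 (mem_centralizer_iff.1 (h.FE hf) v hv).symm
    · exact mem_cs.2 ((D.mem_E.1 hv).2 _ (inf_le_S0 D h hk))
    · exact mem_cs.2 ((D.mem_E.1 hv).2 _ (D.Q_le_S0 hq))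
  exact fun s hs => mem_cs.1 (key hs)

/-- `x l` normalises `F K`. -/
theorem x_nor_FK {l : ι} (hl : l ≠ o) : x l ∈ normalizer (FK (S : Subgroup G) L F : Set G) := by
  refine mem_norm fun k hk => ?_
  have key : FK (S : Subgroup G) L F ≤ (FK (S : Subgroup G) L F).comap (MulAut.conj (x l)).toMonoidHom := by
    refine sup_le (fun k hk => ?_) (fun w hw => ?_)
    · exact F_le_FK (conj_mem (h.nF (D.x_mem_C hl)) hk)
    · have hw' := mem_inf.1 hw
      have h1 : x l * w * (x l)⁻¹ ∈ L := conj_mem (h.nL (D.x_mem_C hl)) hw'.1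
      have h2 : x l * w * (x l)⁻¹ * w⁻¹ ∈ L ⊓ centralizer (zc (S0 (S : Subgroup G) Z) : Set G) := by
        refine mem_inf.mpr ⟨mul_mem h1 (inv_mem hw'.1), ?_⟩
        refine centralizer_le D.E_le ?_
        rw [mem_centralizer_iff]
        intro v hv
        have hv1 : (x l)⁻¹ * (w⁻¹ * v * w) * x l ∈ zc Q := conj_mem' (D.xN l) (conj_mem' (D.SN hw'.2) hv)
        have h3 := comm_x' D h hw'.1 hw'.2 hl hv1
        have h4 : x l * ((x l)⁻¹ * (w⁻¹ * v * w) * x l) * (x l)⁻¹ = w⁻¹ * v * w := by group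
        rw [h4] at h3
        have h5 : v = x l * (w * ((x l)⁻¹ * (w⁻¹ * v * w) * x l) * w⁻¹) * (x l)⁻¹ := by
          rw [← h3]; group
        have h6 : v = (x l * w * (x l)⁻¹ * w⁻¹) * v * (x l * w * (x l)⁻¹ * w⁻¹)⁻¹ := by
          calc v = x l * (w * ((x l)⁻¹ * (w⁻¹ * v * w) * x l) * w⁻¹) * (x l)⁻¹ := h5
            _ = _ := by group
        exact (mul_inv_eq_iff_eq_mul.mp h6.symm).symm
      have h3 := cent_E D h h2
      have h4 : x l * w * (x l)⁻¹ = (x l * w * (x l)⁻¹ * w⁻¹) * w := by group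
      change x l * w * (x l)⁻¹ ∈ FK (S : Subgroup G) L F
      rw [h4]
      exact mul_mem h3 (K_le_FK hw)
  exact key hk

theorem x_nor_FKQ {l : ι} (hl : l ≠ o) : x l ∈ normalizer (FKQ (S : Subgroup G) L F Q : Set G) := by
  refine mem_norm fun k hk => ?_
  have h1 := x_nor_FK D h hl
  have h2 := D.xQ l
  have key : FKQ (S : Subgroup G) L F Q ≤
      (FKQ (S : Subgroup G) L F Q).comap (MulAut.conj (x l)).toMonoidHom := by
    refine sup_le (fun k hk => ?_) (fun k hk => ?_)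
    · exact FK_le_FKQ (conj_mem h1 hk)
    · exact Q_le_FKQ (conj_mem h2 hk)
  exact key hk

theorem S0_nor_FK : S0 (S : Subgroup G) Z ≤ normalizer (FK (S : Subgroup G) L F : Set G) := by
  intro s hs
  refine mem_norm fun k hk => ?_
  have key : FK (S : Subgroup G) L F ≤ (FK (S : Subgroup G) L F).comap (MulAut.conj s).toMonoidHom := by
    refine sup_le (fun k hk => ?_) (fun k hk => ?_)
    · exact F_le_FK (conj_mem (h.nF (D.S0_le_C hs)) hk)
    · rw [mem_inf] at hk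
      exact K_le_FK (mem_inf.mpr ⟨conj_mem (h.nL (D.S0_le_C hs)) hk.1,
        mul_mem (mul_mem (Dat.S0_le hs) hk.2) (inv_mem (Dat.S0_le hs))⟩)
  exact key hk

theorem S0_nor_FKQ : S0 (S : Subgroup G) Z ≤ normalizer (FKQ (S : Subgroup G) L F Q : Set G) := by
  intro s hs
  refine mem_norm fun k hk => ?_
  have key : FKQ (S : Subgroup G) L F Q ≤ (FKQ (S : Subgroup G) L F Q).comap (MulAut.conj s).toMonoidHom := by
    refine sup_le (fun k hk => ?_) (fun k hk => ?_)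
    · exact FK_le_FKQ (conj_mem (S0_nor_FK D h hs) hk)
    · exact Q_le_FKQ (conj_mem (D.SQ (Dat.S0_le hs)) hk)
  exact key hk

theorem x_nor_ZK {l : ι} (hl : l ≠ o) : x l ∈ normalizer (zc (FKQ (S : Subgroup G) L F Q) : Set G) :=
  normalizer_le_normalizer_zc _ (x_nor_FKQ D h hl)

theorem S0_nor_ZK : S0 (S : Subgroup G) Z ≤ normalizer (zc (FKQ (S : Subgroup G) L F Q) : Set G) :=
  fun _ hs => normalizer_le_normalizer_zc _ (S0_nor_FKQ D h hs)

theorem pr_ZK (l : ι) : ∀ v ∈ zc (FKQ (S : Subgroup G) L F Q), pr (x l) v ∈ zc (FKQ (S : Subgroup G) L F Q) := by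
  classical
  have := Fintype.ofFinite ι
  have key : ∀ l, l ≠ o → ∀ v ∈ zc (FKQ (S : Subgroup G) L F Q), pr (x l) v ∈ zc (FKQ (S : Subgroup G) L F Q) :=
    fun l hl v hv => pr_mem (x_nor_ZK D h hl) hv
  rcases eq_or_ne l o with rfl | hl
  · intro v hv
    let A : AddSubgroup (Md Q) :=
      { carrier := {a | a.val ∈ zc (FKQ (S : Subgroup G) L F Q)}
        zero_mem' := by
          change (0 : Md Q).val ∈ zc (FKQ (S : Subgroup G) L F Q)
          rw [Md.val_zero]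
          exact one_mem _
        add_mem' := fun {a b} ha hb => by
          change (a + b).val ∈ zc (FKQ (S : Subgroup G) L F Q)
          rw [Md.val_add]
          exact mul_mem ha hb
        neg_mem' := fun {a} ha => by
          change (-a).val ∈ zc (FKQ (S : Subgroup G) L F Q)
          rw [Md.neg_eq]
          exact ha }
    set a : Md Q := Md.mk v (ZK_le D hv) with ha
    have h1 : D.pi l a = a - ∑ m ∈ Finset.univ.erase l, D.pi m a := by
      rw [eq_sub_iff_add_eq]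
      exact (Finset.add_sum_erase Finset.univ (fun m => D.pi m a) (Finset.mem_univ l)).trans (D.pi_sum a)
    have h2 : D.pi l a ∈ A := by
      rw [h1]
      refine sub_mem (show a ∈ A from hv) (sum_mem fun m hm => ?_)
      exact key m (Finset.ne_of_mem_erase hm) v hv
    exact h2
  · exact key l hl

omit D h [Finite G] [Finite ι] in
theorem Lp_le : Lp (S : Subgroup G) L F Q ≤ L := inf_le_left

omit D h [Finite G] [Finite ι] in
theorem Lp_nor_ZK : Lp (S : Subgroup G) L F Q ≤ normalizer (zc (FKQ (S : Subgroup G) L F Q) : Set G) :=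
  fun _ hs => normalizer_le_normalizer_zc _ hs.2

theorem x_conj_Lp {l : ι} (hl : l ≠ o) {w : G} (hw : w ∈ Lp (S : Subgroup G) L F Q) :
    x l * w * (x l)⁻¹ ∈ Lp (S : Subgroup G) L F Q :=
  mem_inf.mpr ⟨conj_mem (h.nL (D.x_mem_C hl)) (mem_inf.mp hw).1,
    mul_mem (mul_mem (x_nor_FKQ D h hl) (mem_inf.mp hw).2) (inv_mem (x_nor_FKQ D h hl))⟩

theorem S0_conj_Lp {s : G} (hs : s ∈ S0 (S : Subgroup G) Z) {w : G} (hw : w ∈ Lp (S : Subgroup G) L F Q) :
    s * w * s⁻¹ ∈ Lp (S : Subgroup G) L F Q :=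
  mem_inf.mpr ⟨conj_mem (h.nL (D.S0_le_C hs)) (mem_inf.mp hw).1,
    mul_mem (mul_mem (S0_nor_FKQ D h hs) (mem_inf.mp hw).2) (inv_mem (S0_nor_FKQ D h hs))⟩

/-- `N_L(FKQ) > FK` if `L` is not contained in `F S`. -/
theorem exists_Lp (hL : ¬ L ≤ FK (S : Subgroup G) L F) :
    ∃ w ∈ Lp (S : Subgroup G) L F Q, w ∉ FK (S : Subgroup G) L F := by
  have hQC : Q ≤ centralizer ({z o} : Set G) := D.Q_le_C
  have hQn : Q ≤ normalizer (L : Set G) := hQC.trans h.nL
  have hQF : Q ≤ normalizer (F : Set G) := hQC.trans h.nF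
  have hFR : F ≤ FKQ (S : Subgroup G) L F Q := F_le_FK.trans FK_le_FKQ
  have hRY : FKQ (S : Subgroup G) L F Q ≤ Q ⊔ L := sup_le ((FK_le h).trans le_sup_right) le_sup_left
  have hYC : Q ⊔ L ≤ centralizer ({z o} : Set G) := sup_le hQC h.LC
  have hcoe : ∀ {y : G}, y ∈ Q ⊔ L → ∃ q ∈ Q, ∃ w ∈ L, q * w = y := by
    intro y hy
    have h1 : y ∈ (Q : Set G) * (L : Set G) := by
      rw [← coe_mul_of_left_le_normalizer_right Q L hQn]
      exact hy
    exact Set.mem_mul.1 h1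
  have hne : ¬ Q ⊔ L ≤ FKQ (S : Subgroup G) L F Q := by
    intro hle
    refine hL fun w hw => ?_
    have h1 : w ∈ FKQ (S : Subgroup G) L F Q := hle (le_sup_right (α := Subgroup G) hw)
    have h2 : FKQ (S : Subgroup G) L F Q = F ⊔ ((L ⊓ (S : Subgroup G)) ⊔ Q) := by
      rw [FKQ, FK, sup_assoc]
    rw [h2] at h1
    have hKC : (L ⊓ (S : Subgroup G)) ⊔ Q ≤ normalizer (F : Set G) :=
      sup_le ((inf_le_left.trans h.LC).trans h.nF) hQF
    have h3 : w ∈ (((L ⊓ (S : Subgroup G)) ⊔ Q : Subgroup G) : Set G) * (F : Set G) := by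
      rw [← coe_mul_of_left_le_normalizer_right _ F hKC, sup_comm]
      exact h1
    obtain ⟨s, hs, f, hf, rfl⟩ := Set.mem_mul.1 h3
    have hsS : s ∈ (S : Subgroup G) := (sup_le inf_le_right D.QS : (L ⊓ (S : Subgroup G)) ⊔ Q ≤ S) hs
    have hsL : s ∈ L := by
      have := mul_mem hw (inv_mem (h.FL hf))
      rwa [mul_inv_cancel_right] at this
    exact mul_mem (K_le_FK (mem_inf.2 ⟨hsL, hsS⟩)) (F_le_FK hf)
  have hY2 : ∀ y ∈ Q ⊔ L, ∃ n : ℕ, y ^ 2 ^ n ∈ F := by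
    intro y hy
    obtain ⟨q, hq, w, hw, rfl⟩ := hcoe hy
    obtain ⟨a, ha⟩ := (S.2.to_le D.QS : IsPGroup 2 Q) ⟨q, hq⟩
    have ha' : q ^ 2 ^ a = 1 := congrArg Subtype.val ha
    obtain ⟨w', hw', e⟩ := pow_mul_mem (hQn hq) hw (2 ^ a)
    rw [ha', one_mul] at e
    obtain ⟨b, hb⟩ := h.two w' hw'
    refine ⟨a + b, ?_⟩
    rw [pow_add, pow_mul, e]
    exact hb
  obtain ⟨n, hn, hn1, hn2⟩ := Red.exists_normalizer hFR hRY hne (hYC.trans h.nF) hY2
  obtain ⟨q, hq, w, hw, rfl⟩ := hcoe hn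
  have hq1 : q ∈ FKQ (S : Subgroup G) L F Q := Q_le_FKQ hq
  have hw2 : w ∈ normalizer (FKQ (S : Subgroup G) L F Q : Set G) := by
    have := mul_mem (inv_mem (le_normalizer hq1)) hn2
    simpa using this
  refine ⟨w, mem_inf.2 ⟨hw, hw2⟩, fun hwK => hn1 ?_⟩
  exact mul_mem hq1 (FK_le_FKQ hwK)

/-- `C_{N_L(FKQ)}(ZK) ≤ FK`. -/
theorem Lp_faith {w : G} (hw : w ∈ L) (hc : w ∈ centralizer (zc (FKQ (S : Subgroup G) L F Q) : Set G)) :
    w ∈ FK (S : Subgroup G) L F :=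
  cent_E D h (mem_inf.2 ⟨hw, centralizer_le (E_le_ZK D h) hc⟩)

omit h D [Finite G] [Finite ι] in
theorem FK_le_C : FK (S : Subgroup G) L F ≤ centralizer (zc (FKQ (S : Subgroup G) L F Q) : Set G) :=
  FK_le_FKQ.trans (le_centralizer_zc _)

end

end Cfsg.Agent.Omega.IId.Big.Red

end

section


/-!
# (RED) (bb OMEGA 17245 (2)): THEOREM C, `q = 2`, for a functor: the weights (generalisation of helper732's `ThmC/TwoStep`)
-/

set_option autoImplicit false
set_option linter.unusedSectionVars false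

namespace Cfsg.Agent.Omega.IId.Big.Red

open scoped Pointwise
open Subgroup Cfsg Cfsg.Agent.MinSimple.VModule Cfsg.Agent.Omega.ThmC
open Cfsg.Agent.ZN (zc o2)
open Cfsg.Agent.Omega.IITwo.Count (conj_mem conj_mem' mem_norm)

universe u

variable {G : Type u} [Group G]

theorem img_isPGroup' {X Y F : Subgroup G} (hF : F ≤ centralizer (zc X : Set G))
    (h2 : ∀ y ∈ Y, ∃ n : ℕ, y ^ 2 ^ n ∈ F) : IsPGroup 2 (img X Y) := by
  rintro ⟨n, hn⟩
  obtain ⟨g, hg, hgY, rfl⟩ := mem_img.mp hn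
  obtain ⟨k, hk⟩ := h2 g hgY
  refine ⟨k, Subtype.ext ?_⟩
  change (phi hg) ^ 2 ^ k = 1
  rw [pow_phi, phi_eq_one_iff]
  exact hF hk

theorem exists_conj_in [Finite G] {M P Y : Subgroup G} (hP : IsPGroup 2 P) (hind : ¬ 2 ∣ P.relIndex M)
    (hY : IsPGroup 2 Y) (YM : Y ≤ M) : ∃ m ∈ M, ∀ y ∈ Y, m * y * m⁻¹ ∈ P := by
  have : Fact (Nat.Prime 2) := ⟨Nat.prime_two⟩
  have h1 : IsPGroup 2 (P.subgroupOf M) := hP.comap_of_injective M.subtype M.subtype_injective
  let P' : Sylow 2 M := h1.toSylow (by exact hind)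
  obtain ⟨m, hm⟩ := TwoN.exists_conj P' (hY.comap_of_injective M.subtype M.subtype_injective)
  refine ⟨m, m.2, fun y hy => ?_⟩
  have h2 := hm ⟨y, YM hy⟩ hy
  exact mem_subgroupOf.1 h2

section
variable {S : Sylow 2 G} {Q : Subgroup G} {ι : Type} {Z : ι → Subgroup G} {x z : ι → G} {L F : Subgroup G}
variable [Finite G] [Finite ι] (D : Dat S Q Z x z) {o : ι} (h : Fn (S : Subgroup G) Z z o L F)

open Classical in
/-- `x l` on `Ω₁Z(FKQ)`. -/
noncomputable def xh (l : ι) : ↥(NG (FKQ (S : Subgroup G) L F Q)) :=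
  if hl : l ≠ o then phi (x_nor_ZK D h hl) else 1

theorem xh_eq {l : ι} (hl : l ≠ o) : xh D h l = phi (x_nor_ZK D h hl) := dif_pos hl

/-- the projections on `Ω₁Z(FKQ)`. -/
abbrev pK (l : ι) : Md (FKQ (S : Subgroup G) L F Q) →+ Md (FKQ (S : Subgroup G) L F Q) :=
  D.pX (ZK_le D) (pr_ZK D h) l

theorem Ux {u : ↥(NG (FKQ (S : Subgroup G) L F Q))}
    (hu : u ∈ img (FKQ (S : Subgroup G) L F Q) (S0 (S : Subgroup G) Z)) {l : ι}
    (hl : l ≠ o) : u * xh D h l * u⁻¹ = xh D h l ∨ u * xh D h l * u⁻¹ = (xh D h l)⁻¹ := by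
  obtain ⟨s, hsN, hs, rfl⟩ := mem_img.mp hu
  rw [xh_eq D h hl, phi_mul, phi_inv, phi_mul, phi_inv, phi_eq_iff, phi_eq_iff]
  have h1 := (D.sg_spec (Dat.S0_le hs) l).2
  rw [(D.mem_S0_iff (Dat.S0_le hs)).mp hs l] at h1
  rcases h1 with h1 | h1
  · exact Or.inl fun v hv => h1 v (ZK_le D hv)
  · exact Or.inr fun v hv => by rw [inv_inv]; exact h1 v (ZK_le D hv)

/-- the elements of the image of `Lp` commuting with all `x l`, `l ≠ o`. -/
def CX : Subgroup ↥(NG (FKQ (S : Subgroup G) L F Q)) where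
  carrier := {g | g ∈ img (FKQ (S : Subgroup G) L F Q) (Lp (S : Subgroup G) L F Q) ∧
    ∀ l, l ≠ o → Commute g (xh D h l)}
  one_mem' := ⟨one_mem _, fun _ _ => Commute.one_left _⟩
  mul_mem' := fun ha hb => ⟨mul_mem ha.1 hb.1, fun l hl => (ha.2 l hl).mul_left (hb.2 l hl)⟩
  inv_mem' := fun ha => ⟨inv_mem ha.1, fun l hl => (ha.2 l hl).inv_left⟩

theorem mem_CX {g : ↥(NG (FKQ (S : Subgroup G) L F Q))} : g ∈ CX D h ↔
    g ∈ img (FKQ (S : Subgroup G) L F Q) (Lp (S : Subgroup G) L F Q) ∧ ∀ l, l ≠ o → Commute g (xh D h l) := Iff.rfl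

include D h

theorem H2 : IsPGroup 2 (img (FKQ (S : Subgroup G) L F Q) (Lp (S : Subgroup G) L F Q)) :=
  img_isPGroup' (F := F) (F_le_FK.trans FK_le_C) fun y hy => h.two y (Lp_le hy)

omit h in
theorem U2 : IsPGroup 2 (img (FKQ (S : Subgroup G) L F Q) (S0 (S : Subgroup G) Z)) :=
  img_isPGroup (S.2.to_le Dat.S0_le)

theorem UH {u : ↥(NG (FKQ (S : Subgroup G) L F Q))}
    (hu : u ∈ img (FKQ (S : Subgroup G) L F Q) (S0 (S : Subgroup G) Z)) {g : ↥(NG (FKQ (S : Subgroup G) L F Q))}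
    (hg : g ∈ img (FKQ (S : Subgroup G) L F Q) (Lp (S : Subgroup G) L F Q)) :
    u * g * u⁻¹ ∈ img (FKQ (S : Subgroup G) L F Q) (Lp (S : Subgroup G) L F Q) := by
  obtain ⟨w, hwN, hw, rfl⟩ := mem_img.mp hg
  obtain ⟨s, hsN, hs, rfl⟩ := mem_img.mp hu
  rw [phi_mul, phi_inv, phi_mul]
  exact phi_mem_img _ (S0_conj_Lp D h hs hw)

/-- a lift of an element of the image of `Lp` commuting with `S⁰` normalises `E`. -/
theorem nor_E_of {w : G} (hw : w ∈ Lp (S : Subgroup G) L F Q)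
    (hc : ∀ u : ↥(NG (FKQ (S : Subgroup G) L F Q)), u ∈ img (FKQ (S : Subgroup G) L F Q) (S0 (S : Subgroup G) Z) →
      u * phi (Lp_nor_ZK hw) * u⁻¹ = phi (Lp_nor_ZK hw)) :
    w ∈ normalizer (zc (S0 (S : Subgroup G) Z) : Set G) := by
  refine mem_norm fun v hv => ?_
  have hvK := E_le_ZK D h hv
  have h1 : w * v * w⁻¹ ∈ zc (FKQ (S : Subgroup G) L F Q) := conj_mem (Lp_nor_ZK hw) hvK
  rw [D.mem_E]
  refine ⟨ZK_le D h1, fun s hs => ?_⟩
  have hsN := S0_nor_ZK D h hs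
  have h2 := hc _ (phi_mem_img hsN hs)
  rw [mul_inv_eq_iff_eq_mul, phi_mul, phi_mul, phi_eq_iff] at h2
  have h3 := h2 v hvK
  have h4 : s * v * s⁻¹ = v := by rw [(D.mem_E.1 hv).2 s hs]; group
  have h5 : s * (w * v * w⁻¹) * s⁻¹ = w * v * w⁻¹ := by
    calc s * (w * v * w⁻¹) * s⁻¹ = s * w * v * (s * w)⁻¹ := by group
      _ = w * s * v * (w * s)⁻¹ := h3
      _ = w * (s * v * s⁻¹) * w⁻¹ := by group
      _ = _ := by rw [h4]
  exact mul_inv_eq_iff_eq_mul.mp h5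

theorem CX_bot : CX D h = ⊥ := by
  classical
  have := Fintype.ofFinite ι
  by_contra hne
  have hU : img (FKQ (S : Subgroup G) L F Q) (S0 (S : Subgroup G) Z) ≤
      normalizer (CX D h : Set ↥(NG (FKQ (S : Subgroup G) L F Q))) := by
    intro u hu
    refine mem_norm fun c hc => ?_
    refine ⟨UH D h hu hc.1, fun l hl => ?_⟩
    have h2 : Commute c (u⁻¹ * xh D h l * u⁻¹⁻¹) := by
      rcases Ux D h (inv_mem hu) hl with h1 | h1
      · rw [h1]; exact hc.2 l hl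
      · rw [h1]; exact (hc.2 l hl).inv_right
    have h3 := (Commute.conj_iff u).mpr h2
    have h4 : u * (u⁻¹ * xh D h l * u⁻¹⁻¹) * u⁻¹ = xh D h l := by group
    rw [h4] at h3
    exact h3
  obtain ⟨c, hc, hc1, hcU⟩ := Half.exists_fixed (V := CX D h) ((H2 D h).to_le fun g hg => hg.1) hne (U2 D) hU
  obtain ⟨hcH, hcx⟩ := hc
  obtain ⟨w, hwK, hw, rfl⟩ := mem_img.mp hcH
  have hwE : w ∈ normalizer (zc (S0 (S : Subgroup G) Z) : Set G) := nor_E_of D h hw hcU
  apply hc1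
  rw [phi_eq_one_iff]
  refine FK_le_C (cent_E D h (mem_inf.2 ⟨Lp_le hw, ?_⟩))
  rw [← phi_eq_one_iff hwE]
  have hcomm : ∀ l, l ≠ o → ∀ v ∈ zc (FKQ (S : Subgroup G) L F Q), w * pr (x l) v * w⁻¹ = pr (x l) (w * v * w⁻¹) := by
    intro l hl v hv
    have h1 : ∀ v ∈ zc (FKQ (S : Subgroup G) L F Q), w * (x l * v * (x l)⁻¹) * w⁻¹ = x l * (w * v * w⁻¹) * (x l)⁻¹ := by
      have h2 := (hcx l hl).eq
      rw [xh_eq D h hl, phi_mul, phi_mul, phi_eq_iff] at h2
      intro v hv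
      calc w * (x l * v * (x l)⁻¹) * w⁻¹ = w * x l * v * (w * x l)⁻¹ := by group
        _ = _ := h2 v hv
        _ = _ := by group
    have h2 := h1 v hv
    have h3 := h1 _ (conj_mem (x_nor_ZK D h hl) hv)
    unfold pr
    rw [← h2, ← h3]; group
  obtain ⟨n, hn⟩ := h.two w (Lp_le hw)
  refine TwoN.eq_one D.ndat ⟨n, ?_⟩ ?_
  · rw [pow_phi, phi_eq_one_iff]; exact h.FE hn
  · have hl0 : ∀ l, l ≠ o → ∀ a, phi hwE • D.pE l a = D.pE l (phi hwE • a) := by
      intro l hl a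
      apply Md.ext
      rw [val_phi, Dat.val_pX, Dat.val_pX, val_phi]
      exact hcomm l hl _ (E_le_ZK D h a.val_mem)
    intro l a
    rcases eq_or_ne l o with rfl | hl
    · have h1 := D.pX_sum (hX := D.E_le) (h := D.pr_E) a
      have h2 := D.pX_sum (hX := D.E_le) (h := D.pr_E) (phi hwE • a)
      rw [← Finset.add_sum_erase _ _ (Finset.mem_univ l)] at h1 h2
      have h3 := congrArg (fun b => phi hwE • b) h1
      simp only [smul_add, Finset.smul_sum] at h3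
      have h4 : ∑ m ∈ Finset.univ.erase l, phi hwE • D.pE m a = ∑ m ∈ Finset.univ.erase l, D.pE m (phi hwE • a) :=
        Finset.sum_congr rfl fun m hm => hl0 m (Finset.ne_of_mem_erase hm) a
      rw [h4] at h3
      exact add_right_cancel (h3.trans h2.symm)
    · exact hl0 l hl a

theorem wdat [Fintype ι] : TwoW.WDat o (pK D h) (xh D h)
    (img (FKQ (S : Subgroup G) L F Q) (Lp (S : Subgroup G) L F Q))
    (img (FKQ (S : Subgroup G) L F Q) (S0 (S : Subgroup G) Z)) where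
  two := Md.two
  faith _ h := NG_faith h
  idem l a := D.pX_idem l a
  orth l m h a := D.pX_orth h a
  sum a := D.pX_sum a
  px := by
    intro l hl a
    rw [xh_eq D h hl]
    exact Md.ext rfl
  xt := by
    intro l hl m hm a
    rw [xh_eq D h hl]
    apply Md.ext
    rw [val_phi]
    exact D.triv l m hm.symm _ (D.pX_mem m a)
  H2 := H2 D h
  U2 := U2 D
  xH := by
    intro l hl g hh
    obtain ⟨w, hwN, hw, rfl⟩ := mem_img.mp hh
    rw [xh_eq D h hl, phi_mul, phi_inv, phi_mul]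
    exact phi_mem_img _ (x_conj_Lp D h hl hw)
  UH := fun u hu g hg => UH D h hu hg
  Ux := fun u hu l hl => Ux D h hu hl
  Uπ := by
    intro u hu l a
    obtain ⟨s, hsN, hs, rfl⟩ := mem_img.mp hu
    apply Md.ext
    rw [val_phi, Dat.val_pX, Dat.val_pX, val_phi]
    exact D.pr_comm_S0 hs l (ZK_le D a.val_mem)
  CH := by
    intro g hg hc
    have h1 : g ∈ CX D h := ⟨hg, fun l hl => hc l hl⟩
    rw [CX_bot D h] at h1
    exact h1

/-- an element of `Lp` commuting with `S⁰` on `Ω₁Z(FKQ)` acts as an element of `L ∩ N(S⁰)`. -/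
theorem nor_S0_of {w : G} (hw : w ∈ Lp (S : Subgroup G) L F Q)
    (hc : ∀ u : ↥(NG (FKQ (S : Subgroup G) L F Q)), u ∈ img (FKQ (S : Subgroup G) L F Q) (S0 (S : Subgroup G) Z) →
      u * phi (Lp_nor_ZK hw) * u⁻¹ = phi (Lp_nor_ZK hw)) :
    ∃ (w' : G) (hw' : w' ∈ Lp (S : Subgroup G) L F Q), w' ∈ normalizer (S0 (S : Subgroup G) Z : Set G) ∧
      phi (Lp_nor_ZK hw') = phi (Lp_nor_ZK hw) := by
  have hL := Lp_le hw
  have hwF : w ∈ normalizer (F : Set G) := h.nF (h.LC hL)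
  have hSF : S0 (S : Subgroup G) Z ≤ normalizer (F : Set G) := D.S0_le_C.trans h.nF
  have hK : FK (S : Subgroup G) L F ≤ S0 (S : Subgroup G) Z ⊔ F :=
    sup_le le_sup_right ((inf_le_S0 D h).trans le_sup_left)
  have hS : ∀ s ∈ S0 (S : Subgroup G) Z, w * s * w⁻¹ ∈ S0 (S : Subgroup G) Z ⊔ F := by
    intro s hs
    have hsN := S0_nor_ZK D h hs
    have h1 := hc _ (phi_mem_img hsN hs)
    have h2 : w * s * w⁻¹ * s⁻¹ ∈ Lp (S : Subgroup G) L F Q := by
      have := mul_mem hw (S0_conj_Lp D h hs (inv_mem hw))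
      have e : w * (s * w⁻¹ * s⁻¹) = w * s * w⁻¹ * s⁻¹ := by group
      rwa [e] at this
    have h3 : w * s * w⁻¹ * s⁻¹ ∈ centralizer (zc (FKQ (S : Subgroup G) L F Q) : Set G) := by
      rw [← phi_eq_one_iff (Lp_nor_ZK h2)]
      have h4 : phi (Lp_nor_ZK h2) = phi (Lp_nor_ZK hw) * (phi hsN * phi (Lp_nor_ZK hw) * (phi hsN)⁻¹)⁻¹ := by
        rw [phi_mul, phi_inv, phi_mul, phi_inv, phi_mul]
        rw [phi_eq_iff]
        intro v _
        group
      rw [h4, h1, mul_inv_cancel]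
    have h5 := hK (Lp_faith D h (Lp_le h2) h3)
    have h6 : w * s * w⁻¹ = (w * s * w⁻¹ * s⁻¹) * s := by group
    rw [h6]
    exact mul_mem h5 (le_sup_left (α := Subgroup G) hs)
  have hME : S0 (S : Subgroup G) Z ⊔ F ≤ centralizer (zc (S0 (S : Subgroup G) Z) : Set G) :=
    sup_le (le_centralizer_zc _) h.FE
  have hind : ¬ 2 ∣ (S0 (S : Subgroup G) Z).relIndex (S0 (S : Subgroup G) Z ⊔ F) := fun h2 =>
    not_dvd_S0 D (h2.trans (Dvd.intro _ (relIndex_mul_relIndex _ _ _ le_sup_left hME)))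
  obtain ⟨m, hm, hm2⟩ := exists_conj_in (S.2.to_le Dat.S0_le : IsPGroup 2 ↥(S0 (S : Subgroup G) Z)) hind
    (Y := (S0 (S : Subgroup G) Z).map (MulAut.conj w).toMonoidHom)
    ((S.2.to_le Dat.S0_le : IsPGroup 2 ↥(S0 (S : Subgroup G) Z)).map _) (by
      rintro _ ⟨s, hs, rfl⟩
      exact hS s hs)
  have h1 : m ∈ ((S0 (S : Subgroup G) Z : Subgroup G) : Set G) * (F : Set G) := by
    rw [← coe_mul_of_left_le_normalizer_right _ F hSF]
    exact hm
  obtain ⟨s, hs, f, hf, rfl⟩ := Set.mem_mul.1 h1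
  have hfL : f ∈ Lp (S : Subgroup G) L F Q :=
    mem_inf.2 ⟨h.FL hf, le_normalizer (FK_le_FKQ (F_le_FK hf))⟩
  refine ⟨f * w, mul_mem hfL hw, mem_norm fun t ht => ?_, ?_⟩
  · have h2 := hm2 (w * t * w⁻¹) ⟨t, ht, rfl⟩
    have h3 : f * w * t * (f * w)⁻¹ = s⁻¹ * (s * f * (w * t * w⁻¹) * (s * f)⁻¹) * s := by group
    change f * w * t * (f * w)⁻¹ ∈ S0 (S : Subgroup G) Z
    rw [h3]
    exact mul_mem (mul_mem (inv_mem hs) h2) hs
  · rw [← phi_mul (Lp_nor_ZK hfL) (Lp_nor_ZK hw), (phi_eq_one_iff (Lp_nor_ZK hfL)).2 (FK_le_C (F_le_FK hf)), one_mul]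

end

end Cfsg.Agent.Omega.IId.Big.Red

end

section


/-!
# (RED) (bb OMEGA 17245 (2)): THEOREM C, `q = 2`, for a functor: the outcome (generalisation of helper732's `ThmC/TwoOut`)
-/

set_option autoImplicit false
set_option linter.unusedSectionVars false

namespace Cfsg.Agent.Omega.IId.Big.Red

open scoped Pointwise
open Subgroup Cfsg Cfsg.Agent.MinSimple.VModule Cfsg.Agent.Omega.ThmC
open Cfsg.Agent.ZN (zc o2)
open Cfsg.Agent.Omega.IITwo.Count (conj_mem conj_mem' mem_norm)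

universe u

variable {G : Type u} [Group G]

section
variable {S : Sylow 2 G} {Q : Subgroup G} {ι : Type} {Z : ι → Subgroup G} {x z : ι → G} {L F : Subgroup G}
variable [Finite G] [Finite ι] (D : Dat S Q Z x z) {o : ι} (h : Fn (S : Subgroup G) Z z o L F)

include D h

theorem out [Fintype ι] {w : G} (hw : w ∈ L) (hwN : w ∈ normalizer (S0 (S : Subgroup G) Z : Set G))
    (h1 : phi (norE hwN) ≠ 1) (h2 : ∀ a : Md (S0 (S : Subgroup G) Z), phi (norE hwN) • phi (norE hwN) • a = a) (p q : ι) (hpq : p ≠ q)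
    (hs1 : ∀ l, l ≠ p → l ≠ q → ∀ a : Md (S0 (S : Subgroup G) Z), phi (norE hwN) • D.pE l a = D.pE l a)
    (hs2 : ∀ l, l ≠ p → l ≠ q → ∀ a : Md (S0 (S : Subgroup G) Z), D.pE l (phi (norE hwN) • a) = D.pE l a)
    (alt : p = o ∨ (p ≠ o ∧ q ≠ o ∧ ∃ a : Md (S0 (S : Subgroup G) Z), a ≠ 0 ∧ (D.pE p a = a ∨ D.pE q a = a) ∧
      phi (norE hwN) • a = a)) :
    p = o ∧ ∃ star τ, D.Res o q hwN star τ := by
  set T : Subgroup G := (S : Subgroup G) ⊓ centralizer {z o} with hT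
  have hTn : T ≤ normalizer (L : Set G) := inf_le_right.trans h.nL
  have hR : ∀ y ∈ T ⊔ L, ∃ n : ℕ, y ^ 2 ^ n ∈ F := by
    intro y hy
    have h3 : y ∈ (T : Set G) * (L : Set G) := by
      rw [← coe_mul_of_left_le_normalizer_right T L hTn]
      exact hy
    obtain ⟨t, ht, v, hv, rfl⟩ := Set.mem_mul.1 h3
    obtain ⟨a, ha⟩ := (S.2.to_le inf_le_left : IsPGroup 2 T) ⟨t, ht⟩
    have ha' : t ^ 2 ^ a = 1 := congrArg Subtype.val ha
    obtain ⟨w', hw', e⟩ := pow_mul_mem (hTn ht) hv (2 ^ a)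
    rw [ha', one_mul] at e
    obtain ⟨b, hb⟩ := h.two w' hw'
    refine ⟨a + b, ?_⟩
    rw [pow_add, pow_mul, e]
    exact hb
  have hC : T ⊔ L ≤ centralizer {z o} := sup_le inf_le_right h.LC
  obtain ⟨star, τ, e1, e2, e3, e4, e5, e6, e7, e8, e9, e10, e11, e12, e13, e14, e15, e16⟩ :=
    TwoN.main D.ndat o (img _ (T ⊔ L)) (img _ L) (img_isPGroup' h.FE hR)
      (by
        intro n hn hno
        obtain ⟨s, hs, rfl⟩ := D.mem_TT.mp hn
        rw [D.sN_phi hs] at hno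
        exact phi_mem_img _ (le_sup_left (α := Subgroup G) (mem_inf.mpr ⟨hs, (D.sg_iff_z hs).mp hno⟩)))
      (Dat.img_mono le_sup_right)
      (by
        intro n hn hno m hm
        obtain ⟨s, hs, rfl⟩ := D.mem_TT.mp hn
        obtain ⟨g, hg, hgW, rfl⟩ := mem_img.mp hm
        rw [D.sN_phi hs] at hno
        rw [phi_mul, phi_inv, phi_mul]
        exact phi_mem_img _ (conj_mem (hTn (mem_inf.mpr ⟨hs, (D.sg_iff_z hs).mp hno⟩)) hgW))
      (by
        intro r hr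
        obtain ⟨g, hg, hgT, rfl⟩ := mem_img.mp hr
        apply Md.ext
        rw [val_phi, Dat.val_zE]
        exact mem_cs'.mp (hC hgT))
      (phi (norE hwN)) (phi_mem_img _ hw) h1 h2 p q hpq hs1 hs2 alt
  refine ⟨e1, star, τ, ⟨e2, e3, e4, ?_, e6, e7, e8, e10, e11, e12, e13, e14, e15, e16⟩⟩
  intro s hs l
  have := e5 _ (D.mem_TT.mpr ⟨s, hs, rfl⟩) l
  rwa [D.sN_phi hs, D.sN_phi hs] at this

/-- a lift of `b`, a fixed point of `S⁰` in `B`. -/
theorem out_of [Fintype ι] {B : Subgroup ↥(NG (FKQ (S : Subgroup G) L F Q))}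
    (hBH : B ≤ img (FKQ (S : Subgroup G) L F Q) (Lp (S : Subgroup G) L F Q)) (hB2 : ∀ b ∈ B, b * b = 1) {p q : ι}
    (hpq : p ≠ q)
    (hs1 : ∀ b ∈ B, ∀ l, l ≠ p → l ≠ q → ∀ a : Md (FKQ (S : Subgroup G) L F Q), b • pK D h l a = pK D h l a)
    (hs2 : ∀ b ∈ B, ∀ l, l ≠ p → l ≠ q → ∀ a : Md (FKQ (S : Subgroup G) L F Q), pK D h l (b • a) = pK D h l a)
    (alt : p = o ∨ (p ≠ o ∧ q ≠ o ∧ ∃ a : Md (FKQ (S : Subgroup G) L F Q), a ≠ 0 ∧
      (pK D h p a = a ∨ pK D h q a = a) ∧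
      (∀ u ∈ img (FKQ (S : Subgroup G) L F Q) (S0 (S : Subgroup G) Z), u • a = a) ∧ ∀ b ∈ B, b • a = a))
    {b : ↥(NG (FKQ (S : Subgroup G) L F Q))} (hb : b ∈ B) (hb1 : b ≠ 1)
    (hbU : ∀ u : ↥(NG (FKQ (S : Subgroup G) L F Q)), u ∈ img (FKQ (S : Subgroup G) L F Q) (S0 (S : Subgroup G) Z) →
      u * b * u⁻¹ = b) :
    ∃ (w : G) (hw : w ∈ Lp (S : Subgroup G) L F Q) (hwN : w ∈ normalizer (S0 (S : Subgroup G) Z : Set G)),
      phi (Lp_nor_ZK hw) = b ∧ p = o ∧ ∃ star τ, D.Res o q hwN star τ := by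
  obtain ⟨w0, hwK0, hw0, rfl⟩ := mem_img.mp (hBH hb)
  obtain ⟨w, hw, hwN, hwb⟩ := nor_S0_of D h hw0 hbU
  have hval : ∀ v ∈ zc (S0 (S : Subgroup G) Z), v ∈ zc (FKQ (S : Subgroup G) L F Q) := fun v hv => E_le_ZK D h hv
  have hb' : phi (Lp_nor_ZK hw) ∈ B := by rw [hwb]; exact hb
  refine ⟨w, hw, hwN, hwb, out D h (Lp_le hw) hwN ?_ ?_ p q hpq ?_ ?_ ?_⟩
  · intro h0
    rw [phi_eq_one_iff] at h0
    apply hb1
    have h2 : phi (Lp_nor_ZK hw) = 1 := by
      rw [phi_eq_one_iff]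
      exact FK_le_C (cent_E D h (mem_inf.2 ⟨Lp_le hw, h0⟩))
    rw [← h2, hwb]
  · intro a
    have h1 := hB2 _ hb'
    rw [phi_mul, phi_eq_one_iff, mem_centralizer_iff] at h1
    have h2 := h1 _ (hval _ a.val_mem)
    apply Md.ext
    rw [val_phi, val_phi]
    calc w * (w * a.val * w⁻¹) * w⁻¹ = (w * w) * a.val * (w * w)⁻¹ := by group
      _ = a.val := by rw [← h2]; group
  · intro l hl hl' a
    apply Md.ext
    rw [val_phi, Dat.val_pX]
    exact congrArg Md.val (hs1 _ hb' l hl hl' (Md.mk a.val (hval _ a.val_mem)))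
  · intro l hl hl' a
    apply Md.ext
    rw [Dat.val_pX, val_phi, Dat.val_pX]
    exact congrArg Md.val (hs2 _ hb' l hl hl' (Md.mk a.val (hval _ a.val_mem)))
  · rcases alt with h0 | ⟨h1, h2, a, ha0, ha1, ha2, ha3⟩
    · exact Or.inl h0
    · right
      refine ⟨h1, h2, ?_⟩
      have haE : a.val ∈ zc (S0 (S : Subgroup G) Z) := by
        rw [D.mem_E]
        refine ⟨ZK_le D a.val_mem, fun s hs => ?_⟩
        have h3 := congrArg Md.val (ha2 _ (phi_mem_img (S0_nor_ZK D h hs) hs))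
        rw [val_phi] at h3
        exact mul_inv_eq_iff_eq_mul.mp h3
      refine ⟨Md.mk a.val haE, fun h => ha0 ?_, ?_, ?_⟩
      · have h4 : a.val = 1 := congrArg Md.val h
        exact Md.val_eq_one.mp h4
      · rcases ha1 with h3 | h3
        · have h4 := congrArg Md.val h3
          exact Or.inl (Md.ext h4)
        · have h4 := congrArg Md.val h3
          exact Or.inr (Md.ext h4)
      · have h4 := congrArg Md.val (ha3 _ hb')
        exact Md.ext h4

/-- **Outcome of (2)-(5).** -/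
theorem step [Fintype ι] (hL : ¬ L ≤ FK (S : Subgroup G) L F) :
    ∃ (q : ι) (w : G) (_ : w ∈ L) (hwN : w ∈ normalizer (S0 (S : Subgroup G) Z : Set G))
      (star : ι → ι) (τ : ↥(NG (S0 (S : Subgroup G) Z))), D.Res o q hwN star τ ∧
      ∃ w1 ∈ L, ∃ w2 ∈ L, w1 * z q * w1⁻¹ ≠ z q ∧ w2 * z q * w2⁻¹ ≠ z q ∧
        w1 * z q * w1⁻¹ ≠ w2 * z q * w2⁻¹ := by
  have hH : img (FKQ (S : Subgroup G) L F Q) (Lp (S : Subgroup G) L F Q) ≠ ⊥ := by
    intro h0
    obtain ⟨w, hw, hwS⟩ := exists_Lp D h hL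
    have h1 : phi (Lp_nor_ZK hw) = 1 := by
      rw [← mem_bot, ← h0]
      exact phi_mem_img _ hw
    rw [phi_eq_one_iff] at h1
    exact hwS (Lp_faith D h (Lp_le hw) h1)
  obtain ⟨B, p, q, hBH, hBne, hpq, hB2, hBU, hs1, hs2, alt⟩ := TwoW.main (wdat D h) hH
  have hB : IsPGroup 2 B := fun b => ⟨1, Subtype.ext (by
    have := hB2 b b.2
    simpa [pow_two] using this)⟩
  have hU := U2 (L := L) (F := F) D
  have alt' : p = o ∨ (p ≠ o ∧ q ≠ o ∧ ∃ a : Md (FKQ (S : Subgroup G) L F Q), a ≠ 0 ∧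
      (pK D h p a = a ∨ pK D h q a = a) ∧
      (∀ u ∈ img (FKQ (S : Subgroup G) L F Q) (S0 (S : Subgroup G) Z), u • a = a) ∧ ∀ b ∈ B, b • a = a) := by
    rcases alt with h | h
    · exact Or.inl h.1
    · exact Or.inr h
  obtain ⟨b, hb, hb1, hbU⟩ := Half.exists_fixed hB hBne hU (fun u hu => mem_norm (hBU u hu))
  obtain ⟨w, hw, hwN, hwb, hpo, star, τ, hres⟩ := out_of D h hBH hB2 hpq hs1 hs2 alt' hb hb1 hbU
  have hx : ∀ b ∈ B, xh D h q * b * (xh D h q)⁻¹ ∈ B ∧ (xh D h q * b * (xh D h q)⁻¹ = b → b = 1) := by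
    rcases alt with h | h
    · exact h.2
    · exact absurd hpo h.1
  -- no `b ≠ 1` fixes `z q`
  set zK : Md (FKQ (S : Subgroup G) L F Q) := Md.mk (z q) (E_le_ZK D h (D.z_mem_E q)) with hzK
  have hC : ∀ b ∈ B, b • zK = zK → b = 1 := by
    let C : Subgroup ↥(NG (FKQ (S : Subgroup G) L F Q)) := B ⊓ MulAction.stabilizer _ zK
    have hCb : C = ⊥ := by
      by_contra hne
      have hCU : img (FKQ (S : Subgroup G) L F Q) (S0 (S : Subgroup G) Z) ≤
          normalizer (C : Set ↥(NG (FKQ (S : Subgroup G) L F Q))) := by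
        intro u hu
        refine mem_norm fun c hc => ?_
        rw [mem_inf] at hc ⊢
        refine ⟨hBU u hu c hc.1, ?_⟩
        have hfix : ∀ u ∈ img (FKQ (S : Subgroup G) L F Q) (S0 (S : Subgroup G) Z), u • zK = zK := by
          intro u hu
          obtain ⟨s, hsN, hs, rfl⟩ := mem_img.mp hu
          apply Md.ext
          rw [val_phi]
          exact mem_cs'.mp (D.S0_le_C (o := q) hs)
        rw [MulAction.mem_stabilizer_iff, mul_smul, mul_smul, hfix _ (inv_mem hu),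
          MulAction.mem_stabilizer_iff.mp hc.2, hfix _ hu]
      obtain ⟨c, hc, hc1, hcU⟩ := Half.exists_fixed (V := C) (hB.to_le inf_le_left) hne hU hCU
      rw [mem_inf] at hc
      obtain ⟨w', hw', hwN', hwb', -, star', τ', r⟩ := out_of D h hBH hB2 hpq hs1 hs2 alt' hc.1 hc1 hcU
      have h1 := r.zo
      rw [r.so, mul_smul] at h1
      have h2 : τ' • D.zE o = D.zE q := by
        obtain ⟨s, hs, hsτ⟩ := D.mem_TT.mp r.mem
        have h3 := r.map
        rw [← hsτ, D.sN_phi hs, r.so] at h3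
        rw [← hsτ]
        apply Md.ext
        rw [val_phi, Dat.val_zE, Dat.val_zE, D.z_conj hs, h3]
      have h4 : phi (norE hwN') • D.zE q = D.zE q := by
        have h5 := MulAction.mem_stabilizer_iff.mp hc.2
        rw [← hwb'] at h5
        have h6 := congrArg Md.val h5
        exact Md.ext h6
      rw [h2, h4] at h1
      exact D.zE_ne o (by simpa using h1.symm)
    intro b hb hbz
    have : b ∈ C := mem_inf.mpr ⟨hb, MulAction.mem_stabilizer_iff.mpr hbz⟩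
    rw [hCb] at this
    exact this
  refine ⟨q, w, Lp_le hw, hwN, star, τ, hres, ?_⟩
  obtain ⟨hb', hb'1⟩ := hx b hb
  set b' := xh D h q * b * (xh D h q)⁻¹ with hb'd
  obtain ⟨w2, hw2K, hw2, hw2b⟩ := mem_img.mp (hBH hb')
  have hne : b' ≠ b := fun h => hb1 (hb'1 h)
  have hb'ne : b' ≠ 1 := by
    intro h0
    apply hb1
    have : b = (xh D h q)⁻¹ * b' * xh D h q := by rw [hb'd]; group
    rw [this, h0]; group
  have hv : ∀ {g : G} (hg : g ∈ normalizer (zc (FKQ (S : Subgroup G) L F Q) : Set G)), (phi hg • zK).val = g * z q * g⁻¹ :=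
    fun hg => rfl
  refine ⟨w, Lp_le hw, w2, Lp_le hw2, fun h => ?_, fun h => ?_, fun h => ?_⟩
  · apply hb1
    apply hC b hb
    rw [← hwb]
    exact Md.ext (by rw [hv, h]; rfl)
  · apply hb'ne
    apply hC b' hb'
    rw [← hw2b]
    exact Md.ext (by rw [hv, h]; rfl)
  · apply hne
    have h5 : b⁻¹ * b' = 1 := by
      apply hC _ (mul_mem (inv_mem hb) hb')
      rw [mul_smul, inv_smul_eq_iff, ← hwb, ← hw2b]
      exact Md.ext (by rw [hv, hv, h])
    exact (inv_mul_eq_one.mp h5).symm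

end

end Cfsg.Agent.Omega.IId.Big.Red

end

section


/-!
# (RED) (bb OMEGA 17245 (2)): THEOREM C, `q = 2`, for a functor

`le_FK` : `L ≤ F (L ∩ S)`.   `L_le_E` : `L` centralises `E = Ω₁Z(S⁰)`.
(generalisation of helper732's `ThmC/TwoEnd`)
-/

set_option autoImplicit false
set_option linter.unusedSectionVars false

namespace Cfsg.Agent.Omega.IId.Big.Red

open scoped Pointwise
open Subgroup Cfsg Cfsg.Agent.MinSimple.VModule Cfsg.Agent.Omega.ThmC
open Cfsg.Agent.ZN (zc o2)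
open Cfsg.Agent.Omega.IITwo.Count (conj_mem conj_mem' mem_norm)

universe u

variable {G : Type u} [Group G]

theorem map_conj_nor {M L : Subgroup G} {v g : G} (h : centralizer ({v} : Set G) ≤ normalizer (L : Set G))
    (hM : M = centralizer ({g * v * g⁻¹} : Set G)) : M ≤ normalizer ((L.map (MulAut.conj g).toMonoidHom : Subgroup G) : Set G) := by
  subst hM
  intro c hc
  have h1 : g⁻¹ * c * g ∈ centralizer ({v} : Set G) := by
    rw [mem_cs'] at hc ⊢
    calc g⁻¹ * c * g * v * (g⁻¹ * c * g)⁻¹ = g⁻¹ * (c * (g * v * g⁻¹) * c⁻¹) * g := by group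
      _ = v := by rw [hc]; group
  have key : ∀ c ∈ centralizer ({g * v * g⁻¹} : Set G), ∀ y ∈ L.map (MulAut.conj g).toMonoidHom,
      c * y * c⁻¹ ∈ L.map (MulAut.conj g).toMonoidHom := by
    rintro c hc _ ⟨y, hy, rfl⟩
    have h1 : g⁻¹ * c * g ∈ centralizer ({v} : Set G) := by
      rw [mem_cs'] at hc ⊢
      calc g⁻¹ * c * g * v * (g⁻¹ * c * g)⁻¹ = g⁻¹ * (c * (g * v * g⁻¹) * c⁻¹) * g := by group
        _ = v := by rw [hc]; group
    refine ⟨(g⁻¹ * c * g) * y * (g⁻¹ * c * g)⁻¹, conj_mem (h h1) hy, ?_⟩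
    change g * ((g⁻¹ * c * g) * y * (g⁻¹ * c * g)⁻¹) * g⁻¹ = c * (g * y * g⁻¹) * c⁻¹
    group
  rw [mem_normalizer_iff]
  intro y
  refine ⟨key c hc y, fun hy => ?_⟩
  have h2 := key c⁻¹ (inv_mem hc) _ hy
  have e : c⁻¹ * (c * y * c⁻¹) * c⁻¹⁻¹ = y := by group
  rwa [e] at h2

theorem Fn.conj {S : Sylow 2 G} {ι ι' : Type} {Z : ι → Subgroup G} {Z' : ι' → Subgroup G} {z : ι → G} {z' : ι' → G}
    {o : ι} {o' : ι'} {L F : Subgroup G} (h : Fn (S : Subgroup G) Z z o L F) {g : G} (hg : g * z o * g⁻¹ = z' o')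
    (hE : zc (S0 (S : Subgroup G) Z') ≤ zc (S0 (S : Subgroup G) Z))
    (hgN : g ∈ normalizer (zc (S0 (S : Subgroup G) Z) : Set G)) :
    Fn (S : Subgroup G) Z' z' o' (L.map (MulAut.conj g).toMonoidHom) (F.map (MulAut.conj g).toMonoidHom) where
  LC := by
    rintro _ ⟨y, hy, rfl⟩
    have h1 := mem_cs'.1 (h.LC hy)
    change g * y * g⁻¹ ∈ _
    rw [mem_cs', ← hg]
    calc g * y * g⁻¹ * (g * z o * g⁻¹) * (g * y * g⁻¹)⁻¹ = g * (y * z o * y⁻¹) * g⁻¹ := by group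
      _ = _ := by rw [h1]
  nL := map_conj_nor h.nL (by rw [hg])
  nF := map_conj_nor h.nF (by rw [hg])
  FL := map_mono h.FL
  two := by
    rintro _ ⟨y, hy, rfl⟩
    obtain ⟨n, hn⟩ := h.two y hy
    exact ⟨n, y ^ 2 ^ n, hn, map_pow _ _ _⟩
  FE := by
    rintro _ ⟨f, hf, rfl⟩
    change g * f * g⁻¹ ∈ _
    rw [mem_centralizer_iff]
    intro v hv
    have h1 := mem_centralizer_iff.1 (h.FE hf) _ (conj_mem' hgN (hE hv))
    calc v * (g * f * g⁻¹) = g * ((g⁻¹ * v * g) * f) * g⁻¹ := by group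
      _ = g * (f * (g⁻¹ * v * g)) * g⁻¹ := by rw [h1]
      _ = g * f * g⁻¹ * v := by group

/-- **THEOREM C for a functor**: `L ≤ F (L ∩ S)`. -/
theorem le_FK [Finite G] {S : Sylow 2 G} : ∀ (n : ℕ) (Q : Subgroup G) (ι : Type) (_ : Finite ι) (Z : ι → Subgroup G)
    (x z : ι → G), Nat.card ι = n → Dat S Q Z x z → ∀ (o : ι) (L F : Subgroup G),
      Fn (S : Subgroup G) Z z o L F → L ≤ FK (S : Subgroup G) L F := by
  intro n
  induction n using Nat.strong_induction_on with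
  | _ n ih =>
  intro Q ι _ Z x z hn D o L F h
  have := Fintype.ofFinite ι
  by_contra hne
  obtain ⟨q, w, hw, hwN, star, τ, r, w1, hw1, w2, hw2, n1, n2, n3⟩ := step D h hne
  obtain ⟨s, hs, hτ⟩ := D.mem_TT.mp r.mem
  have h6 := r.six hs hτ
  have hso : D.sg s o = q := by
    have := r.map
    rwa [← hτ, D.sN_phi hs, r.so] at this
  have hsq : D.sg s q = o := by rw [← r.so, r.perm s hs, hso, ← r.so, r.inv]
  -- the conjugating element
  have ez : s * z o * s⁻¹ = z q := by rw [D.z_conj hs, hso]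
  have ezq : s * z q * s⁻¹ = z o := by rw [D.z_conj hs, hsq]
  have ew : w * z o * w⁻¹ = z o := mem_cs'.mp (h.LC hw)
  have ewq : w * z q * w⁻¹ = z o * z q := by
    have h1 := r.zo
    rw [← hτ, r.so] at h1
    have h2 := congrArg Md.val h1
    rw [Md.val_add, Dat.val_zE, Dat.val_zE] at h2
    have h3 : (((phi (norE hwN) * phi (D.S_le_nor_E hs)) • D.zE o).val : G) = w * (s * z o * s⁻¹) * w⁻¹ := by
      rw [mul_smul]; rfl
    rw [h3, ez] at h2
    exact h2
  set g := s * w * s⁻¹ with hg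
  have es : s⁻¹ * z q * s = z o := by rw [← ez]; group
  have es' : s⁻¹ * z o * s = z q := by rw [← ezq]; group
  have hgq : g * z q * g⁻¹ = z q := by
    calc g * z q * g⁻¹ = s * (w * (s⁻¹ * z q * s) * w⁻¹) * s⁻¹ := by rw [hg]; group
      _ = z q := by rw [es, ew, ez]
  have hgo : g * z o * g⁻¹ = z o * z q := by
    calc g * z o * g⁻¹ = s * (w * (s⁻¹ * z o * s) * w⁻¹) * s⁻¹ := by rw [hg]; group
      _ = s * (z o * z q) * s⁻¹ := by rw [es', ewq]
      _ = (s * z o * s⁻¹) * (s * z q * s⁻¹) := by group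
      _ = z o * z q := by rw [ez, ezq, D.zz_comm]
  have hqo : q ≠ o := by
    intro h
    have h1 := r.ne o
    rw [r.so] at h1
    exact h1 h
  have hgN : g ∈ normalizer (zc (S0 (S : Subgroup G) Z) : Set G) :=
    mul_mem (mul_mem (D.S_le_nor_E hs) (norE hwN)) (inv_mem (D.S_le_nor_E hs))
  -- induction
  have hWb : L.map (MulAut.conj g).toMonoidHom ≤
      FK (S : Subgroup G) (L.map (MulAut.conj g).toMonoidHom) (F.map (MulAut.conj g).toMonoidHom) := by
    refine ih (Nat.card {l : ι // rep h6.inv l = l}) (by rw [← hn]; exact D.card_lt h6) _ _ inferInstance _ _ _ rfl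
      h6.dat ⟨rep h6.inv o, rep_rep h6.inv o⟩ _ _ (h.conj ?_ h6.dat.E_le hgN)
    change g * z o * g⁻¹ = z (rep h6.inv o) * z (star (rep h6.inv o))
    rw [hgo]
    rcases rep_or h6.inv o with h | h
    · rw [h, r.so]
    · rw [h, r.inv, r.so, D.zz_comm]
  have hLC' : L.map (MulAut.conj g).toMonoidHom ≤ centralizer ({z o * z q} : Set G) := by
    rintro _ ⟨y, hy, rfl⟩
    have h1 := mem_cs'.1 (h.LC hy)
    change g * y * g⁻¹ ∈ _
    rw [mem_cs', ← hgo]
    calc g * y * g⁻¹ * (g * z o * g⁻¹) * (g * y * g⁻¹)⁻¹ = g * (y * z o * y⁻¹) * g⁻¹ := by group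
      _ = _ := by rw [h1]
  have hnF' : L.map (MulAut.conj g).toMonoidHom ≤
      normalizer ((F.map (MulAut.conj g).toMonoidHom : Subgroup G) : Set G) :=
    hLC'.trans (map_conj_nor h.nF (by rw [hgo]))
  have hFE' : F.map (MulAut.conj g).toMonoidHom ≤ centralizer (zc (S0 (S : Subgroup G) Z) : Set G) := by
    rintro _ ⟨f, hf, rfl⟩
    change g * f * g⁻¹ ∈ _
    rw [mem_centralizer_iff]
    intro v hv
    have h1 := mem_centralizer_iff.1 (h.FE hf) _ (conj_mem' hgN hv)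
    calc v * (g * f * g⁻¹) = g * ((g⁻¹ * v * g) * f) * g⁻¹ := by group
      _ = g * (f * (g⁻¹ * v * g)) * g⁻¹ := by rw [h1]
      _ = g * f * g⁻¹ * v := by group
  -- the orbit of `z q` under `W_b`
  have orb : ∀ u ∈ (S : Subgroup G), u * (z o * z q) * u⁻¹ = z o * z q → u * z q * u⁻¹ = z o ∨ u * z q * u⁻¹ = z q := by
    intro u hu hf
    rw [D.z_conj hu]
    by_cases h1 : D.sg u q = o
    · left; rw [h1]
    by_cases h2 : D.sg u q = q
    · right; rw [h2]
    exfalso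
    have h3 : z (D.sg u o) * z (D.sg u q) = z o * z q := by
      rw [← D.z_conj hu, ← D.z_conj hu, ← hf]; group
    have h4 : D.sg u q ≠ D.sg u o := by
      intro h
      apply hqo
      have := congrArg (D.sg u⁻¹) h
      rwa [← D.sg_mul (inv_mem hu) hu, ← D.sg_mul (inv_mem hu) hu, inv_mul_cancel, D.sg_one, D.sg_one] at this
    have h5 := congrArg (ThmC.pr (x (D.sg u q))) h3
    rw [pr_mul (D.xN _) (D.le _ (D.zm _)) (D.le _ (D.zm _)), pr_mul (D.xN _) (D.le _ (D.zm _)) (D.le _ (D.zm _)),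
      D.pr_other h4 (D.zm _), D.pr_self (D.zm _), D.pr_other h1 (D.zm _), D.pr_other h2 (D.zm _), one_mul,
      one_mul] at h5
    exact D.z1 _ h5
  have orb' : ∀ u ∈ L.map (MulAut.conj g).toMonoidHom, u * z q * u⁻¹ = z o ∨ u * z q * u⁻¹ = z q := by
    intro u hu
    have h1 : u ∈ ((L.map (MulAut.conj g).toMonoidHom ⊓ (S : Subgroup G) : Subgroup G) : Set G) *
        ((F.map (MulAut.conj g).toMonoidHom : Subgroup G) : Set G) := by
      rw [← coe_mul_of_left_le_normalizer_right _ _ (inf_le_left.trans hnF')]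
      have h2 := hWb hu
      rw [FK, sup_comm] at h2
      exact h2
    obtain ⟨k, hk, f, hf, rfl⟩ := Set.mem_mul.1 h1
    have hkS := (mem_inf.1 hk).2
    have h2 := orb k hkS (mem_cs'.1 (hLC' (mem_inf.1 hk).1))
    have h3 : f * z q * f⁻¹ = z q := by
      rw [← mem_centralizer_iff.1 (hFE' hf) _ (D.z_mem_E q)]; group
    have h4 : k * f * z q * (k * f)⁻¹ = k * z q * k⁻¹ := by
      calc k * f * z q * (k * f)⁻¹ = k * (f * z q * f⁻¹) * k⁻¹ := by group
        _ = _ := by rw [h3]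
    rwa [h4]
  have key : ∀ w' ∈ L, w' * z q * w'⁻¹ ≠ z q → w' * z q * w'⁻¹ = g⁻¹ * z o * g := by
    intro w' hw' hne'
    have h2 := orb' (g * w' * g⁻¹) ⟨w', hw', rfl⟩
    have h3 : g * w' * g⁻¹ * z q * (g * w' * g⁻¹)⁻¹ = g * (w' * z q * w'⁻¹) * g⁻¹ := by
      calc g * w' * g⁻¹ * z q * (g * w' * g⁻¹)⁻¹ = g * w' * (g⁻¹ * z q * g) * w'⁻¹ * g⁻¹ := by group
        _ = g * w' * (g⁻¹ * (g * z q * g⁻¹) * g) * w'⁻¹ * g⁻¹ := by rw [hgq]
        _ = _ := by group
    rw [h3] at h2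
    rcases h2 with h2 | h2
    · rw [← h2]; group
    · exfalso
      apply hne'
      calc w' * z q * w'⁻¹ = g⁻¹ * (g * (w' * z q * w'⁻¹) * g⁻¹) * g := by group
        _ = g⁻¹ * (g * z q * g⁻¹) * g := by rw [h2, hgq]
        _ = z q := by group
  exact n3 ((key w1 hw1 n1).trans (key w2 hw2 n2).symm)

section
variable {S : Sylow 2 G} {Q : Subgroup G} {ι : Type} {Z : ι → Subgroup G} {x z : ι → G} {L F : Subgroup G}
variable [Finite G] [Finite ι] (D : Dat S Q Z x z) {o : ι} (h : Fn (S : Subgroup G) Z z o L F)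

include D h

theorem L_le_FK : L ≤ FK (S : Subgroup G) L F := le_FK _ Q ι ‹_› Z x z rfl D o L F h

/-- `L` centralises `E = Ω₁Z(S⁰)`. -/
theorem L_le_E : L ≤ centralizer (zc (S0 (S : Subgroup G) Z) : Set G) :=
  (L_le_FK D h).trans (sup_le h.FE ((inf_le_S0 D h).trans (le_centralizer_zc _)))

/-- `L` centralises the `x l`-conjugate of `C_l`, `l ≠ o`, if `F` does. -/
theorem L_comm {l : ι} (hl : l ≠ o) {v : G} (hv : v ∈ zc (S0 (S : Subgroup G) Z))
    (hF : ∀ f ∈ F, f * (x l * v * (x l)⁻¹) = x l * v * (x l)⁻¹ * f) {w : G} (hw : w ∈ L) :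
    w * (x l * v * (x l)⁻¹) = x l * v * (x l)⁻¹ * w := by
  have key : FK (S : Subgroup G) L F ≤ centralizer ({x l * v * (x l)⁻¹} : Set G) := by
    refine sup_le (fun f hf => mem_cs.2 (hF f hf)) fun k hk => ?_
    rw [mem_inf] at hk
    rw [mem_cs', comm_x' D h hk.1 hk.2 hl (D.E_le hv)]
    have h1 := (D.mem_E.1 hv).2 _ (inf_le_S0 D h (mem_inf.2 hk))
    rw [h1]
    group
  exact mem_cs.1 (key (L_le_FK D h hw))

end

end Cfsg.Agent.Omega.IId.Big.Red

end
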