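import Cfsg.Agent.Mrg.Omega.IId.Big.Fix
import Cfsg.Agent.Mrg.Omega.IId.Big.RedK
import Cfsg.Agent.Mrg.Omega.IId.Big.RedPt
import Cfsg.Agent.Mrg.Omega.BTwo.Split

section


/-!
# (1) and (RED) of bb OMEGA 17245 in the frame `Fr S V` (any number of blocks)

`Red V i v` : `C(v)/F`, `F = C_{C(v)}(U_v)`, has no nontrivial normal 2-subgroup.

* `Rd D V` : the frame `Fr S V` together with DATA (W);
* `Rd.one` : **(1)** : `Ω₁Z(S⁰) ∩ Z_i = ⟨z_i⟩`;
* `Rd.red` : **(RED)**;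
* `Red.tv` : an element of `C(v)` which acts on `U_v ⟨v⟩ / ⟨v⟩` trivially acts trivially on `U_v`.
-/

set_option autoImplicit false
set_option linter.unusedSectionVars false

namespace Cfsg.Agent.Omega.IId.Big

open scoped Pointwise
open Subgroup Cfsg
open Cfsg.Agent.ZN (o2 zc)
open Cfsg.Agent.MinSimple.VModule (le_o2 le_normalizer_o2 mem_zc o2_isPGroup o2_le)
open Triangle (KK KK_conj KK_le_o2 mem_cent mem_KK mem_zpowers_iff_of_sq cent_conj o2_cent_conj)
open Cfsg.Agent.Omega.ThmC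

universe u

variable {G : Type u} [Group G]

/-- **(RED)** at `v ∈ V i` : no nontrivial normal 2-subgroup of `C(v)/C_{C(v)}(U_v)`. -/
def RedAt {ι : Type} (V : ι → Subgroup G) (i : ι) (v : G) : Prop :=
  ∀ L : Subgroup G, L ≤ cz v → cz v ≤ normalizer (L : Set G) →
    (∀ w ∈ L, ∃ n : ℕ, w ^ 2 ^ n ∈ centralizer (UU V i v : Set G)) → L ≤ centralizer (UU V i v : Set G)

/-- no transvections with centre `v` -/
theorem RedAt.tv {ι : Type} {V : ι → Subgroup G} {i : ι} {v : G} (h : RedAt V i v) (hv : v * v = 1) {g : G}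
    (hg : g ∈ cz v) (hU : ∀ u ∈ UU V i v, g * u * g⁻¹ = u ∨ g * u * g⁻¹ = v * u) :
    g ∈ centralizer (UU V i v : Set G) := by
  let L : Subgroup G :=
    { carrier := {g | g ∈ cz v ∧ ∀ u ∈ UU V i v, g * u * g⁻¹ = u ∨ g * u * g⁻¹ = v * u}
      one_mem' := ⟨one_mem _, fun u _ => Or.inl (by group)⟩
      mul_mem' := by
        rintro a b ⟨ha, ha'⟩ ⟨hb, hb'⟩
        refine ⟨mul_mem ha hb, fun u hu => ?_⟩
        have e : a * b * u * (a * b)⁻¹ = a * (b * u * b⁻¹) * a⁻¹ := by group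
        have hav : a * v * a⁻¹ = v := conj_of_comm (mem_cent.1 ha)
        rw [e]
        rcases hb' u hu with h1 | h1
        · rw [h1]; exact ha' u hu
        · have e2 : a * (v * u) * a⁻¹ = (a * v * a⁻¹) * (a * u * a⁻¹) := by group
          rw [h1, e2, hav]
          rcases ha' u hu with h2 | h2
          · right; rw [h2]
          · left; rw [h2, ← mul_assoc, hv, one_mul]
      inv_mem' := by
        rintro a ⟨ha, ha'⟩
        refine ⟨inv_mem ha, fun u hu => ?_⟩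
        have hav : a⁻¹ * v * a = v := by
          have := conj_of_comm (mem_cent.1 (inv_mem ha))
          rwa [inv_inv] at this
        have huU : a⁻¹ * u * a⁻¹⁻¹ ∈ UU V i v := conj_mem cz_norm_UU (inv_mem ha) hu
        rcases ha' _ huU with h1 | h1
        · left
          have e : a * (a⁻¹ * u * a⁻¹⁻¹) * a⁻¹ = u := by group
          rw [e] at h1
          exact h1.symm
        · right
          have e : a * (a⁻¹ * u * a⁻¹⁻¹) * a⁻¹ = u := by group
          rw [e] at h1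
          calc a⁻¹ * u * a⁻¹⁻¹ = (v * v) * (a⁻¹ * u * a⁻¹⁻¹) := by rw [hv, one_mul]
            _ = v * (v * (a⁻¹ * u * a⁻¹⁻¹)) := mul_assoc _ _ _
            _ = v * u := by rw [← h1] }
  refine h L (fun a ha => ha.1) ?_ ?_ (show g ∈ L from ⟨hg, hU⟩)
  · apply norm_of
    rintro c hc a ⟨ha, ha'⟩
    refine ⟨mul_mem (mul_mem hc ha) (inv_mem hc), fun u hu => ?_⟩
    have hcv : c * v * c⁻¹ = v := conj_of_comm (mem_cent.1 hc)
    have huU : c⁻¹ * u * c⁻¹⁻¹ ∈ UU V i v := conj_mem cz_norm_UU (inv_mem hc) hu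
    have e : c * a * c⁻¹ * u * (c * a * c⁻¹)⁻¹ = c * (a * (c⁻¹ * u * c⁻¹⁻¹) * a⁻¹) * c⁻¹ := by group
    rw [e]
    rcases ha' _ huU with h1 | h1
    · left; rw [h1]; group
    · right
      rw [h1]
      calc c * (v * (c⁻¹ * u * c⁻¹⁻¹)) * c⁻¹ = (c * v * c⁻¹) * u := by group
        _ = v * u := by rw [hcv]
  · rintro a ⟨ha, ha'⟩
    refine ⟨1, mem_centralizer_iff.2 fun u hu => ?_⟩
    have hav : a * v * a⁻¹ = v := conj_of_comm (mem_cent.1 ha)
    have key : a * (a * u * a⁻¹) * a⁻¹ = u := by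
      rcases ha' u hu with h1 | h1
      · rw [h1, h1]
      · have e2 : a * (v * u) * a⁻¹ = (a * v * a⁻¹) * (a * u * a⁻¹) := by group
        rw [h1, e2, hav, h1, ← mul_assoc, hv, one_mul]
    rw [pow_one, pow_two]
    calc u * (a * a) = (a * (a * u * a⁻¹) * a⁻¹) * (a * a) := by rw [key]
      _ = a * a * u := by group

/-- transport of (RED) -/
theorem RedAt.conj {ι : Type} {V : ι → Subgroup G} {i : ι} {v v' g : G} (hg : g * v * g⁻¹ = v')
    (hV : ∀ a ∈ Vo V i, g * a * g⁻¹ ∈ Vo V i) (hV' : ∀ a ∈ Vo V i, g⁻¹ * a * g ∈ Vo V i) (h : RedAt V i v) :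
    RedAt V i v' := by
  have c1 : ∀ c ∈ cz v, g * c * g⁻¹ ∈ cz v' := by
    intro c hc
    rw [mem_cent] at hc ⊢
    rw [← hg]
    calc g * c * g⁻¹ * (g * v * g⁻¹) = g * (c * v) * g⁻¹ := by group
      _ = _ := by rw [hc]; group
  have c2 : ∀ c ∈ cz v', g⁻¹ * c * g ∈ cz v := by
    intro c hc
    rw [mem_cent] at hc ⊢
    have e : v = g⁻¹ * v' * g := by rw [← hg]; group
    rw [e]
    calc g⁻¹ * c * g * (g⁻¹ * v' * g) = g⁻¹ * (c * v') * g := by group
      _ = _ := by rw [hc]; group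
  have u1 : ∀ x ∈ UU V i v, g * x * g⁻¹ ∈ UU V i v' := fun x hx => cl_conj hV c1 hx
  have u2 : ∀ x ∈ UU V i v', g⁻¹ * x * g ∈ UU V i v := by
    intro x hx
    have := cl_conj (g := g⁻¹) (A := Vo V i) (A' := Vo V i) (C := cz v') (C' := cz v)
      (fun a ha => by have := hV' a ha; rwa [inv_inv]) (fun c hc => by have := c2 c hc; rwa [inv_inv]) hx
    rwa [inv_inv] at this
  intro L hL nL h2
  have hL' : L.map (MulAut.conj g⁻¹).toMonoidHom ≤ centralizer (UU V i v : Set G) := by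
    refine h _ ?_ ?_ ?_
    · rintro _ ⟨w, hw, rfl⟩
      change g⁻¹ * w * g⁻¹⁻¹ ∈ _
      rw [inv_inv]
      exact c2 w (hL hw)
    · apply norm_of
      rintro c hc _ ⟨w, hw, rfl⟩
      refine ⟨(g * c * g⁻¹) * w * (g * c * g⁻¹)⁻¹, conj_mem nL (c1 c hc) hw, ?_⟩
      change g⁻¹ * ((g * c * g⁻¹) * w * (g * c * g⁻¹)⁻¹) * g⁻¹⁻¹ = c * (g⁻¹ * w * g⁻¹⁻¹) * c⁻¹
      group
    · rintro _ ⟨w, hw, rfl⟩
      obtain ⟨n, hn⟩ := h2 w hw
      refine ⟨n, ?_⟩
      rw [← map_pow]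
      change g⁻¹ * w ^ 2 ^ n * g⁻¹⁻¹ ∈ _
      rw [mem_centralizer_iff]
      intro u hu
      have h3 := mem_centralizer_iff.1 hn _ (u1 u hu)
      generalize w ^ 2 ^ n = y at h3
      calc u * (g⁻¹ * y * g⁻¹⁻¹) = g⁻¹ * ((g * u * g⁻¹) * y) * g := by group
        _ = g⁻¹ * y * g⁻¹⁻¹ * u := by rw [h3]; group
  intro w hw
  rw [mem_centralizer_iff]
  intro u hu
  have h3 := mem_centralizer_iff.1 (hL' ⟨w, hw, rfl⟩) _ (u2 u hu)
  change (g⁻¹ * u * g) * (g⁻¹ * w * g⁻¹⁻¹) = g⁻¹ * w * g⁻¹⁻¹ * (g⁻¹ * u * g) at h3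
  calc u * w = g * ((g⁻¹ * u * g) * (g⁻¹ * w * g⁻¹⁻¹)) * g⁻¹ := by group
    _ = w * u := by rw [h3]; group

/-! ### The frame gives `Pts` -/

/-- the points of the frame -/
theorem Fr.pts [Finite G] {ι : Type} [Finite ι] [Nonempty ι] {S : Sylow 2 G} {V : ι → Subgroup G} (h : Fr (S : Subgroup G) V) :
    Red.Pts V where
  sq := h.sq
  cQ := by
    intro i p hp hp1 c hc
    refine h.c2 i p hp hp1 ⟨mem_cent.2 ?_, hc⟩
    exact (mem_centralizer_iff.1 hc p (h.VQ i i p hp hp1 hp)).symm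
  self := fun i p hp hp1 => h.VQ i i p hp hp1
  c2t := fun i j hij p hp hp1 x hx => mem_centralizer_iff.2 fun q hq => h.Qc i j hij.symm p hp hp1 q hq x hx
  mv := by
    intro i p hp hp1
    obtain ⟨b, hb, hb1, hpb⟩ := h.exists_other (i := i) p
    obtain ⟨g, hg, hgb⟩ := h.move hp hb hp1 hb1 hpb
    refine ⟨g, ⟨mem_cent.2 (mem_KK.1 hg).1, (mem_KK.1 hg).2⟩, h.KK_le_q hp hp1 hg, fun q hq hq1 hqp => ?_⟩
    rcases h.cases4 hp hb hp1 hb1 hpb hq with h1 | h1 | h1 | h1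
    · exact absurd h1 hq1
    · exact absurd h1 hqp
    · rw [h1]; exact hgb
    · have hgp : g * p * g⁻¹ = p := conj_of_comm (mem_KK.1 hg).1
      have e : g * (p * b) * g⁻¹ = (g * p * g⁻¹) * (g * b * g⁻¹) := by group
      rw [h1, e, hgp, hgb]
  tot := by
    intro t ht
    obtain ⟨i₀⟩ := ‹Nonempty ι›
    obtain ⟨a₀, ha₀, -, -, ha₀1, -, -⟩ := h.exists_two i₀
    let A : Subgroup G :=
      { carrier := {t | ∀ i, ∀ p ∈ V i, p ≠ 1 → t ∈ centralizer (ZN.o2 (centralizer ({p} : Set G)) : Set G)}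
        one_mem' := fun i p _ _ => one_mem _
        mul_mem' := fun ha hb i p hp hp1 => mul_mem (ha i p hp hp1) (hb i p hp hp1)
        inv_mem' := fun ha i p hp hp1 => inv_mem (ha i p hp hp1) }
    have hA : IsPGroup 2 A := by
      refine (o2_isPGroup (cz a₀)).to_le fun t ht => ?_
      have h1 := ht i₀ a₀ ha₀ ha₀1
      refine h.c2 i₀ a₀ ha₀ ha₀1 ⟨mem_cent.2 ?_, h1⟩
      exact (mem_centralizer_iff.1 h1 a₀ (h.VQ i₀ i₀ a₀ ha₀ ha₀1 ha₀)).symm
    have hSA : (S : Subgroup G) ≤ normalizer (A : Set G) := by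
      apply norm_of
      intro s hs t ht i p hp hp1
      obtain ⟨j, hj⟩ := h.perm s⁻¹ (inv_mem hs) i
      have h1 := (hj p).1 hp
      rw [inv_inv] at h1
      have h2 : s⁻¹ * p * s ≠ 1 := fun h0 => hp1 (by
        calc p = s * (s⁻¹ * p * s) * s⁻¹ := by group
          _ = 1 := by rw [h0]; group)
      have h3 := ht j _ h1 h2
      exact Red.Pts.conj_cent (by group) h3
    refine h.fix_bot hA hSA (x := t) ht fun i => ?_
    refine cent_of_XX fun v hv hv1 g hg => ?_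
    exact mem_centralizer_iff.1 (ht i v hv hv1) g (h.KK_le_q hv hv1 hg)

/-! ### (1) and (RED) -/

/-- the frame together with DATA (W) -/
structure Rd {S : Sylow 2 G} {Q : Subgroup G} {ι : Type} {Z : ι → Subgroup G} {x z : ι → G}
    (D : Dat S Q Z x z) (V : ι → Subgroup G) : Prop where
  fr : Fr (S : Subgroup G) V
  zV : ∀ l, z l ∈ V l
  xV : ∀ l, ∀ v ∈ V l, x l * v * (x l)⁻¹ ∈ V l
  VZ : ∀ l, V l ≤ Z l
  qS : ∀ l, qz (z l) ≤ S0 (S : Subgroup G) Z

namespace Rd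

section
variable {S : Sylow 2 G} {Q : Subgroup G} {ι : Type} {Z : ι → Subgroup G} {x z : ι → G}
variable [Finite G] [Finite ι] {D : Dat S Q Z x z} {V : ι → Subgroup G} (R : Rd D V)
include R

omit [Finite ι] in
theorem bne (l : ι) : x l * z l * (x l)⁻¹ ≠ 1 := fun h0 => D.z1 l (by
  calc z l = (x l)⁻¹ * (x l * z l * (x l)⁻¹) * x l := by group
    _ = 1 := by rw [h0]; group)

omit [Finite ι] in
theorem abne (l : ι) : z l ≠ x l * z l * (x l)⁻¹ := by
  intro h0
  have h1 := D.three l (z l) (D.zm l)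
  rw [← h0, ← h0] at h1
  have h2 := R.fr.sq l _ (R.zV l)
  rw [h2, one_mul] at h1
  exact D.z1 l h1

omit [Finite ι] in
/-- the third element -/
theorem third (l : ι) : x l * (x l * z l * (x l)⁻¹) * (x l)⁻¹ = z l * (x l * z l * (x l)⁻¹) := by
  have h1 := D.three l (z l) (D.zm l)
  have hb := R.xV l _ (R.zV l)
  have h2 := R.fr.sq l _ (mul_mem (R.zV l) hb)
  have h3 := eq_inv_of_mul_eq_one_right h1
  rw [h3]
  exact inv_eq_of_mul_eq_one_right h2

omit [Finite ι] in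
/-- `v ∈ V l`, `v ≠ 1`, is conjugate to `z l` under `⟨x l⟩` -/
theorem conj_z {l : ι} {v : G} (hv : v ∈ V l) (hv1 : v ≠ 1) :
    v = z l ∨ v = x l * z l * (x l)⁻¹ ∨ v = (x l * x l) * z l * (x l * x l)⁻¹ := by
  rcases R.fr.cases4 (R.zV l) (R.xV l _ (R.zV l)) (D.z1 l) (R.bne l) (R.abne l) hv with h | h | h | h
  · exact absurd h hv1
  · exact Or.inl h
  · exact Or.inr (Or.inl h)
  · right; right
    rw [h, ← R.third l]; group

omit [Finite ι] in
/-- **(1)** -/
theorem one {j : ι} [Finite ι] {i : ι} (hij : j ≠ i) {t : G} (ht : t ∈ zc (S0 (S : Subgroup G) Z)) (htZ : t ∈ Z i) :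
    t = 1 ∨ t = z i := by
  have : Nonempty ι := ⟨i⟩
  have hS0 := (D.mem_E.1 ht).2
  have htz : ∀ l, t ∈ centralizer (ZN.o2 (centralizer ({z l} : Set G)) : Set G) := fun l =>
    mem_centralizer_iff.2 fun q hq => hS0 q (R.qS l hq)
  have hc : ∀ l, l ≠ i → ∀ r ∈ V l, r ≠ 1 → t ∈ centralizer (ZN.o2 (centralizer ({r} : Set G)) : Set G) := by
    intro l hl r hr hr1
    have hx : x l * t * (x l)⁻¹ = t := D.triv l i hl t htZ
    have hxx : (x l * x l) * t * (x l * x l)⁻¹ = t := by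
      calc (x l * x l) * t * (x l * x l)⁻¹ = x l * (x l * t * (x l)⁻¹) * (x l)⁻¹ := by group
        _ = t := by rw [hx, hx]
    rcases R.conj_z hr hr1 with h | h | h
    · rw [h]; exact htz l
    · have h1 := Red.Pts.conj_cent h.symm (htz l)
      rwa [hx] at h1
    · have h1 := Red.Pts.conj_cent h.symm (htz l)
      rwa [hxx] at h1
  have hzi := R.zV i
  have hbi := R.xV i _ hzi
  refine R.fr.pts.eq_of hij (R.zV j) (D.z1 j) hbi (R.bne i) hzi (D.z1 i) (R.abne i) ?_ hc (htz i)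
  intro v hv
  exact R.fr.cases4 hbi hzi (R.bne i) (D.z1 i) (R.abne i).symm hv

/-- an element centralising all `z l` centralises `E = Ω₁Z(S⁰)` -/
theorem cent_E (hι : ∀ i : ι, ∃ j, j ≠ i) {f : G} (hf : ∀ l, f * z l = z l * f) :
    f ∈ centralizer (zc (S0 (S : Subgroup G) Z) : Set G) := by
  have := Fintype.ofFinite ι
  rw [mem_centralizer_iff]
  intro v hv
  have h1 := D.pX_sum (hX := D.E_le) (h := D.pr_E) (Md.mk v hv)
  have h2 : v = (∑ l, D.pX D.E_le D.pr_E l (Md.mk v hv)).val := by rw [h1]; rfl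
  have h3 : (∑ l, D.pX D.E_le D.pr_E l (Md.mk v hv)).val ∈ centralizer ({f} : Set G) := by
    refine Dat.sum_mem _ _ fun l _ => ?_
    obtain ⟨j, hj⟩ := hι l
    rw [mem_cent]
    rcases R.one hj (Md.val_mem (D.pX D.E_le D.pr_E l (Md.mk v hv))) (D.pX_mem l _) with h | h
    · rw [h, one_mul, mul_one]
    · rw [h]; exact (hf l).symm
  rw [← h2, mem_cent] at h3
  exact h3

/-- **(RED)** at `z o` -/
theorem red_z (hι : ∀ i : ι, ∃ j, j ≠ i) (o : ι) : RedAt V o (z o) := by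
  intro L hL nL h2
  set F : Subgroup G := cz (z o) ⊓ centralizer (UU V o (z o) : Set G) with hF
  have nF : cz (z o) ≤ normalizer (F : Set G) := by
    apply norm_of
    rintro c hc f ⟨hf1, hf2⟩
    refine mem_inf.2 ⟨mul_mem (mul_mem hc hf1) (inv_mem hc), mem_centralizer_iff.2 fun n hn => ?_⟩
    have hn' : c⁻¹ * n * c ∈ UU V o (z o) := by
      have := conj_mem cz_norm_UU (inv_mem hc) hn
      rwa [inv_inv] at this
    have h1 := mem_centralizer_iff.1 hf2 _ hn'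
    calc n * (c * f * c⁻¹) = c * ((c⁻¹ * n * c) * f) * c⁻¹ := by group
      _ = c * f * c⁻¹ * n := by rw [h1]; group
  have hzU : ∀ l, ∀ f ∈ F, f * z l = z l * f := by
    intro l f hf
    rcases eq_or_ne l o with rfl | hl
    · exact mem_cent.1 hf.1
    · exact (mem_centralizer_iff.1 hf.2 _ (V_le_UU hl (R.zV l))).symm
  have hFn : Red.Fn (S : Subgroup G) Z z o (L ⊔ F) F :=
    { LC := sup_le hL inf_le_left
      nL := by
        apply norm_of
        intro c hc y hy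
        have key : L ⊔ F ≤ (L ⊔ F).comap (MulAut.conj c).toMonoidHom :=
          sup_le (fun w hw => le_sup_left (α := Subgroup G) (conj_mem nL hc hw))
            (fun w hw => le_sup_right (α := Subgroup G) (conj_mem nF hc hw))
        exact key hy
      nF := nF
      FL := le_sup_right
      two := by
        intro y hy
        have h3 : y ∈ (L : Set G) * (F : Set G) := by
          rw [← coe_mul_of_left_le_normalizer_right L F (hL.trans nF)]
          exact hy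
        obtain ⟨w, hw, f, hf, rfl⟩ := Set.mem_mul.1 h3
        obtain ⟨n, hn⟩ := h2 w hw
        obtain ⟨f', hf', e⟩ := Red.pow_mul_mem ((hL.trans nF) hw) hf (2 ^ n)
        refine ⟨n, ?_⟩
        rw [e]
        exact mul_mem (mem_inf.2 ⟨pow_mem (hL hw) _, hn⟩) hf'
      FE := fun f hf => R.cent_E hι fun l => hzU l f hf }
  have hLE := Red.L_le_E D hFn
  have hLV : ∀ l, l ≠ o → ∀ w ∈ L ⊔ F, ∀ v ∈ V l, w * v = v * w := by
    intro l hl w hw v hv
    have hz : w * z l = z l * w := (mem_centralizer_iff.1 (hLE hw) _ (D.z_mem_E l)).symm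
    have hb : w * (x l * z l * (x l)⁻¹) = x l * z l * (x l)⁻¹ * w :=
      Red.L_comm D hFn hl (D.z_mem_E l) (fun f hf =>
        (mem_centralizer_iff.1 hf.2 _ (V_le_UU hl (R.xV l _ (R.zV l)))).symm) hw
    rcases R.fr.cases4 (R.zV l) (R.xV l _ (R.zV l)) (D.z1 l) (R.bne l) (R.abne l) hv with h | h | h | h
    · rw [h, mul_one, one_mul]
    · rw [h]; exact hz
    · rw [h]; exact hb
    · rw [h, ← mul_assoc, hz, mul_assoc, hb]; group
  have hLVo : ∀ w ∈ L ⊔ F, ∀ v ∈ Vo V o, w * v = v * w := by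
    intro w hw v hv
    refine cent_of_closure ?_ hv
    rintro y ⟨l, hl, hy⟩
    exact hLV l hl w hw y hy
  intro w hw
  rw [mem_centralizer_iff]
  intro u hu
  refine (cent_of_cl ?_ hu).symm
  intro c hc a ha
  have hw' : c⁻¹ * w * c ∈ L ⊔ F := by
    have := conj_mem nL (inv_mem hc) hw
    rw [inv_inv] at this
    exact le_sup_left (α := Subgroup G) this
  have h3 := hLVo _ hw' a ha
  calc w * (c * a * c⁻¹) = c * ((c⁻¹ * w * c) * a) * c⁻¹ := by group
    _ = c * a * c⁻¹ * w := by rw [h3]; group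

omit [Finite ι] [Finite G] in
theorem x_Vo {l : ι} : ∀ a ∈ Vo V l, x l * a * (x l)⁻¹ = a := by
  intro a ha
  refine conj_of_comm (cent_of_closure ?_ ha)
  rintro y ⟨j, hj, hy⟩
  exact comm_of_conj (D.triv l j hj.symm y (R.VZ j hy))

/-- **(RED).** -/
theorem red (hι : ∀ i : ι, ∃ j, j ≠ i) {i : ι} {v : G} (hv : v ∈ V i) (hv1 : v ≠ 1) : RedAt V i v := by
  have h0 := R.red_z hι i
  have hx := R.x_Vo (l := i)
  have hx' : ∀ a ∈ Vo V i, (x i)⁻¹ * a * x i = a := by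
    intro a ha
    calc (x i)⁻¹ * a * x i = (x i)⁻¹ * (x i * a * (x i)⁻¹) * x i := by rw [hx a ha]
      _ = a := by group
  rcases R.conj_z hv hv1 with h | h | h
  · rw [h]; exact h0
  · exact h0.conj h.symm (fun a ha => by rw [hx a ha]; exact ha) (fun a ha => by rw [hx' a ha]; exact ha)
  · refine h0.conj h.symm (fun a ha => ?_) (fun a ha => ?_)
    · have e : (x i * x i) * a * (x i * x i)⁻¹ = x i * (x i * a * (x i)⁻¹) * (x i)⁻¹ := by group
      rw [e, hx a ha, hx a ha]; exact ha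
    · have e : (x i * x i)⁻¹ * a * (x i * x i) = (x i)⁻¹ * ((x i)⁻¹ * a * x i) * x i := by group
      rw [e, hx' a ha, hx' a ha]; exact ha

end

end Rd

end Cfsg.Agent.Omega.IId.Big

end

section


/-!
# LEMMA E over `T` for WrBig, `q = 2`, CASE 1 (bb OMEGA 17249 (ET), 18842 (b))

* `le_T'` : LEMMA E over `T`, the good group `A` may depend on the central involution `e` of `T`;
* `Rd.exists_le` : `e ∈ Ω₁Z(S⁰)`, `e ≠ 1, z_i`: every subgroup containing `e` which is normalised by `C(z_i)` contains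
  some `V_l`, `l ≠ i`;
* `Rd.le_E` : LEMMA E over `T ≥ S⁰` for the block `i`.
-/

set_option autoImplicit false
set_option linter.unusedSectionVars false

namespace Cfsg.Agent.Omega.IId.Big.Syl

open Subgroup Cfsg.Agent.Omega.BTwo Cfsg.Agent.Omega.HTwo Cfsg.Agent.Omega.HTwo.Par
  Cfsg.Agent.Omega.HTwo.ThmA Cfsg.Agent.Omega.HT.LemE

universe u

section

variable {G : Type*} [Group G] {ι : Type*} {V : Subgroup G} {R : ι → Subgroup G}

/-- **LEMMA E over `T`**, the group `A` depends on `e` -/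
theorem le_T' [Finite G] (b : BTS V R) {i : ι} {r : G} (hr : ∀ x ∈ R i, x = 1 ∨ x = r) (hri : r ∈ R i)
    {T : Subgroup G} (hT : IsPGroup 2 T) (hTV : T ≤ normalizer (V : Set G))
    (hTR : T ≤ normalizer (R i : Set G)) (hodd : ¬ 2 ∣ T.relIndex (normalizer (R i : Set G)))
    (hnc : ∃ k ∈ normalizer (R i : Set G), ∃ v ∈ V, ∃ w ∈ cj k V, v * w ≠ w * v)
    (hdec : ∀ e ∈ T, e ≠ 1 → e * e = 1 → (∀ t ∈ T, e * t = t * e) → e ∈ CenX V R →
      (Good r e ∧ Good r (r * e)) ∨ ∃ A : Subgroup G, (∃ y ∈ A, ∃ y' ∈ A, y ≠ 1 ∧ y' ≠ 1 ∧ y * y' ≠ 1) ∧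
        A ≤ CenX V R ∧ (∀ y ∈ A, y ≠ 1 → Good r y) ∧
        ∀ Λ : Subgroup G, normalizer (R i : Set G) ≤ normalizer (Λ : Set G) → e ∈ Λ → A ≤ Λ) (j : ι) :
    LE V R j := by
  refine le_all b.toBT (i := i) (fun Λ hΛ hN => ?_) j
  by_contra hΛR
  set K := normalizer (R i : Set G) with hK
  have hr1 : r ≠ 1 := by
    rintro rfl
    refine b.R_ne i ((eq_bot_iff_forall _).2 fun x hx => ?_)
    rcases hr x hx with h | h <;> exact h
  have hrr : r * r = 1 := b.V_sq r (b.R_le i hri)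
  have hKr : ∀ k ∈ K, k * r = r * k := by
    intro k hk
    have h1 := conj_mem_of_normalizer hk hri
    rcases hr _ h1 with h | h
    · exfalso
      apply hr1
      have := congrArg (fun y => k⁻¹ * y * k) h
      simp only [mul_one, inv_mul_cancel] at this
      rw [← this]; group
    · rw [mul_inv_eq_iff_eq_mul] at h
      exact h
  -- `E = R i Λ`
  set E := R i ⊔ Λ with hE
  have hKE : K ≤ normalizer (E : Set G) := by
    intro k hk
    rw [← cj_eq_self_iff, hE, cj_sup, cj_eq_self_iff.2 hk, cj_eq_self_iff.2 (hN hk)]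
  have hEm : ∀ l ∈ E, ∃ a ∈ R i, a * l ∈ CenX V R := by
    intro l hl
    have h1 : E ≤ RC b.toBT i := by
      refine sup_le (fun a ha => ⟨a⁻¹, inv_mem ha, ?_⟩) hΛ
      rw [inv_mul_cancel]
      exact one_mem _
    exact h1 hl
  -- elements of `E` modulo `X^k`
  have hEk : ∀ k ∈ K, ∀ e ∈ E, e ∈ centralizer (cj k (BTwo.XX V R) : Set G) ∨
      r * e ∈ centralizer (cj k (BTwo.XX V R) : Set G) := by
    intro k hk e he
    have h1 : k⁻¹ * e * k ∈ E := conj_inv_mem_of_normalizer (hKE hk) he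
    obtain ⟨a, ha, h2⟩ := hEm _ h1
    rw [centralizer_cj, mem_cj, mem_cj]
    rcases hr a ha with rfl | rfl
    · rw [one_mul] at h2
      exact Or.inl h2
    · right
      have h3 : k⁻¹ * (a * e) * k = a * (k⁻¹ * e * k) := by
        have h4 : k⁻¹ * a = a * k⁻¹ := by
          rw [inv_mul_eq_iff_eq_mul, ← mul_assoc, hKr k hk, mul_inv_cancel_right]
        calc k⁻¹ * (a * e) * k = (k⁻¹ * a) * e * k := by group
          _ = _ := by rw [h4]; group
      rw [h3]; exact h2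
  have hE0 : E ⊓ CenX V R ≠ ⊥ := by
    intro h
    apply hΛR
    intro x hx
    obtain ⟨a, ha, hm⟩ := hΛ x hx
    have h1 : a * x ∈ E ⊓ CenX V R :=
      ⟨mul_mem ((le_sup_left : R i ≤ E) ha) ((le_sup_right : Λ ≤ E) hx), hm⟩
    rw [h, mem_bot, mul_eq_one_iff_eq_inv] at h1
    have h2 : x = a⁻¹ := by rw [h1, inv_inv]
    rw [h2]; exact inv_mem ha
  have hTE : T ≤ normalizer ((E ⊓ CenX V R : Subgroup G) : Set G) := by
    intro s hs
    have h1 := b.NV_le_NCenX (hTV hs)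
    rw [← cj_eq_self_iff, cj_inf, cj_eq_self_iff.2 (hKE (hTR hs)), cj_eq_self_iff.2 h1]
  have hE2 : IsPGroup 2 (E ⊓ CenX V R : Subgroup G) := b.CenX_isPGroup.to_le inf_le_right
  have hEK : E ⊓ CenX V R ≤ K := by
    refine inf_le_right.trans ?_
    refine (b.CenX_le_cen.trans (centralizer_le (b.R_le i))).trans (centralizer_le_normalizer _)
  have hET := HT.LemE.le_of_odd hT hTR hodd hE2 hEK hTE
  obtain ⟨e, he, he1, hee, heT⟩ := HT.LemE.exists_inv hT hE0 hET hTE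
  have ab : ∀ f : G, ∀ a ∈ O2 (centralizer ({f} : Set G)) ⊓
      centralizer (O2 (centralizer ({f} : Set G)) : Set G),
      ∀ c ∈ O2 (centralizer ({f} : Set G)) ⊓ centralizer (O2 (centralizer ({f} : Set G)) : Set G),
      a * c = c * a := fun f a ha c hc => mem_centralizer_iff.1 hc.2 a ha.1
  obtain ⟨k0, hk0, v0, hv0, w0, hw0, hne⟩ := hnc
  rcases hdec e (hET he) he1 hee heT he.2 with ⟨g1, g2⟩ | ⟨A, hA3, hAX, hAg, hA⟩
  · refine hne (commute_of_bipartite hTV hodd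
      (fun L => ∀ k ∈ K, cj k V = L → e ∈ centralizer (cj k (BTwo.XX V R) : Set G)) ?_ ?_ k0 hk0 v0 hv0 w0 hw0)
    · intro k hk l hl h1 h2 a ha c hc'
      exact ab e a (HT.LemE.cj_le b.toBT hr g1 (hKr k hk) (h1 k hk rfl) ha) c
        (HT.LemE.cj_le b.toBT hr g1 (hKr l hl) (h2 l hl rfl) hc')
    · have key : ∀ k ∈ K, ¬ (∀ k' ∈ K, cj k' V = cj k V → e ∈ centralizer (cj k' (BTwo.XX V R) : Set G)) →
          ∃ k' ∈ K, cj k' V = cj k V ∧ r * e ∈ centralizer (cj k' (BTwo.XX V R) : Set G) := by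
        intro k hk h
        push Not at h
        obtain ⟨k', hk', e1, hne⟩ := h
        exact ⟨k', hk', e1, (hEk k' hk' e he.1).resolve_left hne⟩
      intro k hk l hl h1 h2 a ha c hc'
      obtain ⟨k', hk', e1, h3⟩ := key k hk h1
      obtain ⟨l', hl', e2, h4⟩ := key l hl h2
      rw [← e1] at ha
      rw [← e2] at hc'
      exact ab (r * e) a (HT.LemE.cj_le b.toBT hr g2 (hKr k' hk') h3 ha) c
        (HT.LemE.cj_le b.toBT hr g2 (hKr l' hl') h4 hc')
  · -- `A ≤ E`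
    have hAE : A ≤ E := hA E hKE he.1
    obtain ⟨y, hy, y', hy', y1, y1', y1''⟩ := hA3
    have hfin : ∀ z ∈ A, z ≠ 1 → z ∈ centralizer (cj k0 (BTwo.XX V R) : Set G) → False := by
      intro z hz hz1 hzk
      have g1 := hAg z hz hz1
      have h1 := HT.LemE.cj_le b.toBT hr g1 (hKr k0 hk0) hzk hw0
      have h2 : z ∈ centralizer (cj 1 (BTwo.XX V R) : Set G) := by
        rw [cj_one]; exact hAX hz
      have h3 := HT.LemE.cj_le b.toBT hr g1 (by rw [one_mul, mul_one]) h2 (by rw [cj_one]; exact hv0)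
      exact hne (ab z _ h3 _ h1)
    rcases hEk k0 hk0 y (hAE hy) with h | h
    · exact hfin y hy y1 h
    rcases hEk k0 hk0 y' (hAE hy') with h' | h'
    · exact hfin y' hy' y1' h'
    refine hfin (y * y') (mul_mem hy hy') y1'' ?_
    -- `(r y)(r y') = y y'`
    have hry : r * y = y * r := mem_centralizer_iff.1 (b.CenX_le_cen (hAX hy)) r (b.R_le i hri)
    have e1 : r * y * (r * y') = y * y' := by
      calc r * y * (r * y') = (r * y) * r * y' := by group
        _ = y * (r * r) * y' := by rw [hry]; group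
        _ = y * y' := by rw [hrr, mul_one]
    rw [← e1]
    exact mul_mem h h'

end

end Cfsg.Agent.Omega.IId.Big.Syl

namespace Cfsg.Agent.Omega.IId.Big.Rd

open scoped Pointwise
open Subgroup Cfsg
open Cfsg.Agent.ZN (o2 zc)
open Cfsg.Agent.MinSimple.VModule (le_o2 le_normalizer_o2 mem_zc o2_isPGroup o2_le)
open Triangle (KK KK_conj KK_le_o2 mem_cent mem_KK mem_zpowers_iff_of_sq cent_conj o2_cent_conj)
open Cfsg.Agent.Omega.ThmC

universe u

variable {G : Type u} [Group G]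

variable {S : Sylow 2 G} {Q : Subgroup G} {ι : Type} {Z : ι → Subgroup G} {x z : ι → G}
variable [Finite G] [Finite ι] {D : Dat S Q Z x z} {V : ι → Subgroup G} (R : Rd D V)
include R

/-- a factor of an element of `Ω₁Z(S⁰)` -/
theorem exists_comp (hι : ∀ i : ι, ∃ j, j ≠ i) {i : ι} {e : G} (he : e ∈ zc (S0 (S : Subgroup G) Z)) (he1 : e ≠ 1)
    (hei : e ≠ z i) : ∃ l, l ≠ i ∧ ∃ e' ∈ Vo V l, e = z l * e' := by
  classical
  have := Fintype.ofFinite ι
  set c : ι → Md (S0 (S : Subgroup G) Z) := fun l => D.pX D.E_le D.pr_E l (Md.mk e he) with hc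
  have hsum : ∑ l, c l = Md.mk e he := D.pX_sum (hX := D.E_le) (h := D.pr_E) (Md.mk e he)
  have hcases : ∀ l, (c l).val = 1 ∨ (c l).val = z l := by
    intro l
    obtain ⟨j, hj⟩ := hι l
    exact R.one hj (Md.val_mem _) (D.pX_mem l _)
  have key : ∃ l, l ≠ i ∧ (c l).val = z l := by
    by_contra hcon
    push Not at hcon
    have h0 : ∀ l, l ≠ i → c l = 0 := fun l hl => Md.val_eq_one.1 ((hcases l).resolve_right (hcon l hl))
    have h1 : c i = Md.mk e he := by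
      rw [← hsum]
      exact (Finset.sum_eq_single i (fun l _ hl => h0 l hl) (fun h => absurd (Finset.mem_univ i) h)).symm
    have h2 : (c i).val = e := by rw [h1]; rfl
    rcases hcases i with h | h
    · exact he1 (h2.symm.trans h)
    · exact hei (h2.symm.trans h)
  obtain ⟨l, hl, hcl⟩ := key
  refine ⟨l, hl, (∑ m ∈ Finset.univ.erase l, c m).val, ?_, ?_⟩
  · refine Dat.sum_mem _ _ fun m hm => ?_
    have hml : m ≠ l := Finset.ne_of_mem_erase hm
    rcases hcases m with h | h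
    · rw [h]; exact one_mem _
    · rw [h]; exact le_Vo hml (R.zV m)
  · rw [← hcl, ← Md.val_add, Finset.add_sum_erase _ _ (Finset.mem_univ l), hsum]
    rfl

/-- **(1) for `C(z_i)`-invariant subgroups** -/
theorem exists_le (hι : ∀ i : ι, ∃ j, j ≠ i) {i : ι} {e : G} (he : e ∈ zc (S0 (S : Subgroup G) Z)) (he1 : e ≠ 1)
    (hei : e ≠ z i) : ∃ l, l ≠ i ∧ ∀ Λ : Subgroup G, cz (z i) ≤ normalizer (Λ : Set G) → e ∈ Λ → V l ≤ Λ := by
  obtain ⟨l, hl, e', he', hee⟩ := R.exists_comp hι he he1 hei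
  refine ⟨l, hl, fun Λ hΛ heΛ => ?_⟩
  -- the two other elements of `V l`
  have hother : ∀ b ∈ V l, b ≠ 1 → b ≠ z l → b ∈ Λ := by
    intro b hb hb1 hbz
    obtain ⟨g, hg, hgz⟩ := R.fr.move hb (R.zV l) hb1 (D.z1 l) hbz
    have hgi : g ∈ cz (z i) := R.fr.KK_le (Ne.symm hl) hb hb1 (R.zV i) hg
    have hge' : g * e' * g⁻¹ = e' := conj_of_comm (R.fr.Vo_cent hb hb1 he' (R.fr.KK_le_q hb hb1 hg))
    have h1 : g * e * g⁻¹ = b * e := by
      rw [hee]
      calc g * (z l * e') * g⁻¹ = (g * z l * g⁻¹) * (g * e' * g⁻¹) := by group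
        _ = b * (z l * e') := by rw [hgz, hge']; group
    have h2 : b = g * e * g⁻¹ * e⁻¹ := by rw [h1]; group
    rw [h2]
    exact mul_mem (conj_mem hΛ hgi heΛ) (inv_mem heΛ)
  have hb := R.xV l _ (R.zV l)
  have h1 := hother _ hb (R.bne l) (R.abne l).symm
  have h2 : z l * (x l * z l * (x l)⁻¹) ∈ Λ := by
    refine hother _ (mul_mem (R.zV l) hb) (fun h => ?_) (fun h => R.bne l (mul_eq_left.1 h))
    have h3 := R.fr.sq l _ (R.zV l)
    have h4 : x l * z l * (x l)⁻¹ = z l := by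
      calc x l * z l * (x l)⁻¹ = (z l * z l) * (x l * z l * (x l)⁻¹) := by rw [h3, one_mul]
        _ = z l * (z l * (x l * z l * (x l)⁻¹)) := mul_assoc _ _ _
        _ = z l := by rw [h, mul_one]
    exact R.abne l h4.symm
  have h3 : z l ∈ Λ := by
    have := mul_mem h2 (inv_mem h1)
    rwa [mul_inv_cancel_right] at this
  intro v hv
  rcases R.fr.cases4 (R.zV l) hb (D.z1 l) (R.bne l) (R.abne l) hv with h | h | h | h
  · rw [h]; exact one_mem _
  · rw [h]; exact h3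
  · rw [h]; exact h1
  · rw [h]; exact h2

/-- central involutions of `T ≥ S⁰` -/
theorem mem_E_of {T : Subgroup G} (hT : S0 (S : Subgroup G) Z ≤ T) {e : G} (hee : e * e = 1)
    (heT : ∀ t ∈ T, e * t = t * e) : e ∈ zc (S0 (S : Subgroup G) Z) := by
  have h1 : e ∈ Q := D.CQ (mem_centralizer_iff.2 fun q hq => (heT q (hT (D.Q_le_S0 hq))).symm)
  rw [D.mem_E]
  refine ⟨mem_zc.2 ⟨h1, fun q hq => (heT q (hT (D.Q_le_S0 hq))).symm, by rw [pow_two]; exact hee⟩,
    fun s hs => (heT s (hT hs)).symm⟩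

/-- `r ∈ Z(O₂(C(y)))` for `r ∈ V i`, `1 ≠ y ∈ V l`, `l ≠ i` -/
theorem good {i l : ι} (hl : l ≠ i) {r y : G} (hr : r ∈ V i) (hy : y ∈ V l) (hy1 : y ≠ 1) :
    HT.LemE.Good r y :=
  ⟨R.fr.VQ l i y hy hy1 hr, mem_centralizer_iff.2 fun q hq => R.fr.Qc l i hl.symm y hy hy1 q hq r hr⟩

/-- **LEMMA E over `T` for the block `i`** -/
theorem le_E (hι : ∀ i : ι, ∃ j, j ≠ i) {i : ι} {κ : Type*} {Rp : κ → Subgroup G} (b : BTwo.BTS (V i) Rp) {o : κ}
    (ho : ∀ y, y ∈ Rp o ↔ y = 1 ∨ y = z i) (hX : ∀ l, l ≠ i → V l ≤ BTwo.CenX (V i) Rp)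
    {T : Subgroup G} (hT : IsPGroup 2 T) (hST : S0 (S : Subgroup G) Z ≤ T) (hTV : T ≤ normalizer (V i : Set G))
    (hTR : T ≤ normalizer (Rp o : Set G)) (hodd : ¬ 2 ∣ T.relIndex (normalizer (Rp o : Set G)))
    (hnc : ∃ k ∈ normalizer (Rp o : Set G), ∃ v ∈ V i, ∃ w ∈ BTwo.cj k (V i), v * w ≠ w * v) (j : κ) :
    HTwo.ThmA.LE (V i) Rp j := by
  have hzo : z i ∈ Rp o := (ho _).2 (Or.inr rfl)
  refine Syl.le_T' b (i := o) (r := z i) (fun y hy => (ho y).1 hy) hzo hT hTV hTR hodd hnc ?_ j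
  intro e heT he1 hee hcomm heX
  right
  have heE := R.mem_E_of hST hee hcomm
  have hei : e ≠ z i := by
    intro h0
    -- `z i ∈ C_X`: impossible
    rw [h0] at heX
    obtain ⟨k, hk, -⟩ := b.third o o
    obtain ⟨y, hy, e1⟩ := b.trans_X_one o k
    have h1 : y * z i * y⁻¹ = z i := conj_of_comm (mem_centralizer_iff.1 heX y hy)
    have h2 : z i ∈ Rp k := by
      rw [← e1, ← h1]
      exact ⟨z i, hzo, rfl⟩
    exact D.z1 i (b.eq_one hk h2 hzo)
  obtain ⟨l, hl, hΛ⟩ := R.exists_le hι heE he1 hei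
  have hb := R.xV l _ (R.zV l)
  refine ⟨V l, ⟨z l, R.zV l, x l * z l * (x l)⁻¹, hb, D.z1 l, R.bne l, fun h => ?_⟩, hX l hl,
    fun y hy hy1 => R.good hl (R.zV i) hy hy1, fun Λ h1 h2 => hΛ Λ (le_trans ?_ h1) h2⟩
  · have h3 := R.fr.sq l _ (R.zV l)
    apply R.abne l
    calc z l = z l * (z l * (x l * z l * (x l)⁻¹)) := by rw [h, mul_one]
      _ = (z l * z l) * (x l * z l * (x l)⁻¹) := by group
      _ = x l * z l * (x l)⁻¹ := by rw [h3, one_mul]
  · intro g hg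
    refine IITwo.Count.mem_norm fun y hy => ?_
    rcases (ho y).1 hy with h | h
    · rw [h, mul_one, mul_inv_cancel]
      exact one_mem _
    · rw [h, conj_of_comm (mem_cent.1 hg)]
      exact hzo

end Cfsg.Agent.Omega.IId.Big.Rd

end
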