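import Cfsg.Agent.Mrg.Omega.IId.Big.Of
import Cfsg.Agent.Mrg.Omega.IId.Big.RedFr

section


/-!
# (1) and (RED) of bb OMEGA 17245 for the natural factors

`M : NatK F S P (zl S P) ⊥ k`, `|F| = 2`, `CC M` (THEOREM C), some `KK v₀` moves the factor of `v₀`, `k ≥ 2`.

* `exists_rd` : the data `Rd D (fac M)`;
* `red_of` : **(RED)** : `C(v)/C_{C(v)}(U_v)` has no nontrivial normal 2-subgroup, `1 ≠ v ∈ fac M i`.
-/

set_option autoImplicit false
set_option linter.unusedSectionVars false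

namespace Cfsg.Agent.Omega.IId.Big

open Subgroup Pointwise Cfsg Cfsg.Agent.ZN Cfsg.Agent.ZN.ChoiceBase
open Cfsg.Agent.MinSimple.VModule hiding le_normalizer_zl
open Cfsg.Agent.Omega.MinPar Cfsg.Agent.Omega.FFThm Cfsg.Agent.Omega.FrameMulti
open Triangle (KK KK_conj KK_le_o2 mem_cent mem_KK mem_zpowers_iff_of_sq cent_conj o2_cent_conj)
open Supply
open Cfsg.Agent.Omega.ThmC (Dat S0)
open Cfsg.Agent.Omega.ThmC.TwoOf (exists_blk centralizer_o2_le)
open Cfsg.Agent.Omega.IITwo.Three (Blk)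

universe u

variable {G : Type u} [Group G] [Finite G] {F : Type} [Field F] [Finite F] [CharP F 2] {S : Sylow 2 G}
  {P : Subgroup G} {k : ℕ} {M : NatK F (S : Subgroup G) P (zl (S : Subgroup G) P) ⊥ k}

/-- `B.zl i ∈ line M i` -/
theorem zl_mem_line (hP : IsParS (S : Subgroup G) P) {x : Fin k → G} {z : G}
    (B : Blk (S : Subgroup G) P (ZN.o2 P) (fac M) x z) (i : Fin k) : B.zl i ∈ line M i := by
  rw [mem_line]
  refine ⟨B.zl_mem_V i, ?_⟩
  obtain ⟨t, ht, h2⟩ := M.unip fun _ => 1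
  have htn : t ∈ normalizer (fac M i : Set G) :=
    grp_normalizes M Set.univ {i} ⟨hP.le ht, _, h2, fun j hj => (hj (Set.mem_univ j)).elim⟩
  have h3 : t * B.zl i * t⁻¹ = B.zl i := by rw [B.zl_cent ht htn]; group
  have h4 := h2.1 _ (B.zl_mem_V i).1 i
  rw [h3] at h4
  have h5 := congrFun h4 0
  rw [NatPair.ap_zero'] at h5
  simpa using h5

/-- **The data.** -/
theorem exists_rd (hc : IsCharacteristicTwoType G) (hP : IsParS (S : Subgroup G) P) (hC : CC M)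
    (hF : Nat.card F = 2) (hZ : zc (S : Subgroup G) ≤ zl (S : Subgroup G) P) {i₀ : Fin k} {v₀ : G}
    (hv₀ : v₀ ∈ fac M i₀) (hv₀1 : v₀ ≠ 1)
    (hmv : ∃ x ∈ fac M i₀, ∃ g ∈ KK v₀, g * x ≠ x * g) :
    ∃ (Z : Fin k → Subgroup G) (x z : Fin k → G) (D : Dat S (ZN.o2 P) Z x z), Rd D (fac M) ∧
      ∀ l, z l ∈ line M l := by
  obtain ⟨x, z, B, hx⟩ := exists_blk hF hc hP M i₀.pos
  have hSyl := MinSimple.Basic.not_dvd_relIndex S hP.le
  have hcP := IsLoc.char2 S hc hP.isLoc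
  have hVA : zl (S : Subgroup G) P ≤ zc (ZN.o2 P) := zl_le_zc hP.le S.isPGroup' hSyl hcP
  have hSC : (S : Subgroup G) ⊓ centralizer (zc (ZN.o2 P) : Set G) ≤ ZN.o2 P :=
    (inf_le_inf_left _ (centralizer_le hVA)).trans
      (inf_centralizer_zl hP.toIsMinPar S.isPGroup' hSyl hcP hP.not_zc).le
  refine ⟨B.ML, x, B.zl, B.dat hSC (centralizer_o2_le hc S hP), ?_, zl_mem_line hP B⟩
  refine
    { fr := fr_of hc hP hC hF hZ hv₀ hv₀1 hmv
      zV := B.zl_mem_V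
      xV := fun l v hv => (mem_normalizer_iff.1 (B.xn l) v).1 hv
      VZ := B.V_le_ML
      qS := ?_ }
  intro l q hq
  obtain ⟨h1, h2⟩ := o2_le_stab hP hC hF (zl_mem_line hP B l) (B.zl_ne_one l)
  have hqS : q ∈ (S : Subgroup G) := (h1.trans (stab_le M l)) hq
  rw [ThmC.mem_S0]
  refine ⟨hqS, fun m => IITwo.Count.mem_norm fun v hv => ?_⟩
  exact B.conj_ML (B.SP hqS) (Blk.map_of_mem_norm (h2 m hq)) hv

/-- **(RED).** -/
theorem red_of (hc : IsCharacteristicTwoType G) (hP : IsParS (S : Subgroup G) P) (hC : CC M)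
    (hF : Nat.card F = 2) (hZ : zc (S : Subgroup G) ≤ zl (S : Subgroup G) P) {i₀ : Fin k} {v₀ : G}
    (hv₀ : v₀ ∈ fac M i₀) (hv₀1 : v₀ ≠ 1)
    (hmv : ∃ x ∈ fac M i₀, ∃ g ∈ KK v₀, g * x ≠ x * g) (hk : 2 ≤ k) {i : Fin k} {v : G} (hv : v ∈ fac M i)
    (hv1 : v ≠ 1) : RedAt (fac M) i v := by
  obtain ⟨Z, x, z, D, R, -⟩ := exists_rd hc hP hC hF hZ hv₀ hv₀1 hmv
  have hι : ∀ i : Fin k, ∃ j, j ≠ i := by
    have : Nontrivial (Fin k) := Fin.nontrivial_iff_two_le.2 hk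
    exact fun i => exists_ne i
  exact R.red hι hv hv1

end Cfsg.Agent.Omega.IId.Big

end

section


/-!
# LEMMA E over `T = stab M i` for the natural factors (WrBig, `q = 2`, CASE 1; bb OMEGA 18842 (b))

* `exists_rd_of_fr` : the data `Rd D (fac M)` from the frame;
* `hLE`.
-/

set_option autoImplicit false
set_option linter.unusedSectionVars false

namespace Cfsg.Agent.Omega.IId.Big

open Subgroup Pointwise Cfsg Cfsg.Agent.ZN Cfsg.Agent.ZN.ChoiceBase
open Cfsg.Agent.MinSimple.VModule hiding le_normalizer_zl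
open Cfsg.Agent.Omega.MinPar Cfsg.Agent.Omega.FFThm Cfsg.Agent.Omega.FrameMulti
open Triangle (KK KK_conj KK_le_o2 mem_cent mem_KK mem_zpowers_iff_of_sq cent_conj o2_cent_conj)
open Supply
open Cfsg.Agent.Omega.ThmC (Dat S0)
open Cfsg.Agent.Omega.ThmC.TwoOf (exists_blk centralizer_o2_le)
open Cfsg.Agent.Omega.IITwo.Three (Blk)

universe u

variable {G : Type u} [Group G] [Finite G]

/-- `S⁰` normalises the `V l` -/
theorem Rd.S0_norm {S : Sylow 2 G} {Q : Subgroup G} {ι : Type} {Z : ι → Subgroup G} {x z : ι → G} [Finite ι]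
    {D : Dat S Q Z x z} {V : ι → Subgroup G} (R : Rd D V) (i : ι) :
    S0 (S : Subgroup G) Z ≤ normalizer (V i : Set G) := by
  intro s hs
  rw [ThmC.mem_S0] at hs
  obtain ⟨j, hj⟩ := R.fr.perm s hs.1 i
  have h1 : s * z i * s⁻¹ ∈ Z i := (mem_normalizer_iff.1 (hs.2 i) _).1 (R.VZ i (R.zV i))
  have h2 : s * z i * s⁻¹ ∈ V j := (hj _).1 (R.zV i)
  have h3 : j = i := by
    by_contra hne
    have h4 := D.disjZ hne (R.VZ j h2) h1
    apply D.z1 i
    calc z i = s⁻¹ * (s * z i * s⁻¹) * s := by group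
      _ = 1 := by rw [h4]; group
  subst h3
  rw [mem_normalizer_iff]
  exact hj

variable {F : Type} [Field F] [Finite F] [CharP F 2] {S : Sylow 2 G}
  {P : Subgroup G} {k : ℕ} {M : NatK F (S : Subgroup G) P (zl (S : Subgroup G) P) ⊥ k}

/-- **The data.** -/
theorem exists_rd_of_fr (hc : IsCharacteristicTwoType G) (hP : IsParS (S : Subgroup G) P) (hC : CC M)
    (hF : Nat.card F = 2) (hk : 0 < k) (fr : Fr (S : Subgroup G) (fac M)) :
    ∃ (Z : Fin k → Subgroup G) (x z : Fin k → G) (D : Dat S (ZN.o2 P) Z x z), Rd D (fac M) ∧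
      ∀ l, z l ∈ line M l := by
  obtain ⟨x, z, B, hx⟩ := exists_blk hF hc hP M hk
  have hSyl := MinSimple.Basic.not_dvd_relIndex S hP.le
  have hcP := IsLoc.char2 S hc hP.isLoc
  have hVA : zl (S : Subgroup G) P ≤ zc (ZN.o2 P) := zl_le_zc hP.le S.isPGroup' hSyl hcP
  have hSC : (S : Subgroup G) ⊓ centralizer (zc (ZN.o2 P) : Set G) ≤ ZN.o2 P :=
    (inf_le_inf_left _ (centralizer_le hVA)).trans
      (inf_centralizer_zl hP.toIsMinPar S.isPGroup' hSyl hcP hP.not_zc).le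
  refine ⟨B.ML, x, B.zl, B.dat hSC (centralizer_o2_le hc S hP), ?_, zl_mem_line hP B⟩
  refine
    { fr := fr
      zV := B.zl_mem_V
      xV := fun l v hv => (mem_normalizer_iff.1 (B.xn l) v).1 hv
      VZ := B.V_le_ML
      qS := ?_ }
  intro l q hq
  obtain ⟨h1, h2⟩ := o2_le_stab hP hC hF (zl_mem_line hP B l) (B.zl_ne_one l)
  have hqS : q ∈ (S : Subgroup G) := (h1.trans (stab_le M l)) hq
  rw [ThmC.mem_S0]
  refine ⟨hqS, fun m => IITwo.Count.mem_norm fun v hv => ?_⟩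
  exact B.conj_ML (B.SP hqS) (Blk.map_of_mem_norm (h2 m hq)) hv

/-- **LEMMA E over `T = stab M i`**. -/
theorem hLE (hc : IsCharacteristicTwoType G) (hP : IsParS (S : Subgroup G) P) (hC : CC M)
    (hF : Nat.card F = 2) (hk : 2 ≤ k) (fr : Fr (S : Subgroup G) (fac M)) {i : Fin k} {κ : Type*}
    {Rp : κ → Subgroup G} (b : BTwo.BTS (fac M i) Rp) {o : κ} (ho : Rp o = line M i)
    (hX : ∀ l, l ≠ i → fac M l ≤ BTwo.CenX (fac M i) Rp)
    (hodd : ¬ 2 ∣ (stab M i).relIndex (normalizer (line M i : Set G)))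
    (hnc : ∃ g ∈ normalizer (line M i : Set G), ∃ v ∈ fac M i, ∃ w ∈ BTwo.cj g (fac M i), v * w ≠ w * v) (j : κ) :
    HTwo.ThmA.LE (fac M i) Rp j := by
  obtain ⟨Z, x, z, D, R, hz⟩ := exists_rd_of_fr hc hP hC hF (by omega) fr
  have hι : ∀ i : Fin k, ∃ j, j ≠ i := by
    have : Nontrivial (Fin k) := Fin.nontrivial_iff_two_le.2 hk
    exact fun i => exists_ne i
  have hline := line_eq_zpowers M hF (hz i) (D.z1 i)
  refine R.le_E hι b (o := o) (fun y => ?_) hX (S.isPGroup'.to_le (stab_le M i))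
    (le_inf Dat.S0_le (R.S0_norm i)) (stab_normalizes M i) ?_ ?_ ?_ j
  · rw [ho, hline]
    exact mem_zpowers_iff_of_sq (R.fr.sq i _ (R.zV i))
  · rw [ho]; exact stab_normalizes_line M hP.isLoc.le i
  · rw [ho]; exact hodd
  · rw [ho]; exact hnc

end Cfsg.Agent.Omega.IId.Big

end
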